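import Groth.Agent.FFormal.Ring
import Groth.Agent.LocPres.Ops
import Mathlib.RingTheory.Flat.EquationalCriterion

/-!
# The structure sheaf of a locally Noetherian formal scheme is coherent

Kernels of morphisms of finitely presented modules on a locally Noetherian formal scheme are of finite type.
-/

set_option autoImplicit false
set_option linter.style.haveILetI false
set_option linter.dupNamespace false

universe u

open CategoryTheory CategoryTheory.Limits AlgebraicGeometry Opposite TopologicalSpace ModSite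

namespace Groth.Agent.FFormal

open Groth.Agent.ModFlat (rs map_val_smul map_val_comp map_ring_comp)
open Groth.Agent.PullFlat (appS appS_res appS_comp rs_id appS_injective exists_cover_bind eq_of_locally eq_zero_of_locally)
open Groth.Agent.LocPres

/-- Solutions over a flat algebra of a linear system are spanned by solutions over the base. -/
theorem mem_span_of_flat {A B : Type u} [CommRing A] [CommRing B] (φ : A →+* B) (hφ : φ.Flat) {n m p : ℕ}
    (a : Fin n → Fin p → A) (r : Fin m → Fin p → A) (c : Fin n → B) (b : Fin m → B)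
    (h : ∀ i, ∑ j, c j * φ (a j i) = ∑ k, b k * φ (r k i)) :
    c ∈ Submodule.span B ((fun c0 => φ ∘ c0) ''
      {c0 : Fin n → A | ∃ b0 : Fin m → A, ∀ i, ∑ j, c0 j * a j i = ∑ k, b0 k * r k i}) := by
  letI := φ.toAlgebra
  haveI : Module.Flat A B := hφ
  classical
  let x : (Fin n ⊕ Fin m → A) →ₗ[A] B := Fintype.linearCombination A (Sum.elim c b)
  let f : (Fin p → A) →ₗ[A] (Fin n ⊕ Fin m → A) :=
    Fintype.linearCombination A fun i => Sum.elim (fun j => a j i) (fun k => -r k i)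
  have hxf : x ∘ₗ f = 0 := by
    refine (Pi.basisFun A (Fin p)).ext fun i => ?_
    simp only [f, LinearMap.comp_apply, Pi.basisFun_apply, Fintype.linearCombination_apply_single, one_smul,
      LinearMap.zero_apply]
    simp only [x, Fintype.linearCombination_apply, Fintype.sum_sum_type, Sum.elim_inl, Sum.elim_inr,
      Algebra.smul_def, RingHom.algebraMap_toAlgebra, map_neg, neg_mul, Finset.sum_neg_distrib]
    rw [add_neg_eq_zero]
    refine (Finset.sum_congr rfl fun j _ => mul_comm _ _).trans ((h i).trans ?_)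
    exact Finset.sum_congr rfl fun k _ => mul_comm _ _
  obtain ⟨K, g, y, hxy, hgf⟩ := Module.Flat.exists_factorization_of_comp_eq_zero_of_free hxf
  let w : Fin K → (Fin n ⊕ Fin m) → A := fun s t => g (Pi.single t 1) s
  have hg : ∀ (v : Fin n ⊕ Fin m → A) (s : Fin K), g v s = ∑ t, v t * w s t := fun v s => by
    conv_lhs => rw [← (Pi.basisFun A (Fin n ⊕ Fin m)).sum_repr v]
    simp [map_sum, map_smul, w, Pi.basisFun_apply]
  have hw : ∀ s, ∀ i, ∑ j, w s (Sum.inl j) * a j i = ∑ k, w s (Sum.inr k) * r k i := fun s i => by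
    have := DFunLike.congr_fun (LinearMap.congr_fun hgf (Pi.single i 1)) s
    simp only [f, LinearMap.comp_apply, Fintype.linearCombination_apply_single, one_smul, hg,
      Fintype.sum_sum_type, Sum.elim_inl, Sum.elim_inr, neg_mul, Finset.sum_neg_distrib,
      LinearMap.zero_apply, Finsupp.coe_zero, Pi.zero_apply, add_neg_eq_zero] at this
    refine (Finset.sum_congr rfl fun j _ => mul_comm _ _).trans (this.trans ?_)
    exact Finset.sum_congr rfl fun k _ => mul_comm _ _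
  have hc : c = ∑ s, y (Finsupp.single s 1) • (φ ∘ fun j => w s (Sum.inl j)) := by
    funext j
    have := LinearMap.congr_fun hxy (Pi.single (Sum.inl j) 1)
    simp only [x, LinearMap.comp_apply, Fintype.linearCombination_apply_single, one_smul, Sum.elim_inl] at this
    rw [this]
    conv_lhs => rw [← Finsupp.univ_sum_single (g (Pi.single (Sum.inl j) 1)), map_sum]
    simp only [Finset.sum_apply, Pi.smul_apply, Function.comp_apply, smul_eq_mul]
    refine Finset.sum_congr rfl fun s _ => ?_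
    rw [show Finsupp.single s (g (Pi.single (Sum.inl j) 1) s) = (w s (Sum.inl j)) • Finsupp.single s (1 : A) by
      rw [Finsupp.smul_single, smul_eq_mul, mul_one], map_smul, Algebra.smul_def, RingHom.algebraMap_toAlgebra,
      mul_comm]
  rw [hc]
  exact Submodule.sum_mem _ fun s _ => Submodule.smul_mem _ _ (Submodule.subset_span ⟨_, ⟨_, hw s⟩, rfl⟩)

variable {𝔛 : FSch.Sys.{u}} {h : 𝔛.IsFormal}

theorem rs_smul {F : FSch.ModF 𝔛 h} {V U : (𝔛.X 0).Opens} (hVU : V ≤ U) (r : Rg h U) (x : sect F U) :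
    rs F (homOfLE hVU) (r • x) = rsR h hVU r • rs F (homOfLE hVU) x :=
  map_val_smul _ _ _

theorem rsR_rsR {W V U : (𝔛.X 0).Opens} (hWV : W ≤ V) (hVU : V ≤ U) (r : Rg h U) :
    rsR h hWV (rsR h hVU r) = rsR h (hWV.trans hVU) r :=
  (map_ring_comp (O := 𝔛.Osh h) (homOfLE hWV) (homOfLE hVU) r).symm

/-- Covering sieves from neighbourhoods of points. -/
theorem exists_cover_of_nhds {U : (𝔛.X 0).Opens} (P : (𝔛.X 0).Opens → Prop)
    (hP : ∀ x ∈ U, ∃ W : (𝔛.X 0).Opens, x ∈ W ∧ W ≤ U ∧ P W) :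
    ∃ S ∈ Opens.grothendieckTopology (𝔛.X 0) U, ∀ ⦃V : (𝔛.X 0).Opens⦄ (g : V ⟶ U), S g → ∃ W, V ≤ W ∧ W ≤ U ∧ P W := by
  refine ⟨{ arrows := fun V _ => ∃ W, V ≤ W ∧ W ≤ U ∧ P W
            downward_closed := fun {Y Z} {f} hf g => ?_ }, fun x hx => ?_, fun V g hg => hg⟩
  · obtain ⟨W, h1, h2⟩ := hf
    exact ⟨W, g.le.trans h1, h2⟩
  · obtain ⟨W, hxW, hWU, hW⟩ := hP x hx
    exact ⟨W, homOfLE hWU, ⟨W, le_rfl, hWU, hW⟩, hxW⟩

/-- Every open is covered by affine opens. -/
theorem exists_cover_affine (U : (𝔛.X 0).Opens) :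
    ∃ S ∈ Opens.grothendieckTopology (𝔛.X 0) U, ∀ ⦃V : (𝔛.X 0).Opens⦄ (g : V ⟶ U), S g →
      ∃ W, V ≤ W ∧ W ≤ U ∧ IsAffineOpen W :=
  exists_cover_of_nhds (fun W => IsAffineOpen W) fun x hx => by
    obtain ⟨_, ⟨W, hW, rfl⟩, hxW, hWU⟩ := (𝔛.X 0).isBasis_affineOpens.exists_subset_of_mem_open hx U.isOpen
    exact ⟨W, hxW, hWU, hW⟩

/-- A presentation over a free module. -/
noncomputable def locPresFree (n : ℕ) (U : (𝔛.X 0).Opens) :
    LocPres (PullFlat.finFree (𝔛.Osh h) n) U where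
  n := n
  m := 0
  s i := PullFlat.bas ⟨i⟩
  r k := k.elim0
  rel k := k.elim0
  gen {T} a x := by
    refine ⟨⊤, GrothendieckTopology.top_mem _ _, fun V g _ => ?_⟩
    refine ⟨fun i => PullFlat.coeff (𝔛.Osh h) V n (rs _ g x) ⟨i⟩, ?_⟩
    conv_rhs => rw [PullFlat.eq_sum_coeff (rs (PullFlat.finFree (𝔛.Osh h) n) g x)]
    refine (Fintype.sum_equiv Equiv.ulift _ _ fun i => ?_).symm
    rw [rs_bas]
    rfl
  relgen {T} a c hc := by
    refine ⟨⊤, GrothendieckTopology.top_mem _ _, fun V g _ => ⟨fun k => k.elim0, fun i => ?_⟩⟩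
    have := congrFun (congrArg (PullFlat.coeff (𝔛.Osh h) T n) hc) ⟨i⟩
    simp only [rs_bas, map_sum, map_smul, coeff_bas, map_zero, Pi.zero_apply, Finset.sum_apply, Pi.smul_apply,
      Pi.single_apply, smul_eq_mul, mul_ite, mul_one, mul_zero, ULift.up.injEq, Finset.sum_ite_eq,
      Finset.mem_univ, if_true] at this
    rw [this, map_zero]
    simp

theorem isCohF_free (n : ℕ) : FSch.IsCohF 𝔛 h (PullFlat.finFree (𝔛.Osh h) n) :=
  isFinitePresentation_of_cover fun U => ⟨⊤, GrothendieckTopology.top_mem _ _, fun V _ _ => ⟨locPresFree n V⟩⟩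

/-- A presentation of the structure sheaf. -/
noncomputable def locPresUnit (U : (𝔛.X 0).Opens) : LocPres (FSch.unitF 𝔛 h) U where
  n := 1
  m := 0
  s _ := (1 : Rg h U)
  r k := k.elim0
  rel k := k.elim0
  gen {T} a x := by
    refine ⟨⊤, GrothendieckTopology.top_mem _ _, fun V g _ => ⟨fun _ => (rs (FSch.unitF 𝔛 h) g x : Rg h V), ?_⟩⟩
    rw [Fin.sum_univ_one]
    change (show Rg h V from rs (FSch.unitF 𝔛 h) g x) * ((𝔛.Osh h).obj.map (g ≫ a).op).hom 1 = _
    rw [map_one, mul_one]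
  relgen {T} a c hc := by
    refine ⟨⊤, GrothendieckTopology.top_mem _ _, fun V g _ => ⟨fun k => k.elim0, fun i => ?_⟩⟩
    rw [Fin.sum_univ_one] at hc
    have hc' : c 0 = 0 :=
      ((mul_one (c 0)).symm.trans (congrArg (c 0 * ·) (map_one ((𝔛.Osh h).obj.map a.op).hom).symm)).trans hc
    rw [Subsingleton.elim i 0, hc', map_zero]
    simp

theorem isCohF_unitF : FSch.IsCohF 𝔛 h (FSch.unitF 𝔛 h) :=
  isFinitePresentation_of_cover fun U => ⟨⊤, GrothendieckTopology.top_mem _ _, fun V _ _ => ⟨locPresUnit V⟩⟩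

variable (hN : 𝔛.IsLocNoethFormal)

include hN in
/-- Solutions of a linear system on an affine open generate the solutions on every smaller open. -/
theorem exists_system_gens {W : (𝔛.X 0).Opens} (hW : IsAffineOpen W) {n m p : ℕ}
    (a : Fin n → Fin p → Rg h W) (r : Fin m → Fin p → Rg h W) :
    ∃ (q : ℕ) (e : Fin q → Fin n → Rg h W),
      (∀ l, ∃ b0 : Fin m → Rg h W, ∀ i, ∑ j, e l j * a j i = ∑ k, b0 k * r k i) ∧
      ∀ {T : (𝔛.X 0).Opens} (hTW : T ≤ W) (c : Fin n → Rg h T) (b : Fin m → Rg h T),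
        (∀ i, ∑ j, c j * rsR h hTW (a j i) = ∑ k, b k * rsR h hTW (r k i)) →
        ∃ S ∈ Opens.grothendieckTopology (𝔛.X 0) T, ∀ ⦃V : (𝔛.X 0).Opens⦄ (g : V ⟶ T), S g →
          ∃ d : Fin q → Rg h V, ∀ j, rsR h g.le (c j) = ∑ l, d l * rsR h (g.le.trans hTW) (e l j) := by
  haveI := isNoetherianRing h hN hW
  let K : Submodule (Rg h W) (Fin n → Rg h W) :=
    { carrier := {c0 | ∃ b0 : Fin m → Rg h W, ∀ i, ∑ j, c0 j * a j i = ∑ k, b0 k * r k i}
      zero_mem' := ⟨0, fun i => by simp⟩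
      add_mem' := fun {c c'} ⟨b, hb⟩ ⟨b', hb'⟩ => ⟨b + b', fun i => by
        simp only [Pi.add_apply, add_mul, Finset.sum_add_distrib, hb i, hb' i]⟩
      smul_mem' := fun t {c} ⟨b, hb⟩ => ⟨t • b, fun i => by
        simp only [Pi.smul_apply, smul_eq_mul, mul_assoc, ← Finset.mul_sum, hb i]⟩ }
  obtain ⟨q, e, he⟩ := Submodule.fg_iff_exists_fin_generating_family.1 (IsNoetherian.noetherian K)
  refine ⟨q, e, fun l => (show e l ∈ K from he ▸ Submodule.subset_span ⟨l, rfl⟩), fun {T} hTW c b hcb => ?_⟩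
  obtain ⟨S, hS, hS'⟩ := exists_cover_affine (𝔛 := 𝔛) T
  refine ⟨S, hS, fun V g hg => ?_⟩
  obtain ⟨T', hVT', hT'T, hT'⟩ := hS' g hg
  have hT'W := hT'T.trans hTW
  have h1 := mem_span_of_flat (rsR h hT'W) (flat_rsR h hN hT' hW hT'W) a r
    (fun j => rsR h hT'T (c j)) (fun k => rsR h hT'T (b k)) fun i => by
      have := congrArg (rsR h hT'T) (hcb i)
      simpa only [map_sum, map_mul, rsR_rsR] using this
  have h2 : Submodule.span (Rg h T') ((fun c0 => rsR h hT'W ∘ c0) '' (K : Set (Fin n → Rg h W))) ≤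
      Submodule.span (Rg h T') (Set.range fun l => rsR h hT'W ∘ e l) := by
    rw [Submodule.span_le]
    rintro _ ⟨c0, hc0, rfl⟩
    have hc0' : c0 ∈ Submodule.span (Rg h W) (Set.range e) := he.symm ▸ hc0
    obtain ⟨t, rfl⟩ := Submodule.mem_span_range_iff_exists_fun _ |>.1 hc0'
    refine Submodule.mem_span_range_iff_exists_fun _ |>.2 ⟨fun l => rsR h hT'W (t l), ?_⟩
    funext j
    simp [map_sum]
  obtain ⟨d, hd⟩ := Submodule.mem_span_range_iff_exists_fun _ |>.1 (h2 h1)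
  refine ⟨fun l => rsR h hVT' (d l), fun j => ?_⟩
  have := congrArg (rsR h hVT') (congrFun hd j)
  simp only [Finset.sum_apply, Pi.smul_apply, Function.comp_apply, smul_eq_mul, map_sum, map_mul, rsR_rsR] at this
  exact this.symm

include hN in
/-- Kernel of a morphism described by a matrix on an affine open. -/
theorem nonempty_locGen_kernel {F G : FSch.ModF 𝔛 h} (θ : F ⟶ G) {W : (𝔛.X 0).Opens} (hW : IsAffineOpen W)
    (P : LocPres F W) (Q : LocPres G W) (a : Fin P.n → Fin Q.n → Rg h W)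
    (ha : ∀ j, appS θ W (P.s j) = ∑ i, a j i • Q.s i) : Nonempty (LocGen (kernel θ) W) := by
  obtain ⟨q, e, he, hsol⟩ := exists_system_gens hN hW a Q.r
  have hz : ∀ l, appS θ W (∑ j, e l j • P.s j) = 0 := fun l => by
    obtain ⟨b0, hb0⟩ := he l
    rw [appS_sum_smul]
    simp only [ha, Finset.smul_sum, smul_smul]
    rw [Finset.sum_comm]
    simp only [← Finset.sum_smul, hb0]
    simp only [Finset.sum_smul, ← smul_smul]
    rw [Finset.sum_comm]
    simp only [← Finset.smul_sum, Q.rel, smul_zero, Finset.sum_const_zero]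
  choose z hzv using fun l => exists_kernel_el θ _ (hz l)
  refine ⟨{ n := q, s := z, gen := fun {T} t x => ?_ }⟩
  let y : sect F T := appS (kernel.ι θ) T x
  have hy : appS θ T y = 0 := by
    rw [← appS_comp, kernel.condition]
    rfl
  refine exists_cover_bind (fun V g => ∃ c : Fin q → Rg h V,
    ∑ l, c l • rs (kernel θ) (g ≫ t) (z l) = rs (kernel θ) g x) (P.gen t y).choose_spec.1 fun V g hg => ?_
  obtain ⟨c, hc⟩ := (P.gen t y).choose_spec.2 g hg
  have hc0 : ∑ i, (∑ j, c j * rsR h (g ≫ t).le (a j i)) • rs G (g ≫ t) (Q.s i) = 0 := by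
    have h1 := congrArg (appS θ V) hc
    rw [appS_sum_smul, appS_res, hy, map_zero] at h1
    simp only [appS_res, ha, rs_sum_smul] at h1
    rw [← h1]
    simp only [Finset.smul_sum, smul_smul, Finset.sum_smul]
    rw [Finset.sum_comm]
    rfl
  obtain ⟨S₂, hS₂, hS₂'⟩ := Q.relgen (g ≫ t) _ hc0
  refine exists_cover_bind (fun V' g' => ∃ d : Fin q → Rg h V',
    ∑ l, d l • rs (kernel θ) ((g' ≫ g) ≫ t) (z l) = rs (kernel θ) (g' ≫ g) x) hS₂ fun V₂ g₂ hg₂ => ?_
  obtain ⟨b, hb⟩ := hS₂' g₂ hg₂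
  obtain ⟨S₃, hS₃, hS₃'⟩ := hsol (g₂ ≫ g ≫ t).le (fun j => rsR h g₂.le (c j)) b fun i => by
    have := hb i
    rw [map_sum] at this
    simp only [map_mul] at this
    refine Eq.trans ?_ this
    refine Finset.sum_congr rfl fun j _ => congrArg (_ * ·) ?_
    exact map_ring_comp (O := 𝔛.Osh h) g₂ (g ≫ t) (a j i)
  refine ⟨S₃, hS₃, fun V₃ g₃ hg₃ => ?_⟩
  obtain ⟨d, hd⟩ := hS₃' g₃ hg₃
  refine ⟨d, ?_⟩
  refine appS_injective (kernel.ι θ) _ ?_
  rw [appS_sum_smul, appS_res]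
  simp only [appS_res, hzv, rs_sum_smul, Finset.smul_sum, smul_smul]
  rw [Finset.sum_comm, map_val_comp, ← hc, rs_sum_smul]
  refine Finset.sum_congr rfl fun j _ => ?_
  rw [← Finset.sum_smul, ← map_val_comp, Category.assoc]
  refine congrArg (· • _) ?_
  exact ((hd j).trans rfl).symm.trans (rsR_rsR g₃.le g₂.le (c j))

theorem exists_cover_coords {F G : FSch.ModF 𝔛 h} (θ : F ⟶ G) [SheafOfModules.IsFinitePresentation (R := ModSite.ringSh (𝔛.Osh h)) F]
    [SheafOfModules.IsFinitePresentation (R := ModSite.ringSh (𝔛.Osh h)) G] (U : (𝔛.X 0).Opens) :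
    ∃ S ∈ Opens.grothendieckTopology (𝔛.X 0) U, ∀ ⦃V : (𝔛.X 0).Opens⦄ (g : V ⟶ U), S g →
      ∃ (P : LocPres F V) (Q : LocPres G V) (a : Fin P.n → Fin Q.n → Rg h V),
        ∀ j, appS θ V (P.s j) = ∑ i, a j i • Q.s i := by
  obtain ⟨S, hS, hS'⟩ := exists_cover_locPres F U
  refine exists_cover_bind (fun V g => ∃ (P : LocPres F V) (Q : LocPres G V) (a : Fin P.n → Fin Q.n → Rg h V),
    ∀ j, appS θ V (P.s j) = ∑ i, a j i • Q.s i) hS fun V g hg => ?_
  obtain ⟨P⟩ := hS' g hg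
  obtain ⟨T, hT, hT'⟩ := exists_cover_locPres G V
  refine exists_cover_bind (fun V' g' => ∃ (P : LocPres F V') (Q : LocPres G V') (a : Fin P.n → Fin Q.n → Rg h V'),
    ∀ j, appS θ V' (P.s j) = ∑ i, a j i • Q.s i) hT fun V₂ g₂ hg₂ => ?_
  obtain ⟨Q⟩ := hT' g₂ hg₂
  obtain ⟨S₃, hS₃, hS₃'⟩ := Q.toGen.exists_coords fun j => appS θ V₂ ((P.restrict g₂).s j)
  refine ⟨S₃, hS₃, fun V₃ g₃ hg₃ => ?_⟩
  choose a ha using hS₃' g₃ hg₃
  refine ⟨(P.restrict g₂).restrict g₃, Q.restrict g₃, a, fun j => ?_⟩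
  exact (appS_res θ g₃ _).trans (ha j).symm

include hN in
/-- Kernels between finitely presented modules are of finite type. -/
theorem isFiniteType_kernel {F G : FSch.ModF 𝔛 h} (θ : F ⟶ G) [SheafOfModules.IsFinitePresentation (R := ModSite.ringSh (𝔛.Osh h)) F]
    [SheafOfModules.IsFinitePresentation (R := ModSite.ringSh (𝔛.Osh h)) G] :
    SheafOfModules.IsFiniteType (R := ModSite.ringSh (𝔛.Osh h)) (kernel θ) := by
  refine isFiniteType_of_cover fun U => ?_
  obtain ⟨S, hS, hS'⟩ := exists_cover_coords θ U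
  refine exists_cover_bind (fun V _ => Nonempty (LocGen (kernel θ) V)) hS fun V g hg => ?_
  obtain ⟨P, Q, a, ha⟩ := hS' g hg
  obtain ⟨T, hT, hT'⟩ := exists_cover_affine (𝔛 := 𝔛) V
  refine ⟨T, hT, fun V' g' hg' => ?_⟩
  obtain ⟨W, hV'W, hWV, hW⟩ := hT' g' hg'
  obtain ⟨L⟩ := nonempty_locGen_kernel hN θ hW (P.restrict (homOfLE hWV)) (Q.restrict (homOfLE hWV))
    (fun j i => rsR h hWV (a j i)) fun j => by
      show appS θ W (rs F (homOfLE hWV) (P.s j)) = _
      rw [appS_res, ha, rs_sum_smul]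
      rfl
  exact ⟨L.restrict (homOfLE hV'W)⟩

end Groth.Agent.FFormal
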