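import Groth.Agent.FFormal.Amplitude
import Mathlib.CategoryTheory.Sites.SheafCohomology.MayerVietoris
import Mathlib.Topology.Sheaves.MayerVietoris

/-!
# Cohomological dimension of ind-coherent modules on quasi-compact opens of Noetherian formal schemes
-/

set_option autoImplicit false
set_option linter.style.haveILetI false

universe u

open CategoryTheory CategoryTheory.Limits AlgebraicGeometry Opposite TopologicalSpace

namespace Groth.Agent.FFormal.Dimension

/-- Vanishing on a union from vanishing on the parts and on the intersection. -/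
theorem HU_sup {X : TopCat.{u}} (F : CohTop.Ab X) (U V : Opens X) (n : ℕ)
    (hU : Subsingleton (CohTop.HU F (n + 1) U)) (hV : Subsingleton (CohTop.HU F (n + 1) V))
    (hUV : Subsingleton (CohTop.HU F n (U ⊓ V))) : Subsingleton (CohTop.HU F (n + 1) (U ⊔ V)) := by
  let S := Opens.mayerVietorisSquare U V
  have h₁ : IsZero (F.H' n S.X₁) := @AddCommGrpCat.isZero_of_subsingleton _ hUV
  have h₂ : IsZero (F.H' (n + 1) S.X₂ ⊞ F.H' (n + 1) S.X₃) :=
    biprod_isZero_iff _ _ |>.2 ⟨@AddCommGrpCat.isZero_of_subsingleton _ hU,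
      @AddCommGrpCat.isZero_of_subsingleton _ hV⟩
  have h₄ : IsZero (F.H' (n + 1) S.X₄) :=
    ((S.sequence_exact F n (n + 1) rfl).exact 2).isZero_X₂ (h₁.eq_of_src _ _) (h₂.eq_of_tgt _ _)
  exact AddCommGrpCat.subsingleton_of_isZero h₄

variable {𝔛 : FSch.Sys.{u}} (h𝔛 : 𝔛.IsLocNoethFormal)

/-- The ind-coherent modules have no cohomology above `d` on `U`. -/
def Bdd (U : (𝔛.X 0).Opens) (d : ℕ) : Prop :=
  ∀ F : FSch.ModF 𝔛 h𝔛.1, IndP 𝔛 h𝔛.1 F → ∀ k : ℕ, d < k → Subsingleton (ModSite.HU (𝔛.Osh h𝔛.1) F k U)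

variable {h𝔛}

theorem Bdd.mono {U : (𝔛.X 0).Opens} {d d' : ℕ} (h : Bdd h𝔛 U d) (hd : d ≤ d') : Bdd h𝔛 U d' :=
  fun F hF k hk => h F hF k (hd.trans_lt hk)

theorem bdd_affine {U : (𝔛.X 0).Opens} (hU : IsAffineOpen U) : Bdd h𝔛 U 0 :=
  fun F hF k hk => Amplitude.subsingleton_HU h𝔛 hU F hF k hk

theorem Bdd.sup {U V : (𝔛.X 0).Opens} {a b c : ℕ} (hU : Bdd h𝔛 U a) (hV : Bdd h𝔛 V b)
    (hUV : Bdd h𝔛 (U ⊓ V) c) : Bdd h𝔛 (U ⊔ V) (max (max a b) (c + 1)) := fun F hF k hk => by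
  obtain ⟨j, rfl⟩ := Nat.exists_eq_succ_of_ne_zero (by omega : k ≠ 0)
  exact HU_sup (ModSite.toAb F) U V j (hU F hF _ (by omega)) (hV F hF _ (by omega)) (hUV F hF _ (by omega))

variable (h𝔛) in
/-- A union of `n` basic opens of an affine open has dimension at most `n`. -/
theorem bdd_finset {A : (𝔛.X 0).Opens} (hA : IsAffineOpen A) :
    ∀ (n : ℕ) (s : Finset Γ(𝔛.X 0, A)), s.card ≤ n → Bdd h𝔛 (s.sup (𝔛.X 0).basicOpen) n := by
  classical
  intro n
  induction n with
  | zero =>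
    intro s hs
    obtain rfl := Finset.card_eq_zero.1 (Nat.le_zero.1 hs)
    exact bdd_affine (isAffineOpen_bot _)
  | succ n ih =>
    intro s hs
    rcases s.eq_empty_or_nonempty with rfl | ⟨a, ha⟩
    · exact (bdd_affine (isAffineOpen_bot _)).mono (Nat.zero_le _)
    obtain ⟨t, hat, rfl⟩ : ∃ t, a ∉ t ∧ insert a t = s := ⟨s.erase a, Finset.notMem_erase a s, Finset.insert_erase ha⟩
    rw [Finset.card_insert_of_notMem hat] at hs
    rw [Finset.sup_insert]
    have hI : Bdd h𝔛 ((𝔛.X 0).basicOpen a ⊓ t.sup (𝔛.X 0).basicOpen) n := by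
      have := ih (t.image (a * ·)) (Finset.card_image_le.trans (by omega))
      rw [Finset.sup_image] at this
      rw [Finset.sup_inf_distrib_left, show (fun i => (𝔛.X 0).basicOpen a ⊓ (𝔛.X 0).basicOpen i) =
        (𝔛.X 0).basicOpen ∘ (a * ·) from funext fun i => (Scheme.basicOpen_mul _ _ _).symm]
      exact this
    exact ((bdd_affine (hA.basicOpen a)).sup (ih t (by omega)) hI).mono (by omega)

theorem exists_finset {A : (𝔛.X 0).Opens} (hA : IsAffineOpen A) {W : (𝔛.X 0).Opens} (hW : W ≤ A)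
    (hc : IsCompact (W : Set (𝔛.X 0))) : ∃ s : Finset Γ(𝔛.X 0, A), s.sup (𝔛.X 0).basicOpen = W := by
  classical
  choose g hg hpg using fun p : W => hA.exists_basicOpen_le p (hW p.2)
  obtain ⟨σ, hσ⟩ := hc.elim_finite_subcover (fun p => ((𝔛.X 0).basicOpen (g p) : Set (𝔛.X 0)))
    (fun p => ((𝔛.X 0).basicOpen (g p)).isOpen) fun z hz => Set.mem_iUnion.2 ⟨⟨z, hz⟩, hpg ⟨z, hz⟩⟩
  refine ⟨σ.image g, le_antisymm ?_ ?_⟩
  · refine Finset.sup_le fun b hb => ?_
    obtain ⟨p, -, rfl⟩ := Finset.mem_image.1 hb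
    exact hg p
  · intro z hz
    obtain ⟨p, hp, hz'⟩ := Set.mem_iUnion₂.1 (hσ hz)
    exact Finset.le_sup (f := (𝔛.X 0).basicOpen) (Finset.mem_image_of_mem g hp) hz'

variable (h𝔛) in
/-- The basic opens of a compact open have uniformly bounded dimension. -/
theorem exists_bdd_basicOpen [CompactSpace (𝔛.X 0)] (S : (𝔛.X 0).Opens) :
    ∃ d : ℕ, ∀ g : Γ(𝔛.X 0, S), Bdd h𝔛 ((𝔛.X 0).basicOpen g) d := by
  haveI : IsLocallyNoetherian (𝔛.X 0) := h𝔛.2.2 0
  haveI : IsNoetherian (𝔛.X 0) := {}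
  have hcpt : ∀ W : (𝔛.X 0).Opens, IsCompact (W : Set (𝔛.X 0)) := fun W => NoetherianSpace.isCompact _
  refine compact_open_induction_on (P := fun W => ∃ d : ℕ, ∀ g : Γ(𝔛.X 0, W), Bdd h𝔛 ((𝔛.X 0).basicOpen g) d)
    S (hcpt S) ⟨0, fun g => ?_⟩ ?_
  · rw [le_bot_iff.1 ((𝔛.X 0).basicOpen_le g)]
    exact bdd_affine (isAffineOpen_bot _)
  · rintro T - ⟨A, hA⟩ ⟨d, hd⟩
    classical
    obtain ⟨s, hs⟩ := exists_finset hA (inf_le_right : T ⊓ A ≤ A) (hcpt _)
    refine ⟨max (max d 0) (s.card + 1), fun g => ?_⟩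
    let gT := (𝔛.X 0).presheaf.map (homOfLE (le_sup_left : T ≤ T ⊔ A)).op g
    let gA := (𝔛.X 0).presheaf.map (homOfLE (le_sup_right : A ≤ T ⊔ A)).op g
    have e : (𝔛.X 0).basicOpen g = (𝔛.X 0).basicOpen gT ⊔ (𝔛.X 0).basicOpen gA := by
      rw [Scheme.basicOpen_res, Scheme.basicOpen_res, ← inf_sup_right]
      exact (inf_eq_right.2 ((𝔛.X 0).basicOpen_le g)).symm
    have hI : Bdd h𝔛 ((𝔛.X 0).basicOpen gT ⊓ (𝔛.X 0).basicOpen gA) s.card := by
      have := bdd_finset h𝔛 hA s.card (s.image (gA * ·)) Finset.card_image_le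
      rw [Finset.sup_image, show (𝔛.X 0).basicOpen ∘ (gA * ·) =
        fun i => (𝔛.X 0).basicOpen gA ⊓ (𝔛.X 0).basicOpen i from funext fun i => Scheme.basicOpen_mul _ _ _,
        ← Finset.sup_inf_distrib_left, hs] at this
      convert this using 1
      rw [Scheme.basicOpen_res, Scheme.basicOpen_res]
      simp only [inf_assoc, inf_comm, inf_left_comm]
      simp
    rw [e]
    exact (hd gT).sup (bdd_affine (hA.basicOpen gA)) hI

variable (h𝔛) in
theorem exists_bdd [CompactSpace (𝔛.X 0)] (S : (𝔛.X 0).Opens) : ∃ d : ℕ, Bdd h𝔛 S d := by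
  obtain ⟨d, hd⟩ := exists_bdd_basicOpen h𝔛 S
  refine ⟨d, ?_⟩
  have := hd 1
  rwa [Scheme.basicOpen_of_isUnit _ isUnit_one] at this

end Groth.Agent.FFormal.Dimension

namespace Groth.Agent.FFormal.Dimension

open ModSite
open Groth.Agent.ModFlat (rs map_val_comp)
open Groth.Agent.KFlat (freeU freeUEquiv freeUEquiv_comp)

variable {X : TopCat.{u}} (O : Sheaf (Opens.grothendieckTopology X) CommRingCat.{u})

/-- Global sections are sections over the top open. -/
noncomputable def sectionsTop (M : Mod O) : M.sections ≃ sect M ⊤ where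
  toFun s := s.val (op ⊤)
  invFun x := PresheafOfModules.sectionsMk (fun U => rs M (homOfLE (le_top : U.unop ≤ ⊤)) x) fun U V g =>
    (map_val_comp (F := M) g.unop (homOfLE le_top) x).symm.trans
      (congrArg (fun t => rs M t x) (Subsingleton.elim _ _))
  left_inv s := PresheafOfModules.sections_ext _ _ fun U =>
    PresheafOfModules.sections_property s (homOfLE (le_top : U.unop ≤ ⊤)).op
  right_inv x := (congrArg (fun t => rs M t x) (Subsingleton.elim _ (𝟙 _))).trans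
    ((PresheafOfModules.congr_map_apply M.val (op_id) x).trans (PresheafOfModules.map_id M.val _ ▸ rfl))

/-- The free module on the whole space is the unit. -/
noncomputable def freeTopIso : freeU O ⊤ ≅ ModSite.unit O :=
  let F := SheafOfModules.forget (ringSh O) ⋙ PresheafOfModules.evaluation _ (op (⊤ : Opens X)) ⋙ forget _
  ({ homEquiv := fun {M} => freeUEquiv ⊤ M, homEquiv_comp := fun g φ => freeUEquiv_comp _ φ g } :
      F.CorepresentableBy (freeU O ⊤)).uniqueUpToIso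
    ({ homEquiv := fun {M} => M.unitHomEquiv.trans (sectionsTop O M)
       homEquiv_comp := fun g φ => rfl } : F.CorepresentableBy (ModSite.unit O))

end Groth.Agent.FFormal.Dimension
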