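import Groth.Agent.FFormal.IndQCoh
import Groth.Agent.FFormal.Dimension
import Groth.Agent.FFormal.Coh

/-!
# Ind-coherent modules on an affine formal scheme are cokernels of maps of free modules
-/

set_option autoImplicit false
set_option linter.style.haveILetI false

universe u

open CategoryTheory CategoryTheory.Limits AlgebraicGeometry Opposite TopologicalSpace ModSite

namespace Groth.Agent.FFormal.AffPres

open Groth.Agent.ModFlat (rs map_val_comp)
open Groth.Agent.PullFlat (appS appS_res)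
open Groth.Agent.LocPres

variable {𝔛 : FSch.Sys.{u}} {h : 𝔛.IsFormal} (hN : 𝔛.IsLocNoethFormal)

include hN in
theorem indP_free (I : Type u) :
    IndP 𝔛 h (SheafOfModules.free (R := ringSh (𝔛.Osh h)) I : FSch.ModF 𝔛 h) := by
  haveI : IsGrothendieckAbelian.{u} (FSch.ModF 𝔛 h) := ModShf.isGrothendieckAbelian _
  haveI := isClosedUnderColimitsOfShape_indP (h := h) hN (Discrete I)
  exact ObjectProperty.prop_of_isColimit (IndP 𝔛 h) (coproductIsCoproduct fun _ : I => FSch.unitF 𝔛 h)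
    fun _ => ObjectProperty.le_ind _ _ isCohF_unitF

include hN in
/-- Ind-coherent modules on an affine formal scheme are globally generated. -/
theorem exists_epi_free [IsAffine (𝔛.X 0)] {F : FSch.ModF 𝔛 h} (hF : IndP 𝔛 h F) :
    ∃ (I : Type u) (π : (SheafOfModules.free (R := ringSh (𝔛.Osh h)) I : FSch.ModF 𝔛 h) ⟶ F), Epi π := by
  obtain ⟨J, _, _, P, hP⟩ := hF
  obtain ⟨G⟩ := nonempty_gPres_colim hN P.isColimit hP (isAffineOpen_top (𝔛.X 0))
  let σ : G.I → SheafOfModules.sections (R := ringSh (𝔛.Osh h)) F :=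
    fun i => (Dimension.sectionsTop (𝔛.Osh h) F).symm (G.s i)
  let π : (SheafOfModules.free (R := ringSh (𝔛.Osh h)) G.I : FSch.ModF 𝔛 h) ⟶ F :=
    (SheafOfModules.freeHomEquiv F).symm σ
  have hπ : ∀ i, appS π ⊤ (freeT (𝔛.Osh h) ⊤ G.I i) = G.s i := fun i => by
    have h1 : σ i = SheafOfModules.unitHomEquiv F (SheafOfModules.ιFree i ≫ π) :=
      (congrFun ((SheafOfModules.freeHomEquiv F).apply_symm_apply σ) i).symm
    refine Eq.trans ?_ ((congrArg (fun t => t.val (op ⊤)) h1).symm.trans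
      ((Dimension.sectionsTop (𝔛.Osh h) F).apply_symm_apply (G.s i)))
    exact congrArg (appS π ⊤) (Groth.Agent.ModAlg.basisEl_eq i (op ⊤))
  refine ⟨G.I, π, SitePull.epi_of_locally_surjective π fun V x => ?_⟩
  obtain ⟨S, hS, hS'⟩ := G.sgen (homOfLE le_top : V ⟶ ⊤) x
  refine ⟨S, hS, fun W g hg => ?_⟩
  obtain ⟨c, hc⟩ := hS' g hg
  refine ⟨combS (freeT (𝔛.Osh h) ⊤ G.I) (g ≫ homOfLE le_top) c, Eq.trans ?_ hc⟩
  refine (Finsupp.apply_linearCombination (R := (𝔛.Osh h).obj.obj (op W)) (appS π W) _ c).trans ?_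
  exact congrArg (fun v : G.I → sect F W => Finsupp.linearCombination ((𝔛.Osh h).obj.obj (op W)) v c)
    (funext fun i => (appS_res π (g ≫ homOfLE le_top) _).trans (congrArg (rs F _) (hπ i)))

include hN in
theorem indP_iff [IsAffine (𝔛.X 0)] (F : FSch.ModF 𝔛 h) :
    IndP 𝔛 h F ↔ ∃ (α β : Type u) (φ : (SheafOfModules.free (R := ringSh (𝔛.Osh h)) α : FSch.ModF 𝔛 h) ⟶
      SheafOfModules.free (R := ringSh (𝔛.Osh h)) β), Nonempty (cokernel φ ≅ F) := by
  refine ⟨fun hF => ?_, fun ⟨α, β, φ, ⟨e⟩⟩ =>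
    (IndP 𝔛 h).prop_of_iso e (ind_cokernel hN φ (indP_free hN α) (indP_free hN β))⟩
  obtain ⟨β, π, hπ⟩ := exists_epi_free hN hF
  obtain ⟨α, ψ, hψ⟩ := exists_epi_free hN (ind_kernel hN π (indP_free hN β) hF)
  refine ⟨α, β, ψ ≫ kernel.ι π, ⟨?_⟩⟩
  exact cokernelEpiComp ψ (kernel.ι π) ≪≫
    (cokernelIsCokernel _).coconePointUniqueUpToIso
      (Abelian.epiIsCokernelOfKernel _ (limit.isLimit (parallelPair π 0)))

end Groth.Agent.FFormal.AffPres
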