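import Groth.Agent.FFormal.Amplitude
import Groth.Agent.SitePull.UnitSingle
import Groth.Agent.DTrunc.DerivedPushAdj

/-!
# Affine morphisms of formal schemes have no higher direct images on ind-coherent modules
-/

set_option autoImplicit false
set_option linter.style.haveILetI false

universe u

open CategoryTheory CategoryTheory.Limits AlgebraicGeometry DerivedCategory

attribute [local instance] HasDerivedCategory.standard

namespace Groth.Agent.FFormal.AffRpush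

theorem isZero_rpush {𝔛 𝔜 : FSch.Sys.{u}} (h𝔛 : 𝔛.IsLocNoethFormal) (h𝔜 : 𝔜.IsFormal) (g : 𝔛 ⟶ 𝔜)
    [IsAffineHom ((g : FSch.Hom 𝔛 𝔜).app 0)] [HasInjectiveResolutions (FSch.ModF 𝔛 h𝔛.1)]
    (M : FSch.ModF 𝔛 h𝔛.1) (hM : IndP 𝔛 h𝔛.1 M) (i : ℕ) (hi : 0 < i) :
    IsZero ((FSch.RpushF g h𝔛.1 h𝔜 i).obj M) := by
  haveI : IsGrothendieckAbelian.{u} (FSch.ModF 𝔛 h𝔛.1) := ModShf.isGrothendieckAbelian _
  haveI : SiteCmp.HasRpushD (FSch.homMor g h𝔛.1 h𝔜) :=
    (DTrunc.RightDerived.hasEnough _).hasRightDerivedFunctor _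
  obtain ⟨e⟩ := SitePull.exists_iso_rightDerived (FSch.homMor g h𝔛.1 h𝔜).push M 0 i i (zero_add _)
  refine (SitePull.isZero_H_push (FSch.homMor g h𝔛.1 h𝔜) {W : (𝔜.X 0).Opens | IsAffineOpen W}
    (Amplitude.affine_basis _) M i (by omega) fun V hV p hp => ?_).of_iso e.symm
  exact Amplitude.subsingleton_HU h𝔛 (hV.preimage ((g : FSch.Hom 𝔛 𝔜).app 0)) M hM p hp

end Groth.Agent.FFormal.AffRpush
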