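import Groth.Agent.FFormal.IndColim
import Groth.Agent.IndCoh.Grothendieck
import Groth.Agent.IndCoh.Small
import Groth.Agent.ModShf.GrothAb

/-!
# The category of ind-coherent modules: kernels, cokernels, colimits
-/

set_option autoImplicit false
set_option linter.style.haveILetI false
set_option linter.dupNamespace false

universe u

open CategoryTheory CategoryTheory.Limits AlgebraicGeometry Opposite TopologicalSpace ModSite

namespace Groth.Agent.FFormal

open Groth.Agent.ModFlat (rs map_val_smul map_val_comp map_ring_comp)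
open Groth.Agent.PullFlat (appS appS_res appS_comp appS_injective exists_cover_bind eq_of_locally eq_zero_of_locally
  exists_local_lift mono_of_appS_injective)
open Groth.Agent.LocPres

variable {𝔛 : FSch.Sys.{u}} {h : 𝔛.IsFormal} (hN : 𝔛.IsLocNoethFormal)

variable (𝔛 h) in
/-- The ind-coherent modules. -/
abbrev IndP : ObjectProperty (FSch.ModF 𝔛 h) := ObjectProperty.ind.{u} fun G => FSch.IsCohF 𝔛 h G

/-- Sections killed by a cokernel projection come locally from the source. -/
theorem exists_local_preimage_cokernel {F G : FSch.ModF 𝔛 h} (φ : F ⟶ G) {U : (𝔛.X 0).Opens} (x : sect G U)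
    (hx : appS (cokernel.π φ) U x = 0) :
    ∃ S ∈ Opens.grothendieckTopology (𝔛.X 0) U, ∀ ⦃V : (𝔛.X 0).Opens⦄ (g : V ⟶ U), S g →
      ∃ y, appS φ V y = rs G g x := by
  obtain ⟨z, rfl⟩ := exists_kernel_el _ x hx
  haveI : Epi (kernel.lift (cokernel.π φ) φ (cokernel.condition φ)) :=
    (ShortComplex.exact_cokernel φ).epi_kernelLift
  obtain ⟨S, hS, hS'⟩ := exists_local_lift (kernel.lift (cokernel.π φ) φ (cokernel.condition φ)) z
  refine ⟨S, hS, fun V g hg => ?_⟩
  obtain ⟨y, hy⟩ := hS' g hg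
  refine ⟨y, ?_⟩
  refine (congrArg (fun t => appS t V y) (kernel.lift_ι (cokernel.π φ) φ (cokernel.condition φ))).symm.trans ?_
  exact (appS_comp _ _ _).trans ((congrArg (appS (kernel.ι (cokernel.π φ)) V) hy).trans (appS_res _ _ _))

section Build

variable {Λ : Type u} [SmallCategory Λ] (D : Λ ⥤ FSch.ModF 𝔛 h) {X : FSch.ModF 𝔛 h}
  (g : D ⟶ (Functor.const Λ).obj X)

/-- The images of the stages. -/
noncomputable def imgDiag : Λ ⥤ FSch.ModF 𝔛 h where
  obj l := Abelian.coimage (g.app l)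
  map {l m} f := cokernel.map _ _ (kernel.map (g.app l) (g.app m) (D.map f) (𝟙 X) (by
    simpa using (g.naturality f).symm)) (D.map f) (kernel.lift_ι _ _ _).symm
  map_id l := by
    apply coequalizer.hom_ext
    simp [Abelian.coimage]
  map_comp {l m n} f f' := by
    apply coequalizer.hom_ext
    simp [Abelian.coimage]

/-- The cocone of the images. -/
noncomputable def imgCocone : Cocone (imgDiag D g) where
  pt := X
  ι :=
    { app := fun l => Abelian.factorThruCoimage (g.app l)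
      naturality := fun l m f => by
        apply coequalizer.hom_ext
        simpa [imgDiag, Abelian.coimage, Abelian.factorThruCoimage] using g.naturality f }

variable [IsFiltered Λ]

include hN in
/-- A jointly surjective filtered family of coherent modules with coherent kernels presents an ind-coherent
module, with injective structure maps. -/
theorem exists_mono_presentation (hD : ∀ l, FSch.IsCohF 𝔛 h (D.obj l))
    (hk : ∀ l, FSch.IsCohF 𝔛 h (kernel (g.app l)))
    (hsurj : ∀ (T : (𝔛.X 0).Opens) (x : sect X T), ∃ S ∈ Opens.grothendieckTopology (𝔛.X 0) T,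
      ∀ ⦃V : (𝔛.X 0).Opens⦄ (j : V ⟶ T), S j → ∃ (l : Λ) (y : sect (D.obj l) V), appS (g.app l) V y = rs X j x) :
    ∃ pres : ColimitPresentation Λ X,
      (∀ l, FSch.IsCohF 𝔛 h (pres.diag.obj l)) ∧ ∀ l, Mono (pres.ι.app l) := by
  let c := imgCocone D g
  have hc : IsColimit c := by
    let d := colimit.desc (imgDiag D g) c
    have hmono : Mono d := mono_of_appS_injective d fun T y hy => by
      obtain ⟨S, hS, hS'⟩ := exists_stage (colimit.isColimit (imgDiag D g)) y
      refine eq_zero_of_locally _ hS y fun V j hj => ?_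
      obtain ⟨l, z, hz⟩ := hS' j hj
      haveI : Mono (colimit.ι (imgDiag D g) l ≫ d) := by
        rw [colimit.ι_desc]
        exact inferInstanceAs (Mono (Abelian.factorThruCoimage (g.app l)))
      have h0 : appS (colimit.ι (imgDiag D g) l ≫ d) V z = 0 := by
        rw [appS_comp]
        refine (congrArg (appS d V) hz).trans ?_
        exact (appS_res d j y).trans ((congrArg (rs X j) hy).trans (map_zero _))
      refine hz.symm.trans ?_
      exact (congrArg (appS _ V) (appS_injective _ V (h0.trans (map_zero _).symm))).trans (map_zero _)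
    have hepi : Epi d := Preadditive.epi_of_cancel_zero _ fun {Z} t ht => by
      refine SheafOfModules.hom_ext (PresheafOfModules.hom_ext fun U => ModuleCat.hom_ext (LinearMap.ext fun x => ?_))
      obtain ⟨S, hS, hS'⟩ := hsurj U.unop x
      refine eq_zero_of_locally (F := Z) hS (appS t U.unop x) fun V j hj => ?_
      obtain ⟨l, y, hy⟩ := hS' j hj
      have e : cokernel.π (kernel.ι (g.app l)) ≫ colimit.ι (imgDiag D g) l ≫ d = g.app l :=
        (congrArg (cokernel.π (kernel.ι (g.app l)) ≫ ·) (colimit.ι_desc c l)).trans (cokernel.π_desc _ _ _)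
      have e2 : g.app l ≫ t = 0 := by
        refine (congrArg (· ≫ t) e.symm).trans ?_
        exact (Category.assoc _ _ _).trans ((congrArg (_ ≫ ·) ((Category.assoc _ _ _).trans
          ((congrArg (_ ≫ ·) ht).trans comp_zero))).trans comp_zero)
      refine (appS_res t j x).symm.trans ((congrArg (appS t V) hy.symm).trans ?_)
      exact (appS_comp _ _ _).symm.trans (congrArg (fun t => appS t V y) e2)
    haveI : IsIso d := isIso_of_mono_of_epi d
    exact @IsColimit.ofPointIso _ _ _ _ _ _ c (colimit.isColimit (imgDiag D g)) (show IsIso d from inferInstance)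
  refine ⟨⟨_, c.ι, hc⟩, fun l => ?_, fun l => inferInstanceAs (Mono (Abelian.factorThruCoimage (g.app l)))⟩
  haveI : SheafOfModules.IsFinitePresentation (R := ModSite.ringSh (𝔛.Osh h)) (D.obj l) := hD l
  haveI : SheafOfModules.IsFinitePresentation (R := ModSite.ringSh (𝔛.Osh h)) (kernel (g.app l)) := hk l
  haveI : SheafOfModules.IsFiniteType (R := ModSite.ringSh (𝔛.Osh h)) (kernel (g.app l)) := inferInstance
  exact LocPres.isFinitePresentation_cokernel (kernel.ι (g.app l))

end Build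

include hN in
/-- An ind-coherent module is the filtered union of coherent submodules. -/
theorem exists_mono_presentation_of_ind {X : FSch.ModF 𝔛 h} (hX : IndP 𝔛 h X) :
    ∃ (J : Type u) (_ : SmallCategory J) (_ : IsFiltered J) (pres : ColimitPresentation J X),
      (∀ j : J, FSch.IsCohF 𝔛 h (pres.diag.obj j)) ∧ ∀ j : J, Mono (pres.ι.app j) := by
  obtain ⟨J, _, _, P, hP⟩ := hX
  exact ⟨J, inferInstance, inferInstance, exists_mono_presentation hN P.diag P.ι hP
    (fun l => isCohF_kernel_to_colim hN P.isColimit hP (hP l) (P.ι.app l))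
    (fun T x => exists_stage P.isColimit x)⟩

include hN in
theorem ind_kernel {X Y : FSch.ModF 𝔛 h} (θ : X ⟶ Y) (hX : IndP 𝔛 h X) (hY : IndP 𝔛 h Y) :
    IndP 𝔛 h (kernel θ) := by
  obtain ⟨J, _, _, P, hP⟩ := hX
  obtain ⟨J', _, _, Q, hQ⟩ := hY
  let D : J ⥤ FSch.ModF 𝔛 h :=
    { obj := fun l => kernel (P.ι.app l ≫ θ)
      map := fun {l m} f => kernel.map _ _ (P.diag.map f) (𝟙 _) (by
        rw [Category.comp_id, ← Category.assoc]
        exact congrArg (· ≫ θ) (P.w f).symm)
      map_id := fun l => by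
        apply equalizer.hom_ext
        simp
      map_comp := fun {l m n} f f' => by
        apply equalizer.hom_ext
        simp }
  let g : D ⟶ (Functor.const J).obj (kernel θ) :=
    { app := fun l => kernel.lift θ (kernel.ι (P.ι.app l ≫ θ) ≫ P.ι.app l) (by
        rw [Category.assoc]
        exact kernel.condition _)
      naturality := fun l m f => by
        apply equalizer.hom_ext
        simp [D] }
  have hD : ∀ l, FSch.IsCohF 𝔛 h (D.obj l) := fun l =>
    isCohF_kernel_to_colim hN Q.isColimit hQ (hP l) _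
  refine ⟨J, inferInstance, inferInstance, ?_⟩
  refine (exists_mono_presentation hN D g hD (fun l => ?_) fun T x => ?_).imp fun _ hp => hp.1
  · have h1 := isCohF_kernel_to_colim hN P.isColimit hP (hD l) (g.app l ≫ kernel.ι θ)
    exact IndCoh.isFinitePresentation_of_iso (kernelCompMono (g.app l) (kernel.ι θ)) h1
  · obtain ⟨S, hS, hS'⟩ := exists_stage P.isColimit (appS (kernel.ι θ) T x)
    refine ⟨S, hS, fun V j hj => ?_⟩
    obtain ⟨l, y, hy⟩ := hS' j hj
    have h0 : appS (P.ι.app l ≫ θ) V y = 0 := by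
      rw [appS_comp]
      refine (congrArg (appS θ V) hy).trans ?_
      refine (appS_res θ j _).trans ((congrArg (rs Y j) ?_).trans (map_zero _))
      exact (appS_comp _ _ _).symm.trans (congrArg (fun t => appS t T x) (kernel.condition θ))
    obtain ⟨z, hz⟩ := exists_kernel_el _ y h0
    refine ⟨l, z, appS_injective (kernel.ι θ) V ?_⟩
    refine ((appS_comp _ _ _).symm.trans (congrArg (fun t => appS t V z) (kernel.lift_ι _ _ _))).trans ?_
    rw [appS_comp, hz]
    exact hy.trans (appS_res (kernel.ι θ) j x).symm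

section Biprod

variable {A B Y : FSch.ModF 𝔛 h}

theorem appS_desc_pair (f : A ⟶ Y) (g : B ⟶ Y) {V : (𝔛.X 0).Opens} (z : sect A V) (w : sect B V) :
    appS (biprod.desc f g) V (appS (biprod.inl : A ⟶ A ⊞ B) V z + appS (biprod.inr : B ⟶ A ⊞ B) V w) =
      appS f V z + appS g V w := by
  refine (map_add _ _ _).trans (congrArg₂ (· + ·) ?_ ?_)
  · exact (appS_comp _ _ _).symm.trans (congrArg (fun t => appS t V z) (biprod.inl_desc f g))
  · exact (appS_comp _ _ _).symm.trans (congrArg (fun t => appS t V w) (biprod.inr_desc f g))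

theorem appS_fst_pair {V : (𝔛.X 0).Opens} (z : sect A V) (w : sect B V) :
    appS (biprod.fst : A ⊞ B ⟶ A) V (appS (biprod.inl : A ⟶ A ⊞ B) V z + appS (biprod.inr : B ⟶ A ⊞ B) V w) = z := by
  refine (map_add _ _ _).trans ((congrArg₂ (· + ·) ?_ ?_).trans (add_zero z))
  · exact (appS_comp _ _ _).symm.trans ((congrArg (fun t => appS t V z) biprod.inl_fst).trans (IndCoh.appS_id z))
  · exact (appS_comp _ _ _).symm.trans (congrArg (fun t => appS t V w) biprod.inr_fst)

/-- Lifting of a compatible pair to the fibre product. -/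
theorem exists_lift_pair (f : A ⟶ Y) (g : B ⟶ Y) {Z : FSch.ModF 𝔛 h} (c : A ⟶ Z)
    (hw : (kernel.ι (biprod.desc f g) ≫ biprod.fst) ≫ c = 0) {V : (𝔛.X 0).Opens} (x : sect (kernel c) V)
    (w : sect B V) (e : appS g V w = appS f V (appS (kernel.ι c) V x)) :
    ∃ y : sect (kernel (biprod.desc f g)) V,
      appS (kernel.lift c (kernel.ι (biprod.desc f g) ≫ biprod.fst) hw) V y = x := by
  let z : sect A V := appS (kernel.ι c) V x
  let v : sect (A ⊞ B) V := appS (biprod.inl : A ⟶ A ⊞ B) V z + appS (biprod.inr : B ⟶ A ⊞ B) V (-w)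
  have hv : appS (biprod.desc f g) V v = 0 :=
    (appS_desc_pair f g z (-w)).trans ((congrArg (appS f V z + ·) ((map_neg _ w).trans (congrArg Neg.neg e))).trans
      (add_neg_cancel _))
  obtain ⟨y, hy⟩ := exists_kernel_el (biprod.desc f g) v hv
  refine ⟨y, appS_injective (kernel.ι c) V ?_⟩
  refine ((appS_comp _ _ _).symm.trans (congrArg (fun t => appS t V y) (kernel.lift_ι _ _ _))).trans ?_
  exact (appS_comp _ _ _).trans ((congrArg (appS _ V) hy).trans (appS_fst_pair z (-w)))

/-- A section of the preimage of an image comes locally from the fibre products with the stages. -/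
theorem exists_cover_lift {X : FSch.ModF 𝔛 h} {J : Type u} [SmallCategory J] [IsFiltered J] (φ : X ⟶ Y)
    {D : J ⥤ FSch.ModF 𝔛 h} {p : D ⟶ (Functor.const J).obj X} (hp : IsColimit (Cocone.mk X p)) (f : A ⟶ Y)
    (hw : ∀ k, (kernel.ι (biprod.desc f (p.app k ≫ φ)) ≫ biprod.fst) ≫ f ≫ cokernel.π φ = 0)
    {T : (𝔛.X 0).Opens} (x : sect (kernel (f ≫ cokernel.π φ)) T) :
    ∃ S ∈ Opens.grothendieckTopology (𝔛.X 0) T, ∀ ⦃V : (𝔛.X 0).Opens⦄ (j : V ⟶ T), S j →
      ∃ (k : J) (y : sect (kernel (biprod.desc f (p.app k ≫ φ))) V),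
        appS (kernel.lift (f ≫ cokernel.π φ) (kernel.ι (biprod.desc f (p.app k ≫ φ)) ≫ biprod.fst) (hw k)) V y =
          rs (kernel (f ≫ cokernel.π φ)) j x := by
  have h0 : appS (cokernel.π φ) T (appS f T (appS (kernel.ι (f ≫ cokernel.π φ)) T x)) = 0 :=
    ((appS_comp f (cokernel.π φ) _).symm.trans ((appS_comp _ (f ≫ cokernel.π φ) x).symm.trans
      (congrArg (fun t => appS t T x) (kernel.condition (f ≫ cokernel.π φ)))))
  refine (exists_local_preimage_cokernel φ _ h0).elim fun S h => ?_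
  have hS := h.1
  have hS' := h.2
  have h1 : ∀ ⦃V : (𝔛.X 0).Opens⦄ (r : V ⟶ T), S r → ∃ S₂ ∈ Opens.grothendieckTopology (𝔛.X 0) V,
      ∀ ⦃V₂ : (𝔛.X 0).Opens⦄ (r₂ : V₂ ⟶ V), S₂ r₂ → ∃ (k : J) (w₂ : sect (D.obj k) V₂),
        appS (p.app k ≫ φ) V₂ w₂ = appS f V₂ (appS (kernel.ι (f ≫ cokernel.π φ)) V₂
          (rs (kernel (f ≫ cokernel.π φ)) (r₂ ≫ r) x)) := fun V r hr => by
    refine (hS' r hr).elim fun w hw' => (exists_stage hp w).imp fun S₂ h2 => ⟨h2.1, fun V₂ r₂ hr₂ => ?_⟩
    refine (h2.2 r₂ hr₂).imp fun k hk => hk.imp fun w₂ hw₂ => ?_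
    refine (appS_comp _ _ _).trans ((congrArg (appS φ V₂) hw₂).trans ((appS_res φ r₂ w).trans
      ((congrArg (rs Y r₂) hw').trans ?_)))
    refine (map_val_comp _ _ _).symm.trans ?_
    exact ((congrArg (appS f V₂) (appS_res _ _ _)).trans (appS_res f _ _)).symm
  refine (exists_cover_bind (fun V j => ∃ (k : J) (w₂ : sect (D.obj k) V),
    appS (p.app k ≫ φ) V w₂ = appS f V (appS (kernel.ι (f ≫ cokernel.π φ)) V
      (rs (kernel (f ≫ cokernel.π φ)) j x))) hS h1).imp fun S' h3 => ⟨h3.1, fun V j hj => ?_⟩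
  exact (h3.2 j hj).imp fun k hk => hk.elim fun w₂ e =>
    exists_lift_pair f (p.app k ≫ φ) (f ≫ cokernel.π φ) (hw k) _ w₂ e

end Biprod

include hN in
/-- The preimage of an image of an ind-coherent module in a coherent module is coherent. -/
theorem isCohF_kernel_comp_cokernel {X Y M : FSch.ModF 𝔛 h} (φ : X ⟶ Y) (hX : IndP 𝔛 h X) (hY : IndP 𝔛 h Y)
    (hM : FSch.IsCohF 𝔛 h M) (ι₀ : M ⟶ Y) : FSch.IsCohF 𝔛 h (kernel (ι₀ ≫ cokernel.π φ)) := by
  obtain ⟨J, _, _, P, hP⟩ := hX
  obtain ⟨J', _, _, Q, hQ⟩ := hY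
  let q : ∀ k, M ⊞ P.diag.obj k ⟶ Y := fun k => biprod.desc ι₀ (P.ι.app k ≫ φ)
  have hw : ∀ k, (kernel.ι (q k) ≫ biprod.fst) ≫ ι₀ ≫ cokernel.π φ = 0 := fun k => by
    have h1 : kernel.ι (q k) ≫ biprod.fst ≫ ι₀ = -(kernel.ι (q k) ≫ biprod.snd ≫ P.ι.app k ≫ φ) := by
      rw [eq_neg_iff_add_eq_zero, ← Preadditive.comp_add, ← biprod.desc_eq]
      exact kernel.condition _
    rw [Category.assoc, ← Category.assoc biprod.fst, ← Category.assoc (kernel.ι (q k)), h1]
    simp
  haveI : Nonempty J := IsFiltered.nonempty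
  refine isCohF_of_directed_images hN (kernel.ι (ι₀ ≫ cokernel.π φ)) hM (fun k => kernel (q k))
    (fun k => isCohF_kernel_to_colim hN Q.isColimit hQ (IndCoh.isFinitePresentation_biprod hM (hP k)) (q k))
    (fun k => kernel.lift (ι₀ ≫ cokernel.π φ) (kernel.ι (q k) ≫ biprod.fst) (hw k)) (fun k k' => ?_) fun T x => ?_
  · have hwk : ∀ {a b : J} (f : a ⟶ b), q a ≫ 𝟙 Y = biprod.map (𝟙 _) (P.diag.map f) ≫ q b := fun {a b} f => by
      rw [Category.comp_id]
      apply biprod.hom_ext'
      · simp [q]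
      · simp [q, P.w_assoc]
    refine ⟨IsFiltered.max k k', kernel.map _ _ _ _ (hwk (IsFiltered.leftToMax k k')),
      kernel.map _ _ _ _ (hwk (IsFiltered.rightToMax k k')), ?_, ?_⟩ <;>
    · apply equalizer.hom_ext
      simp
  · exact exists_cover_lift φ P.isColimit ι₀ hw x

include hN in
theorem ind_cokernel {X Y : FSch.ModF 𝔛 h} (φ : X ⟶ Y) (hX : IndP 𝔛 h X) (hY : IndP 𝔛 h Y) :
    IndP 𝔛 h (cokernel φ) := by
  have hX' := hX
  have hY' := hY
  obtain ⟨J', _, _, Q, hQ⟩ := hY
  let g : Q.diag ⟶ (Functor.const J').obj (cokernel φ) :=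
    { app := fun j => Q.ι.app j ≫ cokernel.π φ
      naturality := fun j j' f => by
        simp only [Functor.const_obj_map, ← Category.assoc]
        exact congrArg (· ≫ _) (Q.w f) }
  refine ⟨J', inferInstance, inferInstance, ?_⟩
  refine (exists_mono_presentation hN Q.diag g hQ
    (fun j => isCohF_kernel_comp_cokernel hN φ hX' hY' (hQ j) (Q.ι.app j)) fun T x => ?_).imp fun _ hp => hp.1
  obtain ⟨S, hS, hS'⟩ := exists_local_lift (cokernel.π φ) x
  refine exists_cover_bind (fun V r => ∃ (l : J') (y : sect (Q.diag.obj l) V),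
    appS (g.app l) V y = rs (cokernel φ) r x) hS fun V r hr => ?_
  obtain ⟨y, hy⟩ := hS' r hr
  obtain ⟨S₂, hS₂, hS₂'⟩ := exists_stage Q.isColimit y
  refine ⟨S₂, hS₂, fun V₂ r₂ hr₂ => ?_⟩
  obtain ⟨l, y₂, hy₂⟩ := hS₂' r₂ hr₂
  refine ⟨l, y₂, ?_⟩
  refine (appS_comp _ _ _).trans ((congrArg (appS (cokernel.π φ) V₂) hy₂).trans ((appS_res _ _ _).trans ?_))
  exact (congrArg (rs (cokernel φ) r₂) hy).trans (map_val_comp _ _ _).symm

include hN in
/-- The ind-coherent modules are closed under small colimits. -/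
theorem isClosedUnderColimitsOfShape_indP (J : Type u) [SmallCategory J] :
    (IndP 𝔛 h).IsClosedUnderColimitsOfShape J := by
  have hd : ∀ T : Type u, (IndP 𝔛 h).IsClosedUnderColimitsOfShape (Discrete T) := fun T => by
    haveI : IsGrothendieckAbelian.{u} (FSch.ModF 𝔛 h) := ModShf.isGrothendieckAbelian _
    exact IndCoh.isClosedUnderColimitsOfShape_ind (fun T _ Y hY => IndCoh.isFinitePresentation_sigma T Y hY) T
  have hsig : ∀ (T : Type u) (Y : T → FSch.ModF 𝔛 h), (∀ t, IndP 𝔛 h (Y t)) → IndP 𝔛 h (∐ Y) := fun T Y hY =>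
    (hd T).colimitsOfShape_le _ ⟨(ColimitPresentation.colimit (Discrete.functor Y)), fun t => hY t.as⟩
  refine ⟨fun X ⟨P, hP⟩ => ?_⟩
  let R := Σ a : J, Σ b : J, a ⟶ b
  let d : (∐ fun r : R => P.diag.obj r.1) ⟶ ∐ P.diag.obj :=
    Sigma.desc fun r => P.diag.map r.2.2 ≫ Sigma.ι P.diag.obj r.2.1 - Sigma.ι P.diag.obj r.1
  let π : (∐ P.diag.obj) ⟶ X := Sigma.desc fun a => P.ι.app a
  have w : d ≫ π = 0 := by
    apply Sigma.hom_ext
    intro r
    simp [d, π, Preadditive.sub_comp]
  let cc : ∀ {Z : FSch.ModF 𝔛 h} (t : (∐ P.diag.obj) ⟶ Z), d ≫ t = 0 → Cocone P.diag := fun {Z} t ht =>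
    Cocone.mk Z
      { app := fun a => Sigma.ι P.diag.obj a ≫ t
        naturality := fun a b f => by
          have h1 := congrArg (Sigma.ι (fun r : R => P.diag.obj r.1) ⟨a, b, f⟩ ≫ ·) ht
          simp only [d, Sigma.ι_desc_assoc, comp_zero, Preadditive.sub_comp, Category.assoc, sub_eq_zero] at h1
          simpa using h1 }
  have hco : IsColimit (CokernelCofork.ofπ π w) :=
    CokernelCofork.IsColimit.ofπ _ _ (fun {Z} t ht => P.isColimit.desc (cc t ht))
      (fun {Z} t ht => by
        apply Sigma.hom_ext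
        intro a
        simp only [π, Sigma.ι_desc_assoc]
        exact P.isColimit.fac (cc t ht) a)
      (fun {Z} t ht m hm => P.isColimit.uniq (cc t ht) m fun a => by
        show P.ι.app a ≫ m = Sigma.ι P.diag.obj a ≫ t
        rw [← hm]
        simp [π])
  exact (IndP 𝔛 h).prop_of_iso ((cokernelIsCokernel d).coconePointUniqueUpToIso hco)
    (ind_cokernel hN d (hsig _ _ fun r => hP r.1) (hsig _ _ hP))

include hN in
theorem ind_biprod {X Y : FSch.ModF 𝔛 h} (hX : IndP 𝔛 h X) (hY : IndP 𝔛 h Y) : IndP 𝔛 h (X ⊞ Y) := by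
  have h2 := isClosedUnderColimitsOfShape_indP (h := h) hN (Discrete (ULift.{u} WalkingPair))
  refine (IndP 𝔛 h).prop_of_iso ?_ (h2.colimitsOfShape_le _ ⟨ColimitPresentation.colimit
    (Discrete.functor fun i : ULift.{u} WalkingPair => pairFunction X Y i.down), fun i => ?_⟩)
  · exact (Sigma.whiskerEquiv Equiv.ulift.{u} fun i => Iso.refl (pairFunction X Y i.down)) ≪≫
      (HasColimit.isoOfNatIso (diagramIsoPair _)) ≪≫ (biprod.isoCoprod X Y).symm
  · obtain ⟨⟨i⟩⟩ := i
    cases i
    · exact hX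
    · exact hY

include hN in
/-- The inclusion of the ind-coherent modules has a right adjoint. -/
theorem isLeftAdjoint_indP_ι : (IndP 𝔛 h).ι.IsLeftAdjoint := by
  haveI : (IndP 𝔛 h).IsClosedUnderKernels := ⟨fun Z hZ => by
    obtain ⟨f, k, hk, hf⟩ := hZ
    exact (IndP 𝔛 h).prop_of_iso ((kernelIsKernel f).conePointUniqueUpToIso hk) (ind_kernel hN f hf.1 hf.2)⟩
  haveI : (IndP 𝔛 h).IsClosedUnderCokernels := ⟨fun Z hZ => by
    obtain ⟨f, k, hk, hf⟩ := hZ
    exact (IndP 𝔛 h).prop_of_iso ((cokernelIsCokernel f).coconePointUniqueUpToIso hk)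
      (ind_cokernel hN f hf.1 hf.2)⟩
  haveI : (IndP 𝔛 h).ContainsZero :=
    ⟨⟨_, (isZero_zero (FSch.ModF 𝔛 h)), ObjectProperty.le_ind _ _ (IndCoh.isFinitePresentation_of_isZero (isZero_zero _))⟩⟩
  haveI : (IndP 𝔛 h).IsClosedUnderBinaryProducts := ⟨fun Z ⟨p, hp⟩ =>
    (IndP 𝔛 h).prop_of_iso (biprod.isoProd _ _ ≪≫ (HasLimit.isoOfNatIso (diagramIsoPair p.diag)).symm ≪≫
      (limit.isLimit p.diag).conePointUniqueUpToIso p.isLimit)
      (ind_biprod hN (hp ⟨WalkingPair.left⟩) (hp ⟨WalkingPair.right⟩))⟩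
  haveI : (IndP 𝔛 h).IsClosedUnderFiniteProducts := ObjectProperty.IsClosedUnderFiniteProducts.mk'
  haveI : IsGrothendieckAbelian.{u} (FSch.ModF 𝔛 h) := ModShf.isGrothendieckAbelian _
  haveI := fun {X Y : (IndP 𝔛 h).FullSubcategory} (f : X ⟶ Y) => (IndP 𝔛 h).preservesKernels_ι f
  haveI := fun {X Y : (IndP 𝔛 h).FullSubcategory} (f : X ⟶ Y) => (IndP 𝔛 h).preservesCokernels_ι f
  haveI : PreservesFiniteLimits (IndP 𝔛 h).ι := Functor.preservesFiniteLimits_of_preservesKernels _
  haveI : PreservesFiniteColimits (IndP 𝔛 h).ι := Functor.preservesFiniteColimits_of_preservesCokernels _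
  obtain ⟨K, k, hk, hk'⟩ := IndCoh.exists_small_family (O := 𝔛.Osh h)
  exact IndCoh.isLeftAdjoint_ι (B := FSch.ModF 𝔛 h) (Q := fun G => FSch.IsCohF 𝔛 h G)
    (fun T _ Y hY => IndCoh.isFinitePresentation_sigma T Y hY) k hk hk'

end Groth.Agent.FFormal
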