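import Groth.Agent.FFormal.Iso
import Groth.Agent.FFormal.IndCat
import Groth.Agent.CohAff.AffineCech
import Groth.Agent.CohTop.CechBasic

/-!
# Čech acyclicity of coherent and ind-coherent modules on affine opens of a formal scheme
-/

set_option autoImplicit false
set_option linter.style.haveILetI false
set_option linter.dupNamespace false

universe u

open CategoryTheory CategoryTheory.Limits AlgebraicGeometry Opposite TopologicalSpace ModSite

namespace Groth.Agent.FFormal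

open Groth.Agent.CohAff (Cochain cd cd_apply cd_cd cd_cmap cmap cmap_apply CechExact inter inter_le le_inter mem_inter
  inter_comp_le inter_basicOpen affCov)
open Groth.Agent.ModFlat (rs map_val_comp)
open Groth.Agent.PullFlat (appS appS_res appS_comp appS_injective eq_zero_of_locally)

variable {𝔛 : FSch.Sys.{u}} {h : 𝔛.IsFormal} (hN : 𝔛.IsLocNoethFormal)

/-- Čech exactness passes along the inverse image of opens under a continuous map. -/
theorem cechExact_preimage {X Y : TopCat.{u}} (g : X ⟶ Y) (P : TopCat.Presheaf AddCommGrpCat.{u} X) {ι : Type u}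
    (V : ι → Opens Y) (n : ℕ) (hP : CechExact P (fun i => (Opens.map g).obj (V i)) n) :
    CechExact (X := Y) ((Opens.map g).op ⋙ P) V n := by
  have e : ∀ {m : ℕ} (x : Fin m → ι), (Opens.map g).obj (inter V x) = inter (fun i => (Opens.map g).obj (V i)) x :=
    fun x => Opens.ext (Set.ext fun p => by
      show g p ∈ inter V x ↔ p ∈ inter (fun i => (Opens.map g).obj (V i)) x
      rw [mem_inter, mem_inter]
      rfl)
  intro s hs
  let s' : Cochain P (fun i => (Opens.map g).obj (V i)) (n + 1) := fun x => CohAff.res P (e x).ge (s x)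
  have hcd : ∀ {m : ℕ} (t : Cochain ((Opens.map g).op ⋙ P) V m) (x : Fin (m + 2) → ι),
      cd P (fun i => (Opens.map g).obj (V i)) m (fun y => CohAff.res P (e y).ge (t y)) x =
        CohAff.res P (e x).ge (cd (X := Y) ((Opens.map g).op ⋙ P) V m t x) := fun {m} t x => by
    rw [cd_apply, cd_apply, map_sum]
    refine Finset.sum_congr rfl fun j _ => ?_
    rw [map_zsmul]
    refine congrArg _ ((CohAff.res_res P _ _ _).trans ?_)
    exact (CohAff.res_res P _ _ (t (x ∘ j.succAbove))).symm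
  obtain ⟨t', ht'⟩ := hP s' (funext fun x => (hcd s x).trans ((congrArg _ (congrFun hs x)).trans (map_zero _)))
  let t : Cochain ((Opens.map g).op ⋙ P) V n := fun y => CohAff.res P (e y).le (t' y)
  refine ⟨t, funext fun x => ?_⟩
  have h1 := hcd t x
  rw [show (fun y => CohAff.res P (e y).ge (t y)) = t' from funext fun y =>
    (CohAff.res_res P (e y).le (e y).ge (t' y)).trans (CohAff.res_self _ _ _), ht'] at h1
  have h2 := congrArg (CohAff.res P (e x).le) h1
  simp only [s', CohAff.res_res, CohAff.res_self] at h2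
  exact h2.symm

include hN in
/-- The levels of a coherent system are acyclic for standard coverings of affine opens. -/
theorem good_level {𝔐 : FSch.ModSys 𝔛} (hM : 𝔐.IsCoh) (k : ℕ) :
    (affCov (𝔛.X 0)).Good (toAb ((FSch.levelMor 𝔛 h k).push.obj (𝔐.F k))) := by
  rintro U ι V ⟨hU, hfin, f, rfl, hcov⟩ n
  haveI := (hM k).1
  haveI : Surjective (𝔛.toX k) := ⟨FSch.Sys.toX_surjective 𝔛 h k⟩
  have hpre : ∀ T : (𝔛.X 0).Opens, (𝔛.toX k) ⁻¹ᵁ (𝔛.lvU h k T) = T := fun T => by
    change (Opens.map ((𝔛.toX k).base ≫ 𝔛.gInv h k)).obj T = T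
    rw [FSch.Sys.toX_base_gInv]
    rfl
  have hlift : ∀ i, ∃ g : Γ(𝔛.X k, 𝔛.lvU h k U),
      (𝔛.X k).basicOpen g = 𝔛.lvU h k ((𝔛.X 0).basicOpen (f i)) := fun i => by
    haveI := FSch.Sys.toX_isClosedImmersion 𝔛 h k
    obtain ⟨g, hg⟩ : ∃ g : Γ(𝔛.X k, 𝔛.lvU h k U), (𝔛.toX k).app _ g =
        (𝔛.X 0).presheaf.map (homOfLE (hpre U).le).op (f i) :=
      (𝔛.toX k).app_surjective _ (isAffineOpen_lvU h k hU) _
    refine ⟨g, ?_⟩
    have h1 : (𝔛.toX k) ⁻¹ᵁ (𝔛.X k).basicOpen g = (𝔛.toX k) ⁻¹ᵁ (𝔛.lvU h k ((𝔛.X 0).basicOpen (f i))) := by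
      rw [hpre, Scheme.preimage_basicOpen, hg, Scheme.basicOpen_res]
      exact inf_eq_right.2 ((Scheme.basicOpen_le _ _).trans (hpre U).ge)
    refine Opens.ext (Set.ext fun z => ?_)
    obtain ⟨w, rfl⟩ := (𝔛.toX k).surjective z
    exact iff_of_eq (congrArg (fun O : (𝔛.X 0).Opens => w ∈ O) h1)
  choose g hg using hlift
  refine cechExact_preimage (𝔛.gInv h k) (Coh.toAb (𝔐.F k)).obj _ n ?_
  refine CohAff.good_affCov (𝔐.F k) (𝔛.lvU h k U) ι _
    ⟨isAffineOpen_lvU h k hU, hfin, g, funext fun i => (hg i).symm, ?_⟩ n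
  refine Opens.ext (Set.ext fun z => ?_)
  rw [SetLike.mem_coe, Opens.mem_iSup]
  refine ⟨fun ⟨i, hi⟩ => (𝔛.X 0).basicOpen_le (f i) hi, fun hz => ?_⟩
  obtain ⟨i, hi⟩ := Opens.mem_iSup.1 (hcov.ge (show 𝔛.gInv h k z ∈ U from hz))
  exact ⟨i, hi⟩

include hN in
/-- The limit of a coherent system is acyclic for standard coverings of affine opens. -/
theorem good_realMod {𝔐 : FSch.ModSys 𝔛} (hM : 𝔐.IsCoh) : (affCov (𝔛.X 0)).Good (toAb (𝔐.realMod h)) := by
  intro U ι V hV n
  let L : ℕ → FSch.ModF 𝔛 h := fun k => (FSch.levelMor 𝔛 h k).push.obj (𝔐.F k)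
  let P : ℕ → TopCat.Presheaf AddCommGrpCat.{u} (𝔛.X 0).toPresheafedSpace.carrier := fun k => (toAb (L k)).obj
  let p : ∀ k, (toAb (𝔐.realMod h)).obj ⟶ P k := fun k =>
    ((SheafOfModules.toSheaf _).map (FSch.realProj 𝔛 h 𝔐.F 𝔐.toPush k)).hom
  let τ : ∀ k, P (k + 1) ⟶ P k := fun k =>
    ((SheafOfModules.toSheaf _).map ((FSch.levelMor 𝔛 h (k + 1)).push.map (𝔐.toPush k) ≫
      (FSch.pushCompare 𝔛 h k).app (𝔐.F k))).hom
  have hτ : ∀ (k : ℕ) {m : ℕ} (x : Fin (m + 1) → ι) (y : WS h 𝔐 (k + 1) (inter V x)),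
      ((τ k).app (op (inter V x))).hom y = tr h 𝔐 k (inter V x) y := fun k {m} x y => tr_eq h 𝔐 k _ y
  have hsurj : ∀ (k : ℕ) {m : ℕ} (t : Cochain (P k) V m), ∃ t', cmap (τ k) V m t' = t := fun k {m} t => by
    choose t' ht' using fun x => tr_surjective (h := h) hN hM ((affCov (𝔛.X 0)).inter_mem hV x) k (t x)
    exact ⟨t', funext fun x => (hτ k x (t' x)).trans (ht' x)⟩
  intro s hs
  have hex := fun k => good_level (h := h) hN hM k U ι V hV n
  have hsk : ∀ k, cd (P k) V (n + 1) (cmap (p k) V (n + 1) s) = 0 := fun k => by rw [cd_cmap, hs, map_zero]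
  have hstep : ∀ k (b : Cochain (P k) V n), cd (P k) V n b = cmap (p k) V (n + 1) s →
      ∃ b' : Cochain (P (k + 1)) V n, cd (P (k + 1)) V n b' = cmap (p (k + 1)) V (n + 1) s ∧
        cmap (τ k) V n b' = b := fun k b hb => by
    have hps : cmap (τ k) V (n + 1) (cmap (p (k + 1)) V (n + 1) s) = cmap (p k) V (n + 1) s :=
      funext fun x => (hτ k x _).trans (tr_prj h 𝔐 k _ (s x))
    obtain ⟨b₀, hb₀⟩ := hex (k + 1) (cmap (p (k + 1)) V (n + 1) s) (hsk (k + 1))
    have hd : cd (P k) V n (b - cmap (τ k) V n b₀) = 0 := by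
      rw [map_sub, cd_cmap, hb₀, hps, hb, sub_self]
    cases n with
    | zero =>
      obtain ⟨z, hz⟩ := CohTop.CechBasic.exists_glue (toAb (L k)) V (b - cmap (τ k) V 0 b₀) hd
      have hUV : ⨆ i, V i = U := (affCov (𝔛.X 0)).sup_eq hV
      obtain ⟨z', hz'⟩ := tr_surjective (h := h) hN hM (show IsAffineOpen (iSup V) from hUV ▸ hV.1) k z
      let e : Cochain (P (k + 1)) V 0 := fun x => CohAff.res (P (k + 1)) ((inter_le V x 0).trans (le_iSup V (x 0))) z'
      refine ⟨b₀ + e, ?_, ?_⟩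
      · rw [map_add, hb₀, add_eq_left]
        funext x
        rw [CohAff.cd_zero_apply, CohAff.res_res, CohAff.res_res]
        exact sub_self _
      · have h2 : cmap (τ k) V 0 e = b - cmap (τ k) V 0 b₀ := funext fun x => by
          refine (CohAff.res_app (τ k) _ z').symm.trans ((congrArg _ ?_).trans (hz x))
          exact (tr_eq h 𝔐 k _ z').trans hz'
        rw [map_add, h2, add_sub_cancel]
    | succ m =>
      obtain ⟨c, hc⟩ := good_level (h := h) hN hM k U ι V hV m _ hd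
      obtain ⟨c', hc'⟩ := hsurj k c
      refine ⟨b₀ + cd (P (k + 1)) V m c', ?_, ?_⟩
      · rw [map_add, hb₀, cd_cd, add_zero]
      · rw [map_add, ← cd_cmap, hc', hc, add_sub_cancel]
  obtain ⟨b0, hb0⟩ := hex 0 (cmap (p 0) V (n + 1) s) (hsk 0)
  choose next hnext₁ hnext₂ using hstep
  let bs : ∀ k, {b : Cochain (P k) V n // cd (P k) V n b = cmap (p k) V (n + 1) s} :=
    Nat.rec ⟨b0, hb0⟩ fun k b => ⟨next k b.1 b.2, hnext₁ k b.1 b.2⟩
  have hcompat : ∀ k, cmap (τ k) V n (bs (k + 1)).1 = (bs k).1 := fun k => hnext₂ k (bs k).1 (bs k).2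
  choose t ht using fun x => (exists_isLimit_realMod h 𝔐 (inter V x)).2 (fun k => (bs k).1 x)
    (fun k => (hτ k x _).symm.trans (congrFun (hcompat k) x))
  refine ⟨t, funext fun x => sub_eq_zero.1 ((exists_isLimit_realMod h 𝔐 (inter V x)).1 _ fun k => ?_)⟩
  have h1 : cmap (p k) V (n + 1) (cd _ V n t) = cmap (p k) V (n + 1) s := by
    rw [← cd_cmap, show cmap (p k) V n t = (bs k).1 from funext fun y => ht y k]
    exact (bs k).2
  exact (map_sub (prj h 𝔐 k (inter V x)) _ _).trans (sub_eq_zero.2 (congrFun h1 x))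

include hN in
/-- Coherent modules are acyclic for standard coverings of affine opens. -/
theorem good_coh {F : FSch.ModF 𝔛 h} (hF : FSch.IsCohF 𝔛 h F) : (affCov (𝔛.X 0)).Good (toAb F) := by
  haveI := isIso_toReal hN hF
  intro U ι V hV n
  exact CechExact.of_retract ((SheafOfModules.toSheaf _).map (toReal F)).hom
    ((SheafOfModules.toSheaf _).map (inv (toReal F))).hom
    (congrArg (fun t => t.hom) (((SheafOfModules.toSheaf _).map_comp _ _).symm.trans
      ((congrArg _ (IsIso.hom_inv_id (toReal F))).trans ((SheafOfModules.toSheaf _).map_id _))))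
    (good_realMod (h := h) hN (isCoh_sysOf hF) U ι V hV n)

section Ind

variable {Λ : Type u} [SmallCategory Λ] [IsFiltered Λ] {D : Λ ⥤ FSch.ModF 𝔛 h} {c : Cocone D} (hc : IsColimit c)

include hc in
/-- A section of a filtered union over a compact open comes from one stage. -/
theorem exists_stage_compact [∀ l, Mono (c.ι.app l)] {W : (𝔛.X 0).Opens} (hW : IsCompact (W : Set (𝔛.X 0)))
    (x : sect c.pt W) : ∃ (l : Λ) (y : sect (D.obj l) W), appS (c.ι.app l) W y = x := by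
  classical
  refine (LocPres.exists_stage hc x).elim fun S hS => ?_
  have hpt : ∀ p : W, ∃ (Vp : (𝔛.X 0).Opens) (g : Vp ⟶ W), S g ∧ (p : 𝔛.X 0) ∈ Vp := fun p => by
    obtain ⟨Vp, g, hg, hp⟩ := hS.1 p.1 p.2
    exact ⟨Vp, g, hg, hp⟩
  choose Vp g hg hp using hpt
  obtain ⟨σ, hσ⟩ := hW.elim_finite_subcover (fun p : W => (Vp p : Set (𝔛.X 0))) (fun p => (Vp p).isOpen)
    fun z hz => Set.mem_iUnion.2 ⟨⟨z, hz⟩, hp ⟨z, hz⟩⟩
  choose l y hy using fun p => hS.2 (g p) (hg p)
  refine (IsFiltered.sup_objs_exists (σ.image l)).elim fun l₀ hl₀ => ?_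
  let f : ∀ p : σ, l p.1 ⟶ l₀ := fun p => (hl₀ (Finset.mem_image_of_mem l p.2)).some
  let z : ∀ p : σ, sect (D.obj l₀) (Vp p.1) := fun p => appS (D.map (f p)) (Vp p.1) (y p.1)
  have hz : ∀ p : σ, appS (c.ι.app l₀) (Vp p.1) (z p) = rs c.pt (g p.1) x := fun p =>
    ((appS_comp _ _ _).symm.trans (congrArg (fun q => appS q (Vp p.1) (y p.1)) (c.w (f p)))).trans (hy p.1)
  have hcompat : TopCat.Presheaf.IsCompatible (toAb (D.obj l₀)).obj (fun p : σ => Vp p.1) z := fun p q => by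
    apply appS_injective (c.ι.app l₀) (Vp p.1 ⊓ Vp q.1)
    refine (appS_res (c.ι.app l₀) (Opens.infLELeft _ _) (z p)).trans (Eq.trans ?_
      (appS_res (c.ι.app l₀) (Opens.infLERight _ _) (z q)).symm)
    refine (congrArg (rs c.pt _) (hz p)).trans (Eq.trans ?_ (congrArg (rs c.pt _) (hz q)).symm)
    exact (map_val_comp _ _ _).symm.trans ((congrArg (fun t => rs c.pt t x) (Subsingleton.elim _ _)).trans
      (map_val_comp _ _ _))
  obtain ⟨y₀, hy₀, -⟩ := TopCat.Sheaf.existsUnique_gluing' (toAb (D.obj l₀)) (fun p : σ => Vp p.1) W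
    (fun p => g p.1) (fun z hz => by
      obtain ⟨p, hp, hz'⟩ := Set.mem_iUnion₂.1 (hσ hz)
      exact Opens.mem_iSup.2 ⟨⟨p, hp⟩, hz'⟩) z hcompat
  refine ⟨l₀, y₀, TopCat.Sheaf.eq_of_locally_eq' (toAb c.pt) (fun p : σ => Vp p.1) W (fun p => g p.1) (fun z hz => by
      obtain ⟨p, hp, hz'⟩ := Set.mem_iUnion₂.1 (hσ hz)
      exact Opens.mem_iSup.2 ⟨⟨p, hp⟩, hz'⟩) _ _ fun p => ?_⟩
  exact ((appS_res (c.ι.app l₀) (g p.1) y₀).symm.trans (congrArg (appS (c.ι.app l₀) (Vp p.1)) (hy₀ p))).trans (hz p)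

end Ind

include hN in
/-- Ind-coherent modules are acyclic for standard coverings of affine opens. -/
theorem good_indP {F : FSch.ModF 𝔛 h} (hF : IndP 𝔛 h F) : (affCov (𝔛.X 0)).Good (toAb F) := by
  classical
  obtain ⟨J, _, _, P, hP, hmono⟩ := exists_mono_presentation_of_ind hN hF
  haveI : ∀ j, Mono (P.cocone.ι.app j) := hmono
  intro U ι V hV n s hs
  haveI : Finite ι := hV.2.1
  cases nonempty_fintype ι
  choose l y hy using fun x => exists_stage_compact P.isColimit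
    ((affCov (𝔛.X 0)).inter_mem hV x).isCompact (s x)
  refine (IsFiltered.sup_objs_exists (Finset.univ.image l)).elim fun l₀ hl₀ => ?_
  let f : ∀ x, l x ⟶ l₀ := fun x => (hl₀ (Finset.mem_image_of_mem l (Finset.mem_univ x))).some
  let s₀ : Cochain (toAb (P.diag.obj l₀)).obj V (n + 1) := fun x => appS (P.diag.map (f x)) (inter V x) (y x)
  let ι₀ : (toAb (P.diag.obj l₀)).obj ⟶ (toAb F).obj := ((SheafOfModules.toSheaf _).map (P.ι.app l₀)).hom
  have hinj : ∀ {m : ℕ}, Function.Injective (cmap ι₀ V m) := fun {m} a b hab =>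
    funext fun x => appS_injective (P.cocone.ι.app l₀) (inter V x) (congrFun hab x)
  have hs₀ : cmap ι₀ V (n + 1) s₀ = s := funext fun x =>
    ((appS_comp _ _ _).symm.trans (congrArg (fun q => appS q (inter V x) (y x)) (P.w (f x)))).trans (hy x)
  obtain ⟨t, ht⟩ := good_coh hN (hP l₀) U ι V hV n s₀ (hinj (by rw [← cd_cmap, hs₀, hs, map_zero]))
  exact ⟨cmap ι₀ V n t, by rw [cd_cmap, ht, hs₀]⟩

include hN in
/-- Ind-coherent modules have no higher cohomology on affine opens. -/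
theorem subsingleton_HU_indP {F : FSch.ModF 𝔛 h} (hF : IndP 𝔛 h F) {U : (𝔛.X 0).Opens} (hU : IsAffineOpen U)
    (n : ℕ) : Subsingleton (CohTop.HU (toAb F) (n + 1) U) :=
  CohTop.CechBasic.Good.HU_subsingleton (good_indP hN hF) hU n

include hN in
/-- Serre vanishing on an affine formal scheme. -/
theorem subsingleton_HF_indP [IsAffine (𝔛.X 0)] {F : FSch.ModF 𝔛 h} (hF : IndP 𝔛 h F) (n : ℕ) :
    Subsingleton (FSch.HF 𝔛 h F (n + 1)) :=
  (good_indP hN hF).subsingleton_H (isAffineOpen_top (𝔛.X 0)) n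

end Groth.Agent.FFormal
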