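import Groth.Agent.QCoh.FiniteType
import Groth.Agent.LocPres.Inverse
import Groth.Prelude.Def_ModSite
import Mathlib.AlgebraicGeometry.Noetherian
import Mathlib.RingTheory.Finiteness.Basic
import Mathlib.RingTheory.Localization.Integer

/-!
# Presentations of quasi-coherent modules on affine opens, in terms of sections
-/

set_option autoImplicit false
set_option linter.style.haveILetI false
set_option linter.dupNamespace false

universe u

open CategoryTheory CategoryTheory.Limits AlgebraicGeometry Opposite TopologicalSpace ModSite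

namespace Groth.Agent.FFormal

open Groth.Agent.QCoh (res rres res_res rres_rres res_smul res_self rres_self isLocalizingAt)
open Groth.Agent.ModFlat (rs map_val_comp map_ring_comp)
open Groth.Agent.LocPres

variable {X : Scheme.{u}}

/-- A presentation of the sections over an open. -/
structure PresOn (F : X.Modules) (U : X.Opens) {n m : ℕ} (s : Fin n → Γ(F, U))
    (r : Fin m → Fin n → Γ(X, U)) : Prop where
  rel : ∀ k, ∑ i, r k i • s i = 0
  gen : ∀ x : Γ(F, U), x ∈ Submodule.span Γ(X, U) (Set.range s)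
  relgen : ∀ c : Fin n → Γ(X, U), ∑ i, c i • s i = 0 → c ∈ Submodule.span Γ(X, U) (Set.range r)

theorem rres_pow {U V : X.Opens} (h : V ≤ U) (g : Γ(X, U)) (k : ℕ) : rres h (g ^ k) = rres h g ^ k :=
  map_pow _ _ _

theorem res_sum_smul {F : X.Modules} {U V : X.Opens} (h : V ≤ U) {n : ℕ} (c : Fin n → Γ(X, U))
    (s : Fin n → Γ(F, U)) : res F h (∑ i, c i • s i) = ∑ i, rres h (c i) • res F h (s i) :=
  (map_sum (res F h).hom _ _).trans (Finset.sum_congr rfl fun _ _ => res_smul F h _ _)

/-- Membership in a submodule of sections over an affine open can be checked up to powers near every point. -/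
theorem mem_of_local_pow {M : Type*} [AddCommGroup M] {V : X.Opens} [Module Γ(X, V) M] (hV : IsAffineOpen V)
    (N : Submodule Γ(X, V) M) (x : M)
    (h : ∀ y ∈ V, ∃ g : Γ(X, V), y ∈ X.basicOpen g ∧ ∃ k : ℕ, g ^ k • x ∈ N) : x ∈ N := by
  let J : Ideal Γ(X, V) :=
    { carrier := {a | a • x ∈ N}
      zero_mem' := by simp
      add_mem' := fun {a b} ha hb => by
        show (a + b) • x ∈ N
        rw [add_smul]; exact N.add_mem ha hb
      smul_mem' := fun a b hb => by
        show (a * b) • x ∈ N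
        rw [mul_smul]; exact N.smul_mem a hb }
  have hle : V ≤ ⨆ f : (J.radical : Set Γ(X, V)), X.basicOpen f.1 := fun y hy => by
    obtain ⟨g, hyg, k, hk⟩ := h y hy
    exact Opens.mem_iSup.2 ⟨⟨g, ⟨k, hk⟩⟩, hyg⟩
  rw [hV.self_le_iSup_basicOpen_iff, Ideal.span_eq, Ideal.radical_eq_top] at hle
  have h1 : (1 : Γ(X, V)) • x ∈ N := (show (1 : Γ(X, V)) ∈ J from hle ▸ trivial)
  rwa [one_smul] at h1

theorem rres_sum {U V : X.Opens} (h : V ≤ U) {n : ℕ} (f : Fin n → Γ(X, U)) :
    rres h (∑ i, f i) = ∑ i, rres h (f i) := map_sum (rres h).hom _ _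

/-- A presentation can be checked locally. -/
theorem presOn_of_local (F : X.Modules) [F.IsQuasicoherent] {V : X.Opens} (hV : IsAffineOpen V) {n m : ℕ}
    (s : Fin n → Γ(F, V)) (r : Fin m → Fin n → Γ(X, V)) (hrel : ∀ k, ∑ i, r k i • s i = 0)
    (hgen : ∀ (x : Γ(F, V)), ∀ y ∈ V, ∃ (W : X.Opens) (hW : W ≤ V), y ∈ W ∧
      ∃ c : Fin n → Γ(X, W), ∑ i, c i • res F hW (s i) = res F hW x)
    (hrelgen : ∀ (c : Fin n → Γ(X, V)), ∑ i, c i • s i = 0 → ∀ y ∈ V, ∃ (W : X.Opens) (hW : W ≤ V), y ∈ W ∧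
      ∃ b : Fin m → Γ(X, W), ∀ i, rres hW (c i) = ∑ k, b k * rres hW (r k i)) :
    PresOn F V s r := by
  refine ⟨hrel, fun x => ?_, fun c hc => ?_⟩
  · refine mem_of_local_pow hV _ x fun y hy => ?_
    obtain ⟨W, hW, hyW, c, hc⟩ := hgen x y hy
    obtain ⟨g, hgW, hyg⟩ := hV.exists_basicOpen_le (⟨y, hyW⟩ : W) hy
    refine ⟨g, hyg, ?_⟩
    haveI := hV.isLocalization_basicOpen g
    obtain ⟨⟨_, ⟨K, rfl⟩⟩, hb⟩ := IsLocalization.exist_integer_multiples_of_finite (Submonoid.powers g)
      (S := Γ(X, X.basicOpen g)) fun i => rres hgW (c i)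
    choose a ha using hb
    have ha' : ∀ i, rres (X.basicOpen_le g) (a i) = rres (X.basicOpen_le g) g ^ K * rres hgW (c i) := fun i => by
      refine Eq.trans (ha i) ?_
      rw [Algebra.smul_def, ← rres_pow]
      rfl
    obtain ⟨L, hL⟩ := (isLocalizingAt F hV g).eq_zero (g ^ K • x - ∑ i, a i • s i) (by
      have h1 := congrArg (res F hgW) hc
      rw [res_sum_smul, res_res] at h1
      simp only [res_res] at h1
      rw [map_sub, res_smul, res_sum_smul, rres_pow, ← h1]
      simp only [ha', Finset.smul_sum, smul_smul, sub_self])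
    refine ⟨L + K, ?_⟩
    rw [smul_sub, sub_eq_zero] at hL
    rw [pow_add, mul_smul, hL]
    exact Submodule.smul_mem _ _ (Submodule.sum_mem _ fun i _ =>
      Submodule.smul_mem _ _ (Submodule.subset_span ⟨i, rfl⟩))
  · refine mem_of_local_pow hV _ c fun y hy => ?_
    obtain ⟨W, hW, hyW, b, hb⟩ := hrelgen c hc y hy
    obtain ⟨g, hgW, hyg⟩ := hV.exists_basicOpen_le (⟨y, hyW⟩ : W) hy
    refine ⟨g, hyg, ?_⟩
    haveI := hV.isLocalization_basicOpen g
    obtain ⟨⟨_, ⟨K, rfl⟩⟩, hb'⟩ := IsLocalization.exist_integer_multiples_of_finite (Submonoid.powers g)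
      (S := Γ(X, X.basicOpen g)) fun k => rres hgW (b k)
    choose a ha using hb'
    have ha' : ∀ k, rres (X.basicOpen_le g) (a k) = rres (X.basicOpen_le g) g ^ K * rres hgW (b k) := fun k => by
      refine Eq.trans (ha k) ?_
      rw [Algebra.smul_def, ← rres_pow]
      rfl
    have hL : ∀ i, ∃ L : Submonoid.powers g, L.1 * (g ^ K * c i) = L.1 * ∑ k, a k * r k i := fun i =>
      IsLocalization.exists_of_eq (M := Submonoid.powers g) (S := Γ(X, X.basicOpen g)) (by
        show rres (X.basicOpen_le g) (g ^ K * c i) = rres (X.basicOpen_le g) (∑ k, a k * r k i)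
        have h1 := congrArg (rres hgW) (hb i)
        rw [rres_rres, rres_sum] at h1
        simp only [map_mul, rres_rres] at h1
        rw [rres_sum]
        simp only [map_mul, rres_pow, ha', h1, Finset.mul_sum, mul_assoc])
    choose L hL using hL
    have hL' : ∀ i, ∃ N : ℕ, g ^ N = (L i).1 := fun i => (L i).2
    choose N hN using hL'
    refine ⟨(∑ i, N i) + K, ?_⟩
    have e : g ^ ((∑ i, N i) + K) • c = g ^ (∑ i, N i) • ∑ k, a k • r k := by
      funext i
      simp only [Pi.smul_apply, Finset.sum_apply, smul_eq_mul]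
      obtain ⟨M, hM⟩ : ∃ M, ∑ j, N j = N i + M :=
        ⟨_, (Nat.add_sub_cancel' (Finset.single_le_sum (fun j _ => Nat.zero_le (N j)) (Finset.mem_univ i))).symm⟩
      have := hL i
      rw [← hN i] at this
      rw [hM, pow_add, pow_add]
      linear_combination g ^ M * this
    rw [e]
    exact Submodule.smul_mem _ _ (Submodule.sum_mem _ fun k _ =>
      Submodule.smul_mem _ _ (Submodule.subset_span ⟨k, rfl⟩))

theorem PresOn.basicOpen {F : X.Modules} [F.IsQuasicoherent] {U : X.Opens} (hU : IsAffineOpen U) {n m : ℕ}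
    {s : Fin n → Γ(F, U)} {r : Fin m → Fin n → Γ(X, U)} (P : PresOn F U s r) (g : Γ(X, U)) :
    (∀ x : Γ(F, X.basicOpen g), ∃ c : Fin n → Γ(X, X.basicOpen g),
      ∑ i, c i • res F (X.basicOpen_le g) (s i) = x) ∧
    (∀ c : Fin n → Γ(X, X.basicOpen g), ∑ i, c i • res F (X.basicOpen_le g) (s i) = 0 →
      ∃ b : Fin m → Γ(X, X.basicOpen g), ∀ i, c i = ∑ k, b k * rres (X.basicOpen_le g) (r k i)) := by
  haveI := hU.isLocalization_basicOpen g
  have hu : IsUnit (rres (X.basicOpen_le g) g) :=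
    IsLocalization.map_units Γ(X, X.basicOpen g) ⟨g, Submonoid.mem_powers g⟩
  constructor
  · intro x
    obtain ⟨k, t, ht⟩ := (isLocalizingAt F hU g).surj x
    obtain ⟨c, hc⟩ := Submodule.mem_span_range_iff_exists_fun _ |>.1 (P.gen t)
    obtain ⟨v, hv⟩ := hu.pow k
    refine ⟨fun i => (↑v⁻¹ : Γ(X, X.basicOpen g)) * rres (X.basicOpen_le g) (c i), ?_⟩
    rw [← hc, res_sum_smul, ← hv] at ht
    refine (Finset.sum_congr rfl fun i _ => mul_smul _ _ _).trans ?_
    rw [← Finset.smul_sum]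
    refine (congrArg _ ht).trans ?_
    rw [smul_smul, Units.inv_mul, one_smul]
  · intro c hc
    obtain ⟨⟨_, ⟨K, rfl⟩⟩, hb⟩ := IsLocalization.exist_integer_multiples_of_finite (Submonoid.powers g)
      (S := Γ(X, X.basicOpen g)) c
    choose a ha using hb
    have ha' : ∀ i, rres (X.basicOpen_le g) (a i) = rres (X.basicOpen_le g) g ^ K * c i := fun i => by
      refine Eq.trans (ha i) ?_
      rw [Algebra.smul_def, ← rres_pow]
      rfl
    obtain ⟨L, hL⟩ := (isLocalizingAt F hU g).eq_zero (∑ i, a i • s i) (by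
      rw [res_sum_smul]
      simp only [ha', mul_smul, ← Finset.smul_sum, hc, smul_zero])
    rw [Finset.smul_sum] at hL
    simp only [smul_smul] at hL
    obtain ⟨b, hb'⟩ := Submodule.mem_span_range_iff_exists_fun _ |>.1 (P.relgen _ hL)
    obtain ⟨v, hv⟩ := hu.pow (L + K)
    refine ⟨fun k => (↑v⁻¹ : Γ(X, X.basicOpen g)) * rres (X.basicOpen_le g) (b k), fun i => ?_⟩
    have h1 := congrArg (rres (X.basicOpen_le g)) (congrFun hb' i)
    simp only [Finset.sum_apply, Pi.smul_apply, smul_eq_mul, rres_sum, map_mul, rres_pow, ha',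
      ← mul_assoc, ← pow_add, ← hv] at h1
    simp only [mul_assoc, ← Finset.mul_sum]
    rw [h1, ← mul_assoc, Units.inv_mul, one_mul]

/-- A presentation over an affine open restricts to smaller affine opens. -/
theorem PresOn.restrict {F : X.Modules} [F.IsQuasicoherent] {U V : X.Opens} (hU : IsAffineOpen U)
    (hV : IsAffineOpen V) (hVU : V ≤ U) {n m : ℕ} {s : Fin n → Γ(F, U)} {r : Fin m → Fin n → Γ(X, U)}
    (P : PresOn F U s r) :
    PresOn F V (fun i => res F hVU (s i)) (fun k i => rres hVU (r k i)) := by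
  refine presOn_of_local F hV _ _ (fun k => ?_) (fun x y hy => ?_) (fun c hc y hy => ?_)
  · rw [← res_sum_smul, P.rel k, map_zero]
  all_goals
    obtain ⟨g, hgV, hyg⟩ := hU.exists_basicOpen_le (⟨y, hy⟩ : V) (hVU hy)
    refine ⟨X.basicOpen g, hgV, hyg, ?_⟩
  · obtain ⟨d, hd⟩ := (P.basicOpen hU g).1 (res F hgV x)
    exact ⟨d, by simpa only [res_res] using hd⟩
  · obtain ⟨b, hb⟩ := (P.basicOpen hU g).2 (fun i => rres hgV (c i)) (by
      have := congrArg (res F hgV) hc
      rw [res_sum_smul, map_zero] at this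
      simpa only [res_res] using this)
    exact ⟨b, fun i => by simpa only [rres_rres] using hb i⟩

/-- Finitely presented sections on an affine open of a locally Noetherian scheme. -/
theorem exists_presOn [IsLocallyNoetherian X] (F : X.Modules) [F.IsQuasicoherent] [F.IsFiniteType]
    {U : X.Opens} (hU : IsAffineOpen U) :
    ∃ (n m : ℕ) (s : Fin n → Γ(F, U)) (r : Fin m → Fin n → Γ(X, U)), PresOn F U s r := by
  haveI : IsNoetherianRing Γ(X, U) := IsLocallyNoetherian.component_noetherian ⟨U, hU⟩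
  haveI : Module.Finite Γ(X, U) Γ(F, U) := QCoh.finite_sections_of_isFiniteType F hU
  obtain ⟨n, s, hs⟩ := Submodule.fg_iff_exists_fin_generating_family.1 (Module.Finite.fg_top (R := Γ(X, U)) (M := Γ(F, U)))
  let K := LinearMap.ker (Fintype.linearCombination Γ(X, U) s)
  obtain ⟨m, r, hr⟩ := Submodule.fg_iff_exists_fin_generating_family.1 (IsNoetherian.noetherian K)
  refine ⟨n, m, s, r, fun k => ?_, fun x => hs ▸ trivial, fun c hc => ?_⟩
  · have : r k ∈ K := hr ▸ Submodule.subset_span ⟨k, rfl⟩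
    rwa [LinearMap.mem_ker, Fintype.linearCombination_apply] at this
  · rw [hr, LinearMap.mem_ker, Fintype.linearCombination_apply]
    exact hc

/-- A presentation over an affine open is a presentation in the sense of ringed sites. -/
theorem PresOn.exists_locPres {F : X.Modules} [F.IsQuasicoherent] {U : X.Opens} (hU : IsAffineOpen U) {n m : ℕ}
    {s : Fin n → Γ(F, U)} {r : Fin m → Fin n → Γ(X, U)} (P : PresOn F U s r) :
    (∀ k, ∑ i, r k i • (show sect (O := X.sheaf) F U from s i) = 0) ∧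
    (∀ {T : X.Opens} (a : T ⟶ U) (x : sect (O := X.sheaf) F T), ∃ S ∈ Opens.grothendieckTopology X T,
      ∀ ⦃V : X.Opens⦄ (g : V ⟶ T), S g → ∃ c : Fin n → Γ(X, V),
        ∑ i, c i • rs (O := X.sheaf) F (g ≫ a) (s i) = rs (O := X.sheaf) F g x) ∧
    (∀ {T : X.Opens} (a : T ⟶ U) (c : Fin n → Γ(X, T)), ∑ i, c i • rs (O := X.sheaf) F a (s i) = 0 →
      ∃ S ∈ Opens.grothendieckTopology X T, ∀ ⦃V : X.Opens⦄ (g : V ⟶ T), S g → ∃ b : Fin m → Γ(X, V),
        ∀ i, rres g.le (c i) = ∑ k, b k * rres (g ≫ a).le (r k i)) := by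
  refine ⟨P.rel, fun {T} a x => ?_, fun {T} a c hc => ?_⟩
  all_goals
    let S : Sieve T :=
      { arrows := fun V _ => ∃ W, V ≤ W ∧ W ≤ T ∧ IsAffineOpen W
        downward_closed := fun {Y Z} {f} ⟨W, h1, h2⟩ k => ⟨W, k.le.trans h1, h2⟩ }
    have hS : S ∈ Opens.grothendieckTopology X T := fun y hy => by
      obtain ⟨_, ⟨W, hW, rfl⟩, hyW, hWT⟩ := X.isBasis_affineOpens.exists_subset_of_mem_open hy T.isOpen
      exact ⟨W, homOfLE hWT, ⟨W, le_rfl, hWT, hW⟩, hyW⟩
    refine ⟨S, hS, fun V g hg => ?_⟩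
    obtain ⟨W, hVW, hWT, hW⟩ := hg
    have Q := P.restrict hU hW (hWT.trans a.le)
  · obtain ⟨d, hd⟩ := Submodule.mem_span_range_iff_exists_fun _ |>.1 (Q.gen (res F hWT x))
    refine ⟨fun i => rres hVW (d i), ?_⟩
    have := congrArg (res F hVW) hd
    rw [res_sum_smul] at this
    simp only [res_res] at this
    exact this
  · have h1 := congrArg (res F hWT) (show (∑ i, c i • res F a.le (s i)) = 0 from hc)
    rw [res_sum_smul, map_zero] at h1
    simp only [res_res] at h1
    obtain ⟨d, hd⟩ := Submodule.mem_span_range_iff_exists_fun _ |>.1 (Q.relgen _ h1)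
    refine ⟨fun k => rres hVW (d k), fun i => ?_⟩
    have := congrArg (rres hVW) (congrFun hd i)
    simp only [Finset.sum_apply, Pi.smul_apply, smul_eq_mul, rres_sum, map_mul, rres_rres] at this
    exact this.symm

end Groth.Agent.FFormal
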