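import Groth.Agent.FFormal.Iso

/-!
# Morphisms of coherent modules and of coherent systems
-/

set_option autoImplicit false
set_option linter.style.haveILetI false
set_option linter.dupNamespace false

universe u

open CategoryTheory CategoryTheory.Limits AlgebraicGeometry Opposite TopologicalSpace ModSite

namespace Groth.Agent.FFormal

open Groth.Agent.ModFlat (rs)
open Groth.Agent.PullFlat (appS appS_res appS_comp appS_zero appS_injective eq_zero_of_locally)
open Groth.Agent.LocPres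

variable {𝔛 : FSch.Sys.{u}} {h : 𝔛.IsFormal} {𝔐 𝔑 : FSch.ModSys 𝔛}

/-- A map out of a level is determined by its composite with the projection. -/
theorem level_hom_ext (hN : 𝔛.IsLocNoethFormal) (hM : 𝔐.IsCoh) (k : ℕ) {G : (𝔛.X k).Modules}
    {x y : 𝔐.F k ⟶ G}
    (hxy : FSch.realProj 𝔛 h 𝔐.F 𝔐.toPush k ≫ (FSch.levelMor 𝔛 h k).push.map x =
      FSch.realProj 𝔛 h 𝔐.F 𝔐.toPush k ≫ (FSch.levelMor 𝔛 h k).push.map y) : x = y := by
  haveI := isIso_pull_realProj (h := h) hN hM k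
  have h1 := congrArg ((FSch.levelMor 𝔛 h k).adj.homEquiv _ _).symm hxy
  rw [Adjunction.homEquiv_naturality_right_symm, Adjunction.homEquiv_naturality_right_symm] at h1
  exact (cancel_epi (((FSch.levelMor 𝔛 h k).adj.homEquiv _ _).symm
    (FSch.realProj 𝔛 h 𝔐.F 𝔐.toPush k))).1 h1

theorem realModMap_proj (φ : 𝔐 ⟶ 𝔑) (k : ℕ) :
    FSch.ModSys.realModMap h φ ≫ FSch.realProj 𝔛 h 𝔑.F 𝔑.toPush k =
      FSch.realProj 𝔛 h 𝔐.F 𝔐.toPush k ≫ (FSch.levelMor 𝔛 h k).push.map (φ.app k) :=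
  FSch.realLimMap_realProj 𝔛 h φ.app (FSch.ModSys.Hom.toPush_comm φ) k

theorem realModMap_bijective (hN : 𝔛.IsLocNoethFormal) (hM : 𝔐.IsCoh) :
    Function.Bijective (fun φ : 𝔐 ⟶ 𝔑 => FSch.ModSys.realModMap h φ) := by
  refine ⟨fun φ ψ hφψ => FSch.ModSys.Hom.ext (funext fun k => level_hom_ext (h := h) hN hM k ?_), fun Ψ => ?_⟩
  · rw [← realModMap_proj, ← realModMap_proj]
    exact congrArg (· ≫ _) hφψ
  · choose ai hai₁ hai₂ using fun k => (isIso_pull_realProj (h := h) hN hM k).out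
    let φ : ∀ k, 𝔐.F k ⟶ 𝔑.F k := fun k =>
      ai k ≫
        ((FSch.levelMor 𝔛 h k).adj.homEquiv _ _).symm (Ψ ≫ FSch.realProj 𝔛 h 𝔑.F 𝔑.toPush k)
    have hφ : ∀ k, FSch.realProj 𝔛 h 𝔐.F 𝔐.toPush k ≫ (FSch.levelMor 𝔛 h k).push.map (φ k) =
        Ψ ≫ FSch.realProj 𝔛 h 𝔑.F 𝔑.toPush k := fun k => by
      apply ((FSch.levelMor 𝔛 h k).adj.homEquiv _ _).symm.injective
      rw [Adjunction.homEquiv_naturality_right_symm]
      exact (Category.assoc _ _ _).symm.trans ((congrArg (· ≫ _) (hai₁ k)).trans (Category.id_comp _))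
    have hc : ∀ k, 𝔐.toPush k ≫ (Scheme.Modules.pushforward (𝔛.ι k)).map (φ k) = φ (k + 1) ≫ 𝔑.toPush k := by
      intro k
      refine level_hom_ext (h := h) hN hM (k + 1) ?_
      let pc := FSch.pushCompare 𝔛 h k
      haveI : IsIso (pc.app (𝔑.F k)) :=
        ⟨⟨(FSch.pushCompareInv 𝔛 h k).app _, FSch.pushCompare_pushCompareInv 𝔛 h k _,
          FSch.pushCompareInv_pushCompare 𝔛 h k _⟩⟩
      refine (cancel_mono (pc.app (𝔑.F k))).1 ?_
      have hnat := pc.naturality (φ k)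
      simp only [Functor.comp_map] at hnat
      refine (Category.assoc _ _ _).trans (Eq.trans ?_ (Category.assoc _ _ _).symm)
      refine (congrArg (fun z => FSch.realProj 𝔛 h 𝔐.F 𝔐.toPush (k + 1) ≫ z ≫ pc.app (𝔑.F k))
        ((FSch.levelMor 𝔛 h (k + 1)).push.map_comp _ _)).trans ?_
      refine Eq.trans ?_ (congrArg (fun z => FSch.realProj 𝔛 h 𝔐.F 𝔐.toPush (k + 1) ≫ z ≫ pc.app (𝔑.F k))
        ((FSch.levelMor 𝔛 h (k + 1)).push.map_comp _ _)).symm
      refine (congrArg (FSch.realProj 𝔛 h 𝔐.F 𝔐.toPush (k + 1) ≫ ·)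
        ((Category.assoc _ _ _).trans ((congrArg (_ ≫ ·) hnat).trans (Category.assoc _ _ _).symm))).trans ?_
      refine ((Category.assoc _ _ _).symm.trans
        (congrArg (· ≫ (FSch.levelMor 𝔛 h k).push.map (φ k)) (FSch.realProj_map 𝔛 h 𝔐.F 𝔐.toPush k))).trans ?_
      refine (hφ k).trans ?_
      refine Eq.trans ?_ (congrArg (FSch.realProj 𝔛 h 𝔐.F 𝔐.toPush (k + 1) ≫ ·) (Category.assoc _ _ _).symm)
      refine Eq.trans ?_ ((congrArg (· ≫ ((FSch.levelMor 𝔛 h (k + 1)).push.map (𝔑.toPush k) ≫ pc.app (𝔑.F k)))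
        (hφ (k + 1))).symm.trans (Category.assoc _ _ _))
      refine Eq.trans ?_ (Category.assoc _ _ _).symm
      exact congrArg (Ψ ≫ ·) (FSch.realProj_map 𝔛 h 𝔑.F 𝔑.toPush k).symm
    let ψ : 𝔐 ⟶ 𝔑 := ⟨φ, fun k => by
      apply ((Scheme.Modules.pullbackPushforwardAdjunction (𝔛.ι k)).homEquiv _ _).injective
      rw [Adjunction.homEquiv_naturality_left, Adjunction.homEquiv_naturality_right]
      exact (hc k).symm⟩
    refine ⟨ψ, limit.hom_ext fun j => ?_⟩
    obtain ⟨k⟩ := j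
    exact (realModMap_proj ψ k).trans (hφ k)

/-- A coherent module with vanishing inverse image to the smallest level vanishes. -/
theorem isZero_of_isZero_pull_zero (hN : 𝔛.IsLocNoethFormal) {F : FSch.ModF 𝔛 h} (hF : FSch.IsCohF 𝔛 h F)
    (h0 : IsZero ((FSch.levelMor 𝔛 h 0).pull.obj F)) : IsZero F := by
  haveI := isIso_toReal hN hF
  have hsect : ∀ (U : (𝔛.X 0).Opens) (x : sect F U), x = 0 := fun U x => by
    obtain ⟨S, hS, hS'⟩ := exists_cover_affine (𝔛 := 𝔛) U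
    refine appS_injective (toReal F) U ((eq_zero_of_locally _ hS _ fun V g hg => ?_).trans (map_zero _).symm)
    obtain ⟨W, hVW, hWU, hW⟩ := hS' g hg
    obtain ⟨-, -, -, hgen⟩ := sections_spec (h := h) (𝔐 := sysOf F) hN (isCoh_sysOf hF) hW
    have hz : ∀ y : WS h (sysOf F) 0 W, y = 0 := fun y =>
      congrArg (fun φ => appS (O := (𝔛.X 0).sheaf) φ (𝔛.lvU h 0 W) y)
        (h0.eq_of_src (𝟙 ((FSch.levelMor 𝔛 h 0).pull.obj F)) 0)
    have := hgen (n := 0) (fun i => i.elim0) (fun y => (hz y).symm ▸ Submodule.zero_mem _)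
      (rs ((sysOf F).realMod h) (homOfLE hWU) (appS (toReal F) U x))
    rw [Set.range_eq_empty, Submodule.span_empty, Submodule.mem_bot] at this
    rw [show g = homOfLE hVW ≫ homOfLE hWU from Subsingleton.elim _ _, Groth.Agent.ModFlat.map_val_comp, this,
      map_zero]
  rw [IsZero.iff_id_eq_zero]
  exact SheafOfModules.hom_ext (PresheafOfModules.hom_ext fun U => ModuleCat.hom_ext (LinearMap.ext fun x =>
    (hsect U.unop _).trans (hsect U.unop _).symm))

theorem epi_iff_epi_pull_zero (hN : 𝔛.IsLocNoethFormal) {F G : FSch.ModF 𝔛 h} (hF : FSch.IsCohF 𝔛 h F)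
    (hG : FSch.IsCohF 𝔛 h G) (θ : F ⟶ G) : Epi θ ↔ Epi ((FSch.levelMor 𝔛 h 0).pull.map θ) := by
  let f := FSch.levelMor 𝔛 h 0
  haveI : f.pull.IsLeftAdjoint := f.adj.isLeftAdjoint
  refine ⟨fun hθ => inferInstance, fun hθ => ?_⟩
  haveI : SheafOfModules.IsFinitePresentation (R := ModSite.ringSh (𝔛.Osh h)) F := hF
  haveI : SheafOfModules.IsFinitePresentation (R := ModSite.ringSh (𝔛.Osh h)) G := hG
  haveI : SheafOfModules.IsFiniteType (R := ModSite.ringSh (𝔛.Osh h)) F := inferInstance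
  have hC : FSch.IsCohF 𝔛 h (cokernel θ) := isFinitePresentation_cokernel θ
  have h1 : f.pull.map (cokernel.π θ) = 0 := by
    rw [← cancel_epi (f.pull.map θ), ← Functor.map_comp, cokernel.condition, comp_zero, Functor.map_zero]
  haveI : Epi (f.pull.map (cokernel.π θ)) := inferInstance
  have h2 := isZero_of_isZero_pull_zero hN hC (IsZero.of_epi_eq_zero _ h1)
  exact Abelian.epi_of_cokernel_π_eq_zero θ (h2.eq_of_tgt _ _)

end Groth.Agent.FFormal
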