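import Groth.Agent.FFormal.ComplExact
import Groth.Agent.FFormal.Hom
import Groth.Agent.Adic.ComplAlong
import Groth.Agent.Adic.IdealSpec
import Groth.Agent.FComplNhd.Basic
import Groth.Agent.CycLib.ModStalk
import Groth.Agent.ChiPoly.Basic
import Groth.Agent.CohDev.Coh

/-!
# Monomorphisms and epimorphisms detected on the completion, over a closed map
-/

set_option autoImplicit false
set_option linter.style.haveILetI false
set_option linter.dupNamespace false

universe u

open CategoryTheory CategoryTheory.Limits AlgebraicGeometry Opposite TopologicalSpace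

namespace Groth.Agent.FFormal.MonoEpi

open Groth.Agent

variable {X : Scheme.{u}} (𝓘 : X.IdealSheafData) (h : (FSch.completionAlong X 𝓘).IsFormal)

/-- The inverse image functor to the completion. -/
noncomputable abbrev C : X.Modules ⥤ FSch.ModF (FSch.completionAlong X 𝓘) h :=
  (FFormal.tsm h (FSch.completionToX X 𝓘) (FSch.completionToX_comm X 𝓘)).pull

/-- The inverse image of a map is the completed map. -/
noncomputable def arrowIso [IsLocallyNoetherian X] {F G : X.Modules} (hF : Coh.IsCoh F) (hG : Coh.IsCoh G)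
    (u : F ⟶ G) : Arrow.mk ((C 𝓘 h).map u) ≅ Arrow.mk (FSch.ModSys.realModMap h (FSch.complModMap 𝓘 u)) :=
  Arrow.isoMk
    (@asIso _ _ _ _ (toCompleted h (FSch.completionToX X 𝓘) (FSch.completionToX_comm X 𝓘) F)
      (isIso_toCompleted h (FSch.completionToX X 𝓘) (FSch.completionToX_comm X 𝓘)
        (Adic.ComplAlong.isLocNoethFormal 𝓘) hF))
    (@asIso _ _ _ _ (toCompleted h (FSch.completionToX X 𝓘) (FSch.completionToX_comm X 𝓘) G)
      (isIso_toCompleted h (FSch.completionToX X 𝓘) (FSch.completionToX_comm X 𝓘)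
        (Adic.ComplAlong.isLocNoethFormal 𝓘) hG))
    (toCompleted_naturality h (FSch.completionToX X 𝓘) (FSch.completionToX_comm X 𝓘) u (FSch.complModMap 𝓘 u)
      fun _ => rfl)

theorem mono_iff [IsLocallyNoetherian X] {F G : X.Modules} (hF : Coh.IsCoh F) (hG : Coh.IsCoh G) (u : F ⟶ G) :
    Mono (FSch.ModSys.realModMap h (FSch.complModMap 𝓘 u)) ↔ Mono ((C 𝓘 h).map u) :=
  ((MorphismProperty.monomorphisms _).arrow_mk_iso_iff (arrowIso 𝓘 h hF hG u)).symm

theorem epi_iff [IsLocallyNoetherian X] {F G : X.Modules} (hF : Coh.IsCoh F) (hG : Coh.IsCoh G) (u : F ⟶ G) :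
    Epi (FSch.ModSys.realModMap h (FSch.complModMap 𝓘 u)) ↔ Epi ((C 𝓘 h).map u) :=
  ((MorphismProperty.epimorphisms _).arrow_mk_iso_iff (arrowIso 𝓘 h hF hG u)).symm

theorem mono_map [IsLocallyNoetherian X] {F G : X.Modules} (hF : Coh.IsCoh F) (hG : Coh.IsCoh G) (u : F ⟶ G)
    [Mono u] : Mono ((C 𝓘 h).map u) := by
  haveI : ∀ n, IsClosedImmersion (FSch.completionToX X 𝓘 n) := fun n =>
    inferInstanceAs (IsClosedImmersion (𝓘 ^ (n + 1)).subschemeι)
  exact (mono_iff 𝓘 h hF hG u).1 (mono_realModMap_of_mono h 𝓘 (FSch.completionToX X 𝓘)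
    (FSch.completionToX_comm X 𝓘) (fun n => Scheme.IdealSheafData.ker_subschemeι _) u hF hG _ fun _ => rfl)

/-- A coherent module with zero completion vanishes near the closed set. -/
theorem exists_nhd [IsLocallyNoetherian X] {K : X.Modules} (hK : Coh.IsCoh K) (h0 : IsZero ((C 𝓘 h).obj K)) :
    ∃ U : X.Opens, (𝓘.support : Set X) ⊆ U ∧ ∀ x ∈ U, Subsingleton (K.presheaf.stalk x) := by
  haveI := isIso_toCompleted h (FSch.completionToX X 𝓘) (FSch.completionToX_comm X 𝓘)
    (Adic.ComplAlong.isLocNoethFormal 𝓘) hK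
  have h1 : IsZero ((cmp (FSch.completionToX X 𝓘) (FSch.completionToX_comm X 𝓘) K).realMod h) :=
    h0.of_iso (asIso (toCompleted h (FSch.completionToX X 𝓘) (FSch.completionToX_comm X 𝓘) K)).symm
  have hk : ∀ k, IsZero ((Scheme.Modules.pullback (FSch.completionToX X 𝓘 k)).obj K) := fun k => by
    haveI := isIso_pull_realProj (h := h) (Adic.ComplAlong.isLocNoethFormal 𝓘)
      (isCoh_cmp (FSch.completionToX X 𝓘) (FSch.completionToX_comm X 𝓘) hK) k
    haveI : (FSch.levelMor (FSch.completionAlong X 𝓘) h k).pull.IsLeftAdjoint :=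
      (FSch.levelMor (FSch.completionAlong X 𝓘) h k).adj.isLeftAdjoint
    exact ((FSch.levelMor (FSch.completionAlong X 𝓘) h k).pull.map_isZero h1).of_iso
      (asIso (((FSch.levelMor (FSch.completionAlong X 𝓘) h k).adj.homEquiv _ _).symm
        (FSch.realProj (FSch.completionAlong X 𝓘) h (cmp (FSch.completionToX X 𝓘) (FSch.completionToX_comm X 𝓘) K).F
          (cmp (FSch.completionToX X 𝓘) (FSch.completionToX_comm X 𝓘) K).toPush k))).symm
  obtain ⟨U, hU, hU'⟩ := S2302.result X K K hK hK (𝟙 K) 𝓘 fun n => (hk n).eq_of_src _ _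
  refine ⟨U, hU, fun x hx => subsingleton_of_forall_eq 0 fun t => ?_⟩
  obtain ⟨V, hxV, s, rfl⟩ := K.presheaf.exists_germ_eq t
  let W : (U : Scheme.{u}).Opens := U.ι ⁻¹ᵁ V
  have hW : U.ι ''ᵁ W ≤ V := Scheme.Hom.image_preimage_le U.ι V
  have hxW : x ∈ U.ι ''ᵁ W := ⟨⟨x, hx⟩, hxV, rfl⟩
  have e : (K.presheaf.map (homOfLE hW).op s : Γ(K, U.ι ''ᵁ W)) = 0 :=
    congrArg (fun φ : _ ⟶ _ => Scheme.Modules.Hom.app φ W (K.presheaf.map (homOfLE hW).op s)) hU'
  rw [← TopCat.Presheaf.germ_res_apply K.presheaf (homOfLE hW) x hxW s]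
  exact (congrArg (K.presheaf.germ _ x hxW) e).trans (map_zero _)

variable {A : Type u} [CommRing A] {J : Ideal A} (f : X ⟶ Spec (CommRingCat.of A))

/-- A coherent module with zero completion is zero, for a closed map to the spectrum of a complete ring. -/
theorem isZero_of_isZero_completion [IsLocallyNoetherian X] [IsAdicComplete J A] (hf : IsClosedMap f.base)
    (h𝓘 : 𝓘 = (FSch.idealSpec A J).comap f) {K : X.Modules} (hK : Coh.IsCoh K)
    (h0 : IsZero ((C 𝓘 h).obj K)) : IsZero K := by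
  obtain ⟨U, hU, hU'⟩ := exists_nhd 𝓘 h hK h0
  haveI := hK.1
  have hcl := hf _ (CycLib.isClosed_support (M := K) hK)
  refine ChiPoly.isZero_of_stalks fun x => ?_
  by_contra hx
  obtain ⟨q, hq, hqc⟩ := hcl.exists_closed_singleton ⟨f.base x, x, not_subsingleton_iff_nontrivial.1 hx, rfl⟩
  obtain ⟨z, hz, rfl⟩ := hq
  refine not_subsingleton_iff_nontrivial.2 hz (hU' z (hU ?_))
  rw [h𝓘, Scheme.IdealSheafData.support_comap]
  show f.base z ∈ ((FSch.idealSpec A J).support : Set _)
  have hmax : (f.base z : PrimeSpectrum A).asIdeal.IsMaximal :=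
    (PrimeSpectrum.isClosed_singleton_iff_isMaximal _).1 hqc
  rw [FSch.idealSpec, Scheme.Hom.support_ker]
  refine subset_closure ?_
  change (f.base z : PrimeSpectrum A) ∈ Set.range (PrimeSpectrum.comap (Ideal.Quotient.mk J))
  rw [range_comap_of_surjective _ _ Ideal.Quotient.mk_surjective, Ideal.mk_ker]
  exact (IsAdicComplete.le_jacobson_bot J).trans (sInf_le ⟨bot_le, hmax⟩)

include f in
theorem mono_of_completion [IsLocallyNoetherian X] [IsAdicComplete J A] (hf : IsClosedMap f.base)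
    (h𝓘 : 𝓘 = (FSch.idealSpec A J).comap f) {F G : X.Modules} (hF : Coh.IsCoh F) (hG : Coh.IsCoh G) (u : F ⟶ G)
    (hu : Mono ((C 𝓘 h).map u)) : Mono u := by
  haveI : (C 𝓘 h).Additive :=
    (FFormal.tsm h (FSch.completionToX X 𝓘) (FSch.completionToX_comm X 𝓘)).adj.left_adjoint_additive
  haveI := mono_map 𝓘 h (CohDev.isCoh_kernel u hF hG.1) hF (kernel.ι u)
  have h1 : (C 𝓘 h).map (kernel.ι u) = 0 := by
    rw [← cancel_mono ((C 𝓘 h).map u), zero_comp, ← Functor.map_comp, kernel.condition, Functor.map_zero]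
  refine Preadditive.mono_of_kernel_zero ((isZero_of_isZero_completion 𝓘 h f hf h𝓘
    (CohDev.isCoh_kernel u hF hG.1) ?_).eq_of_src _ _)
  exact IsZero.of_mono_eq_zero ((C 𝓘 h).map (kernel.ι u)) h1

include f in
theorem epi_of_completion [IsLocallyNoetherian X] [IsAdicComplete J A] (hf : IsClosedMap f.base)
    (h𝓘 : 𝓘 = (FSch.idealSpec A J).comap f) {F G : X.Modules} (hF : Coh.IsCoh F) (hG : Coh.IsCoh G) (u : F ⟶ G)
    (hu : Epi ((C 𝓘 h).map u)) : Epi u := by
  haveI : (C 𝓘 h).IsLeftAdjoint :=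
    (FFormal.tsm h (FSch.completionToX X 𝓘) (FSch.completionToX_comm X 𝓘)).adj.isLeftAdjoint
  haveI : (C 𝓘 h).Additive :=
    (FFormal.tsm h (FSch.completionToX X 𝓘) (FSch.completionToX_comm X 𝓘)).adj.left_adjoint_additive
  have h1 : (C 𝓘 h).map (cokernel.π u) = 0 := by
    rw [← cancel_epi ((C 𝓘 h).map u), comp_zero, ← Functor.map_comp, cokernel.condition, Functor.map_zero]
  refine Preadditive.epi_of_cokernel_zero ((isZero_of_isZero_completion 𝓘 h f hf h𝓘
    (CohDev.isCoh_cokernel u hF.1 hG) ?_).eq_of_tgt _ _)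
  exact IsZero.of_epi_eq_zero ((C 𝓘 h).map (cokernel.π u)) h1

end Groth.Agent.FFormal.MonoEpi
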