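import Groth.Agent.FFormal.Algebraize
import Groth.Agent.FFormal.MonoEpi
import Groth.Agent.S0004
import Groth.Agent.S13337

/-!
# Completion is fully faithful on coherent modules of a proper scheme
-/

set_option autoImplicit false
set_option linter.style.haveILetI false
set_option linter.dupNamespace false

universe u

open CategoryTheory CategoryTheory.Limits AlgebraicGeometry Opposite TopologicalSpace

namespace Groth.Agent.FFormal.AlgFF

open Groth.Agent Groth.Agent.FFormal.Algebraize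

variable {A : Type u} [CommRing A] {X : Scheme.{u}} [X.Over (Spec (CommRingCat.of A))]
variable {J : Ideal A} (𝓘 : X.IdealSheafData) {G H : X.Modules}

theorem transpose_gen {C D E : Type*} [Category C] [Category D] [Category E] {L₁ : C ⥤ D} {R₁ : D ⥤ C}
    (a₁ : L₁ ⊣ R₁) {L₀ : C ⥤ E} {R₀ : E ⥤ C} (a₀ : L₀ ⊣ R₀) {I : D ⥤ E} (τ : L₁ ⋙ I ≅ L₀) {G : C} {M₁ : D} {M₀ : E}
    (b : I.obj M₁ ⟶ M₀) (ψ₁ : L₁.obj G ⟶ M₁) (ψ₀ : L₀.obj G ⟶ M₀) (hc : I.map ψ₁ ≫ b = τ.hom.app G ≫ ψ₀) :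
    a₁.homEquiv _ _ ψ₁ ≫ a₀.homEquiv _ _ (τ.inv.app (R₁.obj M₁) ≫ I.map (a₁.counit.app M₁) ≫ b) =
      a₀.homEquiv _ _ ψ₀ := by
  apply (a₀.homEquiv _ _).symm.injective
  rw [Adjunction.homEquiv_naturality_left_symm, Equiv.symm_apply_apply, Equiv.symm_apply_apply,
    ← cancel_epi (τ.hom.app G), ← hc, ← transpose_comm τ]
  exact congrArg (fun t => I.map t ≫ b) ((a₁.homEquiv_counit ..).symm.trans (Equiv.symm_apply_apply _ _))

/-- The transition maps, written out. -/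
noncomputable def tD (𝔐 : FSch.ModSys (FSch.completionAlong X 𝓘)) (n : ℕ) : term 𝔐 (n + 1) ⟶ term 𝔐 n :=
  (adjX 𝓘 n).homEquiv ((Scheme.Modules.pushforward (cX 𝓘 (n + 1))).obj (𝔐.F (n + 1))) (𝔐.F n)
    ((FSch.complTransIso 𝓘 n).inv.app ((Scheme.Modules.pushforward (cX 𝓘 (n + 1))).obj (𝔐.F (n + 1))) ≫
      (Scheme.Modules.pullback ((FSch.completionAlong X 𝓘).ι n)).map ((adjX 𝓘 (n + 1)).counit.app (𝔐.F (n + 1))) ≫
        (𝔐.e n).hom)

theorem transpose_eq {𝔐 : FSch.ModSys (FSch.completionAlong X 𝓘)} (ψ : FSch.complMod 𝓘 G ⟶ 𝔐) (n : ℕ) :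
    (adjX 𝓘 (n + 1)).homEquiv _ _ (ψ.app (n + 1)) ≫ tD 𝓘 𝔐 n = (adjX 𝓘 n).homEquiv _ _ (ψ.app n) :=
  transpose_gen (adjX 𝓘 (n + 1)) (adjX 𝓘 n) (FSch.complTransIso 𝓘 n) (G := G)
    (M₁ := 𝔐.F (n + 1)) (M₀ := 𝔐.F n) (𝔐.e n).hom (ψ.app (n + 1)) (ψ.app n) (ψ.comm n)

theorem existsUnique_gen {T : ℕ → X.Modules} (t : ∀ n, T (n + 1) ⟶ T n)
    (hk : ∀ n, Formal.KilledBy (J ^ (n + 1)) (T n)) (q : ∀ n, H ⟶ T n)
    (hq : ∀ n, Formal61.Sys.IsModQuot (J ^ (n + 1)) (q n)) (hqc : ∀ n, q (n + 1) ≫ t n = q n)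
    (α : ∀ n, G ⟶ T n) (hαc : ∀ n, α (n + 1) ≫ t n = α n)
    (hu : ∀ Φ : Formal.completion J G ⟶ Formal.completion J H, ∃! φ : G ⟶ H,
      ∀ n, Formal.modPowπ J (n + 1) G ≫ Φ.app (op n) = φ ≫ Formal.modPowπ J (n + 1) H) :
    ∃! φ : G ⟶ H, ∀ n, φ ≫ q n = α n := by
  obtain ⟨e, he⟩ := Formal61.Sys.exists_completion_iso (G := Functor.ofOpSequence t) H q hq fun n => by
    rw [Functor.ofOpSequence_map_homOfLE_succ]
    exact hqc n
  choose β hβ using fun n => (Formal61.Sys.isModQuot_modPowπ J (n + 1) G).exists_desc_of_killedBy (α n) (hk n)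
  let Φ : Formal.completion J G ⟶ Functor.ofOpSequence t := NatTrans.ofOpSequence (fun n => β n) fun n => by
    refine (cancel_epi (Formal.modPowπ J (n + 1 + 1) G)).1 ?_
    refine (Category.assoc _ _ _).symm.trans (Eq.trans ?_ (Category.assoc _ _ _))
    refine (congrArg (· ≫ β n) (Formal61.Sys.modPowπ_comp_completion_map J G (Nat.le_succ n))).trans ?_
    refine (hβ n).trans (Eq.trans ?_ (congrArg (· ≫ (Functor.ofOpSequence t).map _) (hβ (n + 1))).symm)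
    rw [Functor.ofOpSequence_map_homOfLE_succ]
    exact (hαc n).symm
  have h2 : ∀ (φ : G ⟶ H) n, (Formal.modPowπ J (n + 1) G ≫ (Φ ≫ e.inv).app (op n) =
      φ ≫ Formal.modPowπ J (n + 1) H) ↔ φ ≫ q n = α n := fun φ n => by
    have hA : (Formal.modPowπ J (n + 1) G ≫ (Φ ≫ e.inv).app (op n)) ≫ e.hom.app (op n) = α n :=
      (Category.assoc _ _ _).trans ((congrArg (Formal.modPowπ J (n + 1) G ≫ ·) ((Category.assoc _ _ _).trans
        ((congrArg (Φ.app (op n) ≫ ·) (e.inv_hom_id_app (op n))).trans (Category.comp_id _)))).trans (hβ n))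
    have hB : (φ ≫ Formal.modPowπ J (n + 1) H) ≫ e.hom.app (op n) = φ ≫ q n :=
      (Category.assoc _ _ _).trans (congrArg (φ ≫ ·) (he n))
    exact ⟨fun h => hB.symm.trans ((congrArg (· ≫ e.hom.app (op n)) h.symm).trans hA),
      fun h => (cancel_mono (e.hom.app (op n))).1 (hA.trans (h.symm.trans hB.symm))⟩
  obtain ⟨φ, hφ, huniq⟩ := hu (Φ ≫ e.inv)
  exact ⟨φ, fun n => (h2 φ n).1 (hφ n), fun φ' h => huniq φ' fun n => (h2 φ' n).2 (h n)⟩

theorem map_iff (ψ : FSch.complMod 𝓘 G ⟶ FSch.complMod 𝓘 H) (φ : G ⟶ H) (n : ℕ) :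
    φ ≫ (adjX 𝓘 n).unit.app H = (adjX 𝓘 n).homEquiv _ _ (ψ.app n) ↔
      (Scheme.Modules.pullback (cX 𝓘 n)).map φ = ψ.app n := by
  constructor
  · intro h
    apply ((adjX 𝓘 n).homEquiv G _).injective
    refine Eq.trans ?_ h
    exact (Adjunction.homEquiv_unit ..).trans ((adjX 𝓘 n).unit.naturality φ).symm
  · intro h
    refine ((adjX 𝓘 n).unit.naturality φ).trans (Eq.trans ?_ (congrArg _ h))
    exact (Adjunction.homEquiv_unit ..).symm

theorem existsUnique_preimage [IsNoetherianRing A] [IsAdicComplete J A]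
    [IsProper (X ↘ Spec (CommRingCat.of A))]
    (h𝓘 : 𝓘 = FormalExist.IdealQuot.baseIdeal X J) (hG : Coh.IsCoh G) (hH : Coh.IsCoh H)
    (ψ : FSch.complMod 𝓘 G ⟶ FSch.complMod 𝓘 H) : ∃! φ : G ⟶ H, FSch.complModMap 𝓘 φ = ψ := by
  haveI : IsLocallyNoetherian X := LocallyOfFiniteType.isLocallyNoetherian (X ↘ Spec (CommRingCat.of A))
  haveI := hH.1
  have hHc : (FSch.complMod 𝓘 H).IsCoh := isCoh_cmp (𝔛 := FSch.completionAlong X 𝓘)
    (FSch.completionToX X 𝓘) (FSch.completionToX_comm X 𝓘) hH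
  obtain ⟨φ, hφ, huniq⟩ := existsUnique_gen (G := G) (H := H) (T := term (FSch.complMod 𝓘 H))
    (tD 𝓘 (FSch.complMod 𝓘 H)) (isCohFormal_dirSys (FSch.complMod 𝓘 H) h𝓘 hHc).2.1
    (fun n => (adjX 𝓘 n).unit.app H) (fun n => isModQuot_unit 𝓘 h𝓘 n H)
    (fun n => by
      have h1 := transpose_eq (G := H) 𝓘 (𝟙 (FSch.complMod 𝓘 H)) n
      have hid : ∀ k, (adjX 𝓘 k).homEquiv H _ ((𝟙 (FSch.complMod 𝓘 H) : FSch.complMod 𝓘 H ⟶ _).app k) =
          (adjX 𝓘 k).unit.app H := fun k => (adjX 𝓘 k).homEquiv_id H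
      exact (congrArg (· ≫ tD 𝓘 (FSch.complMod 𝓘 H) n) (hid (n + 1)).symm).trans (h1.trans (hid n)))
    (fun n => (adjX 𝓘 n).homEquiv _ _ (ψ.app n)) (fun n => transpose_eq 𝓘 ψ n)
    (fun Φ => (S0004.result A J X).1 G H hG hH Φ)
  refine ⟨φ, FSch.ModSys.Hom.ext (funext fun n => (map_iff 𝓘 ψ φ n).1 (hφ n)), fun φ' h => ?_⟩
  exact huniq φ' fun n => (map_iff 𝓘 ψ φ' n).2 (congrArg (fun t => FSch.ModSys.Hom.app t n) h)

theorem bij_gen {C D : Type*} [Category C] [Category D] (F : C ⥤ D) {G H : C} {G' H' : D} (a : F.obj G ⟶ G')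
    (b : F.obj H ⟶ H') (ha : IsIso a) (hb : IsIso b) (c : (G ⟶ H) → (G' ⟶ H'))
    (nat : ∀ φ, a ≫ c φ = F.map φ ≫ b) (hc : Function.Bijective c) :
    Function.Bijective (fun φ : G ⟶ H => F.map φ) := by
  refine ⟨fun φ φ' hh => hc.1 ((cancel_epi a).1 ?_), fun u => ?_⟩
  · rw [nat, nat]
    exact congrArg (· ≫ b) hh
  · obtain ⟨φ, hφ⟩ := hc.2 (inv a ≫ u ≫ b)
    refine ⟨φ, (cancel_mono b).1 ?_⟩
    rw [← nat, hφ, IsIso.hom_inv_id_assoc]

theorem pull_bijective [IsNoetherianRing A] [IsAdicComplete J A]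
    [IsProper (X ↘ Spec (CommRingCat.of A))] (h : (FSch.completionAlong X 𝓘).IsFormal)
    (h𝓘 : 𝓘 = FormalExist.IdealQuot.baseIdeal X J) (hG : Coh.IsCoh G) (hH : Coh.IsCoh H) :
    Function.Bijective (fun φ : G ⟶ H => (MonoEpi.C 𝓘 h).map φ) := by
  haveI : IsLocallyNoetherian X := LocallyOfFiniteType.isLocallyNoetherian (X ↘ Spec (CommRingCat.of A))
  have hN : (FSch.completionAlong X 𝓘).IsLocNoethFormal := Adic.ComplAlong.isLocNoethFormal 𝓘
  have h1 : Function.Bijective (fun φ : G ⟶ H => FSch.complModMap 𝓘 φ) :=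
    Function.bijective_iff_existsUnique _ |>.2 fun ψ => existsUnique_preimage 𝓘 h𝓘 hG hH ψ
  have h2 := S13337.result _ hN (FSch.complMod 𝓘 G) (FSch.complMod 𝓘 H)
    (isCoh_cmp (𝔛 := FSch.completionAlong X 𝓘) (FSch.completionToX X 𝓘) (FSch.completionToX_comm X 𝓘) hG)
    (isCoh_cmp (𝔛 := FSch.completionAlong X 𝓘) (FSch.completionToX X 𝓘) (FSch.completionToX_comm X 𝓘) hH)
  exact bij_gen (MonoEpi.C 𝓘 h) (G' := (FSch.complMod 𝓘 G).realMod h) (H' := (FSch.complMod 𝓘 H).realMod h)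
    (toCompleted h (FSch.completionToX X 𝓘) (FSch.completionToX_comm X 𝓘) G)
    (toCompleted h (FSch.completionToX X 𝓘) (FSch.completionToX_comm X 𝓘) H)
    (isIso_toCompleted h (FSch.completionToX X 𝓘) (FSch.completionToX_comm X 𝓘) hN hG)
    (isIso_toCompleted h (FSch.completionToX X 𝓘) (FSch.completionToX_comm X 𝓘) hN hH)
    (fun φ => FSch.ModSys.realModMap h (FSch.complModMap 𝓘 φ))
    (fun φ => (MonoEpi.arrowIso 𝓘 h hG hH φ).hom.w)
    (h2.comp h1)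

end Groth.Agent.FFormal.AlgFF
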