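import Groth.Agent.FFormal.Algebraize
import Groth.Agent.IndCoh.FP

/-!
# Algebraizable modules: the criterion by the support of the smallest level
-/

set_option autoImplicit false
set_option linter.style.haveILetI false
set_option linter.dupNamespace false
set_option maxHeartbeats 400000

universe u

open CategoryTheory CategoryTheory.Limits AlgebraicGeometry Opposite TopologicalSpace ModSite

namespace Groth.Agent.FFormal.Algebraize

open Groth.Agent

section RealFunctor

variable {𝔛 : FSch.Sys.{u}} {h : 𝔛.IsFormal}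

theorem realModMap_comp {𝔐 𝔑 𝔓 : FSch.ModSys 𝔛} (φ : 𝔐 ⟶ 𝔑) (ψ : 𝔑 ⟶ 𝔓) :
    FSch.ModSys.realModMap h (φ ≫ ψ) = FSch.ModSys.realModMap h φ ≫ FSch.ModSys.realModMap h ψ := by
  refine limit.hom_ext fun j => ?_
  obtain ⟨k⟩ := j
  refine (realModMap_proj (φ ≫ ψ) k).trans (Eq.trans ?_ (Category.assoc _ _ _).symm)
  refine Eq.trans ?_ (congrArg (_ ≫ ·) (realModMap_proj ψ k)).symm
  refine Eq.trans ?_ (Category.assoc _ _ _)
  refine Eq.trans ?_ (congrArg (· ≫ _) (realModMap_proj φ k)).symm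
  exact (congrArg (_ ≫ ·) ((FSch.levelMor 𝔛 h k).push.map_comp _ _)).trans (Category.assoc _ _ _).symm

theorem realModMap_id (𝔐 : FSch.ModSys 𝔛) : FSch.ModSys.realModMap h (𝟙 𝔐) = 𝟙 (𝔐.realMod h) := by
  refine limit.hom_ext fun j => ?_
  obtain ⟨k⟩ := j
  refine (realModMap_proj (𝟙 𝔐) k).trans (Eq.trans ?_ (Category.id_comp _).symm)
  exact (congrArg (_ ≫ ·) ((FSch.levelMor 𝔛 h k).push.map_id _)).trans (Category.comp_id _)

/-- Isomorphic systems have isomorphic limits. -/
noncomputable def realModIso {𝔐 𝔑 : FSch.ModSys 𝔛} (e : 𝔐 ≅ 𝔑) : 𝔐.realMod h ≅ 𝔑.realMod h where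
  hom := FSch.ModSys.realModMap h e.hom
  inv := FSch.ModSys.realModMap h e.inv
  hom_inv_id := by rw [← realModMap_comp, e.hom_inv_id, realModMap_id]
  inv_hom_id := by rw [← realModMap_comp, e.inv_hom_id, realModMap_id]

/-- Vanishing of the smallest level passes to coherent submodules, on an affine open. -/
theorem level_zero_of_mono (hN : 𝔛.IsLocNoethFormal) {K F : FSch.ModF 𝔛 h} (ι : K ⟶ F) [Mono ι]
    (hK : FSch.IsCohF 𝔛 h K) (hF : FSch.IsCohF 𝔛 h F) {W : (𝔛.X 0).Opens} (hW : IsAffineOpen W)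
    (h0 : ∀ y : WS h (sysOf F) 0 W, y = 0) : ∀ y : WS h (sysOf K) 0 W, y = 0 := by
  haveI := isIso_toReal hN hF
  obtain ⟨-, -, -, hgen⟩ := sections_spec (h := h) (𝔐 := sysOf F) hN (isCoh_sysOf hF) hW
  obtain ⟨hsurj, -, -, -⟩ := sections_spec (h := h) (𝔐 := sysOf K) hN (isCoh_sysOf hK) hW
  have hF0 : ∀ x : sect F W, x = 0 := fun x => by
    have h1 := hgen (n := 0) (fun i => i.elim0) (fun y => (h0 y).symm ▸ Submodule.zero_mem _)
      (PullFlat.appS (toReal F) W x)
    rw [Set.range_eq_empty, Submodule.span_empty, Submodule.mem_bot] at h1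
    exact PullFlat.appS_injective (toReal F) W (h1.trans (map_zero _).symm)
  haveI := isIso_toReal hN hK
  intro y
  obtain ⟨z, rfl⟩ := hsurj 0 y
  have hK0 : PullFlat.appS (inv (toReal K)) W z = 0 :=
    PullFlat.appS_injective ι W ((hF0 _).trans (map_zero _).symm)
  have h2 : z = PullFlat.appS (toReal K) W (PullFlat.appS (inv (toReal K)) W z) := by
    rw [← PullFlat.appS_comp, IsIso.inv_hom_id]
    rfl
  rw [h2, hK0, map_zero, map_zero]

end RealFunctor

variable {A : Type u} [CommRing A] {X : Scheme.{u}} {J : Ideal A} (f : X ⟶ Spec (CommRingCat.of A))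
  {𝓘 : X.IdealSheafData} {hX : (FSch.completionAlong X 𝓘).IsFormal}

/-- The smallest level of a module, as a module on the ambient scheme. -/
noncomputable def lev0 : FSch.ModF (FSch.completionAlong X 𝓘) hX ⥤ X.Modules :=
  (FSch.levelMor (FSch.completionAlong X 𝓘) hX 0).pull ⋙ Scheme.Modules.pushforward (cX 𝓘 0)

theorem isLeftAdjoint_lev0 : (lev0 (𝓘 := 𝓘) (hX := hX)).IsLeftAdjoint :=
  ((FSch.levelMor (FSch.completionAlong X 𝓘) hX 0).adj.comp
    (@Adjunction.ofIsLeftAdjoint _ _ _ _ (Scheme.Modules.pushforward (cX 𝓘 0))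
      (Props.KilledSub.isLeftAdjoint (cX 𝓘 0)))).isLeftAdjoint

/-- Algebraizable module with properly supported algebraization. -/
def IsAlg (F : FSch.ModF (FSch.completionAlong X 𝓘) hX) : Prop :=
  ∃ G : X.Modules, Coh.IsCoh G ∧ ClSub.IsProperOver f (CohB1.support G) ∧
    Nonempty (F ≅ (FSch.complMod 𝓘 G).realMod hX)

theorem isCoh_complMod {G : X.Modules} (hG : Coh.IsCoh G) : (FSch.complMod 𝓘 G).IsCoh :=
  isCoh_cmp (𝔛 := FSch.completionAlong X 𝓘) (FSch.completionToX X 𝓘) (FSch.completionToX_comm X 𝓘) hG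

theorem support_lev0_subset [IsLocallyNoetherian X] {F : FSch.ModF (FSch.completionAlong X 𝓘) hX}
    {G : X.Modules} (hG : Coh.IsCoh G) (e : F ≅ (FSch.complMod 𝓘 G).realMod hX) :
    CohB1.support ((lev0).obj F) ⊆ CohB1.support G := by
  haveI := hG.1
  let L := FSch.levelMor (FSch.completionAlong X 𝓘) hX 0
  let e' : L.pull.obj F ≅ (Scheme.Modules.pullback (cX 𝓘 0)).obj G :=
    L.pull.mapIso e ≪≫ @asIso _ _ _ _ _ (isIso_pull_realProj (h := hX) (Adic.ComplAlong.isLocNoethFormal 𝓘)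
      (isCoh_complMod (𝓘 := 𝓘) hG) 0)
  haveI : Epi ((adjX 𝓘 0).unit.app G) := KoszSh77.epi_unit (cX 𝓘 0) G
  have h1 := FormalFun.support_subset_of_epi
    ((adjX 𝓘 0).unit.app G ≫ ((Scheme.Modules.pushforward (cX 𝓘 0)).mapIso e').inv)
  exact h1

theorem support_subset_union_of_exact {S : ShortComplex X.Modules} (hS : S.Exact) :
    CohB1.support S.X₂ ⊆ CohB1.support S.X₁ ∪ CohB1.support S.X₃ := by
  let T : ShortComplex X.Modules := ShortComplex.mk (kernel.ι S.g) (cokernel.π (kernel.ι S.g)) (cokernel.condition _)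
  have hT : T.ShortExact :=
    { exact := ShortComplex.exact_cokernel (kernel.ι S.g)
      mono_f := inferInstance
      epi_g := inferInstance }
  haveI : Epi (kernel.lift S.g S.f S.zero) := S.exact_iff_epi_kernel_lift.1 hS
  refine (CohDev.support_subset_union hT).trans (Set.union_subset_union ?_ ?_)
  · exact FormalFun.support_subset_of_epi (kernel.lift S.g S.f S.zero)
  · exact FormalFun.support_subset_of_mono (Abelian.factorThruCoimage S.g)

theorem support_lev0_subset_of_mono [IsLocallyNoetherian X] {K F : FSch.ModF (FSch.completionAlong X 𝓘) hX}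
    (ι : K ⟶ F) [Mono ι] (hK : FSch.IsCohF _ hX K) (hF : FSch.IsCohF _ hX F) {T : Set X} (hT : IsClosed T)
    (hs : CohB1.support ((lev0).obj F) ⊆ T) : CohB1.support ((lev0).obj K) ⊆ T := by
  intro x hx
  by_contra hn
  refine FormalExist.ProperSupp.not_mem_support (⟨Tᶜ, hT.isOpen_compl⟩ : X.Opens) (fun U hU y => ?_) x hn hx
  let p := FSch.completionToX X 𝓘
  have e : p 0 ⁻¹ᵁ U.1 = (FSch.completionAlong X 𝓘).lvU hX 0 (p 0 ⁻¹ᵁ U.1) :=
    FSch.lvU_p (FSch.completionAlong X 𝓘) hX p (FSch.completionToX_comm X 𝓘) 0 U.1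
  have tr : ∀ (M : ((FSch.completionAlong X 𝓘).X 0).Modules)
      {O O' : ((FSch.completionAlong X 𝓘).X 0).Opens}, O = O' → (∀ y : Γ(M, O), y = 0) → ∀ y : Γ(M, O'), y = 0 := by
    rintro M O O' rfl h
    exact h
  haveI := FormalExist.ProperSupp.subsingleton_sections (M := (lev0).obj F) (V := U.1)
    fun z hz hz' => hU hz (hs hz')
  exact tr _ e.symm (level_zero_of_mono (Adic.ComplAlong.isLocNoethFormal 𝓘) ι hK hF
    (U.2.preimage (p 0)) (tr _ e fun _ => Subsingleton.elim (α := Γ((lev0).obj F, U.1)) _ _)) y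

theorem support_lev0_subset_of_epi {F G : FSch.ModF (FSch.completionAlong X 𝓘) hX} (π : F ⟶ G) [Epi π] :
    CohB1.support ((lev0).obj G) ⊆ CohB1.support ((lev0).obj F) := by
  haveI hR : (lev0 (𝓘 := 𝓘) (hX := hX)).IsLeftAdjoint := isLeftAdjoint_lev0
  exact FormalFun.support_subset_of_epi ((lev0).map π)

/-- A coherent module whose smallest level has support in a closed set proper over the base is algebraizable. -/
theorem isAlg_of_support [IsNoetherianRing A] [IsAdicComplete J A] [IsSeparated f] [LocallyOfFiniteType f]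
    [QuasiCompact f] (h𝓘 : 𝓘 = (FSch.idealSpec A J).comap f) {F : FSch.ModF (FSch.completionAlong X 𝓘) hX}
    (hF : FSch.IsCohF _ hX F) {T : Set X} (hT : ClSub.IsProperOver f T)
    (hs : CohB1.support ((lev0).obj F) ⊆ T) : IsAlg f F := by
  letI : X.Over (Spec (CommRingCat.of A)) := ⟨f⟩
  haveI : IsSeparated (X ↘ Spec (CommRingCat.of A)) := ‹IsSeparated f›
  haveI : LocallyOfFiniteType (X ↘ Spec (CommRingCat.of A)) := ‹LocallyOfFiniteType f›
  haveI : QuasiCompact (X ↘ Spec (CommRingCat.of A)) := ‹QuasiCompact f›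
  haveI : IsLocallyNoetherian X := LocallyOfFiniteType.isLocallyNoetherian f
  obtain ⟨G, hG, hGs, ⟨e⟩⟩ := exists_algebraization (sysOf F)
    (h𝓘.trans (comap_idealSpec_eq J)) (isCoh_sysOf hF) hT hs
  haveI := isIso_toReal (Adic.ComplAlong.isLocNoethFormal 𝓘) hF
  exact ⟨G, hG, hGs, ⟨asIso (toReal F) ≪≫ realModIso e⟩⟩

theorem isCohF_of_isAlg [IsLocallyNoetherian X] {F : FSch.ModF (FSch.completionAlong X 𝓘) hX}
    (hF : IsAlg f F) : FSch.IsCohF _ hX F := by
  obtain ⟨G, hG, -, ⟨e⟩⟩ := hF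
  exact IndCoh.isFinitePresentation_of_iso e.symm
    (isCohF_realMod (Adic.ComplAlong.isLocNoethFormal 𝓘) (isCoh_complMod hG))

/-- An extension of properly supported algebraizable modules is algebraizable. -/
theorem isAlg_of_exact [IsNoetherianRing A] [IsAdicComplete J A] [IsSeparated f] [LocallyOfFiniteType f]
    [QuasiCompact f] (h𝓘 : 𝓘 = (FSch.idealSpec A J).comap f)
    (S : ShortComplex (FSch.ModF (FSch.completionAlong X 𝓘) hX)) (hS : S.Exact) [Epi S.g]
    (h2 : FSch.IsCohF _ hX S.X₂) (h1 : IsAlg f S.X₁) (h3 : IsAlg f S.X₃) : IsAlg f S.X₂ := by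
  haveI : IsLocallyNoetherian X := LocallyOfFiniteType.isLocallyNoetherian f
  obtain ⟨G₁, hG₁, hp₁, ⟨e₁⟩⟩ := h1
  obtain ⟨G₃, hG₃, hp₃, ⟨e₃⟩⟩ := h3
  refine isAlg_of_support f h𝓘 h2 (EtShriekLib.ipo_union f hp₁ hp₃) ?_
  haveI hR : (lev0 (𝓘 := 𝓘) (hX := hX)).IsLeftAdjoint := isLeftAdjoint_lev0
  haveI hA := (FSch.levelMor (FSch.completionAlong X 𝓘) hX 0).adj.left_adjoint_additive
  haveI : (lev0 (𝓘 := 𝓘) (hX := hX)).Additive :=
    ⟨fun {_ _ φ ψ} => (congrArg (Scheme.Modules.pushforward (cX 𝓘 0)).map hA.map_add).trans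
      (Scheme.Modules.pushforward (cX 𝓘 0)).map_add⟩
  have hy : (S.map (lev0 (𝓘 := 𝓘) (hX := hX))).Exact :=
    hS.map_of_epi_of_preservesCokernel _ inferInstance inferInstance
  exact (support_subset_union_of_exact hy).trans
    (Set.union_subset_union (support_lev0_subset hG₁ e₁) (support_lev0_subset hG₃ e₃))

end Groth.Agent.FFormal.Algebraize

namespace Groth.Agent.FFormal.Algebraize

open Groth.Agent

variable {A : Type u} [CommRing A] [IsNoetherianRing A] {X : Scheme.{u}} {J : Ideal A} [IsAdicComplete J A]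
  (f : X ⟶ Spec (CommRingCat.of A)) [IsSeparated f] [LocallyOfFiniteType f] [QuasiCompact f]
  {𝓘 : X.IdealSheafData} {hX : (FSch.completionAlong X 𝓘).IsFormal}

/-- Kernels, images and cokernels of maps of algebraizable modules are algebraizable. -/
theorem isAlg_kernel_image_cokernel (h𝓘 : 𝓘 = (FSch.idealSpec A J).comap f)
    {F G : FSch.ModF (FSch.completionAlong X 𝓘) hX} (hF : IsAlg f F) (hG : IsAlg f G) (u : F ⟶ G) :
    IsAlg f (kernel u) ∧ IsAlg f (Abelian.image u) ∧ IsAlg f (cokernel u) := by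
  haveI : IsLocallyNoetherian X := LocallyOfFiniteType.isLocallyNoetherian f
  have hN := Adic.ComplAlong.isLocNoethFormal 𝓘
  have cF := isCohF_of_isAlg f hF
  have cG := isCohF_of_isAlg f hG
  haveI : SheafOfModules.IsFinitePresentation (R := ModSite.ringSh ((FSch.completionAlong X 𝓘).Osh hX)) G := cG
  haveI : SheafOfModules.IsFinitePresentation (R := ModSite.ringSh ((FSch.completionAlong X 𝓘).Osh hX)) F := cF
  haveI : SheafOfModules.IsFiniteType (R := ModSite.ringSh ((FSch.completionAlong X 𝓘).Osh hX)) F := inferInstance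
  have cC : FSch.IsCohF _ hX (cokernel u) := LocPres.isFinitePresentation_cokernel u
  have cI : FSch.IsCohF _ hX (Abelian.image u) := isCohF_kernel hN _ cG cC
  obtain ⟨F₀, hF₀, hpF, ⟨eF⟩⟩ := hF
  obtain ⟨G₀, hG₀, hpG, ⟨eG⟩⟩ := hG
  refine ⟨isAlg_of_support f h𝓘 (isCohF_kernel hN u cF cG) hpF ?_,
    isAlg_of_support f h𝓘 cI hpF ((support_lev0_subset_of_epi (Abelian.factorThruImage u)).trans
      (support_lev0_subset hF₀ eF)),
    isAlg_of_support f h𝓘 cC hpG ((support_lev0_subset_of_epi (cokernel.π u)).trans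
      (support_lev0_subset hG₀ eG))⟩
  exact support_lev0_subset_of_mono (kernel.ι u) (isCohF_kernel hN u cF cG) cF hpF.1
    (support_lev0_subset hF₀ eF)

/-- A coherent module with algebraizable kernel and cokernel in an algebraizable one is algebraizable. -/
theorem isAlg_of_kernel_cokernel (h𝓘 : 𝓘 = (FSch.idealSpec A J).comap f)
    {F G : FSch.ModF (FSch.completionAlong X 𝓘) hX} (cF : FSch.IsCohF _ hX F) (u : F ⟶ G)
    (hG : IsAlg f G) (hk : IsAlg f (kernel u)) (hc : IsAlg f (cokernel u)) : IsAlg f F := by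
  have hI : IsAlg f (Abelian.image u) :=
    (isAlg_kernel_image_cokernel f h𝓘 hG hc (cokernel.π u)).1
  let S : ShortComplex (FSch.ModF (FSch.completionAlong X 𝓘) hX) :=
    ShortComplex.mk (kernel.ι u) (Abelian.factorThruImage u) (by
      rw [← cancel_mono (Abelian.image.ι u), Category.assoc, Abelian.image.fac, kernel.condition, zero_comp])
  have hS : S.Exact := by
    refine S.exact_of_f_is_kernel (KernelFork.IsLimit.ofι' _ _ fun {W} g hg => ⟨kernel.lift u g ?_, kernel.lift_ι _ _ _⟩)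
    rw [← Abelian.image.fac u, ← Category.assoc]
    exact (congrArg (· ≫ _) hg).trans zero_comp
  exact isAlg_of_exact f h𝓘 S hS cF hk hI

end Groth.Agent.FFormal.Algebraize
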