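import Groth.Agent.FFormal.Coh
import Groth.Agent.LocPres.GPres
import Mathlib.Topology.Sheaves.SheafCondition.UniqueGluing
import Mathlib.Algebra.Category.Ring.Instances

/-!
# Quasi-coherent modules of finite type on a locally Noetherian formal scheme are coherent
-/

set_option autoImplicit false
set_option linter.style.haveILetI false
set_option linter.dupNamespace false

universe u

open CategoryTheory CategoryTheory.Limits AlgebraicGeometry Opposite TopologicalSpace ModSite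

namespace Groth.Agent.FFormal

open Groth.Agent.ModFlat (rs map_val_smul map_val_comp map_ring_comp)
open Groth.Agent.PullFlat (appS appS_res appS_comp rs_id appS_injective exists_cover_bind eq_of_locally
  eq_zero_of_locally exists_local_lift)
open Groth.Agent.LocPres

variable {𝔛 : FSch.Sys.{u}} {h : 𝔛.IsFormal}

/-- Restriction of a section of the structure sheaf along a morphism of opens. -/
theorem map_op_eq_rsR {V U : (𝔛.X 0).Opens} (g : V ⟶ U) (r : Rg h U) :
    ((𝔛.Osh h).obj.map g.op).hom r = rsR h g.le r := rfl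

theorem rsR_self {U : (𝔛.X 0).Opens} (hU : U ≤ U) (r : Rg h U) : rsR h hU r = r := by
  rw [rsR, Subsingleton.elim (homOfLE hU).op (𝟙 (op U)), CategoryTheory.Functor.map_id]
  rfl

/-- Sections of the structure sheaf vanishing locally vanish. -/
theorem Rg_eq_zero_of_locally {U : (𝔛.X 0).Opens} {S : Sieve U}
    (hS : S ∈ Opens.grothendieckTopology (𝔛.X 0) U) (r : Rg h U)
    (hr : ∀ ⦃V : (𝔛.X 0).Opens⦄ (g : V ⟶ U), S g → rsR h g.le r = 0) : r = 0 :=
  eq_zero_of_locally (FSch.unitF 𝔛 h) hS r hr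

/-- Coefficients with respect to a frame are unique. -/
theorem coeff_eq_of_combS_eq {I : Type u} {G : FSch.ModF 𝔛 h} {W : (𝔛.X 0).Opens} {t : I → sect G W}
    (hti : IsIndep t) {T : (𝔛.X 0).Opens} (a : T ⟶ W) {c c' : I →₀ Rg h T}
    (hc : combS t a c = combS t a c') : c = c' := by
  obtain ⟨S, hS, hS'⟩ := hti a (c - c') (by rw [map_sub, hc, sub_self])
  refine Finsupp.ext fun i => sub_eq_zero.1 (Rg_eq_zero_of_locally hS _ fun V g hg => ?_)
  exact hS' g hg i

/-- On a quasi-compact open every section is a finite combination of a frame. -/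
theorem exists_combS_eq {I : Type u} {G : FSch.ModF 𝔛 h} {W : (𝔛.X 0).Opens} (hW : IsCompact (W : Set (𝔛.X 0)))
    {t : I → sect G W} (htg : IsGen t) (hti : IsIndep t) (z : sect G W) :
    ∃ a : I →₀ Rg h W, combS t (𝟙 W) a = z := by
  classical
  obtain ⟨S, hS, hS'⟩ := htg (𝟙 W) z
  have hx : ∀ x : W, ∃ (V : (𝔛.X 0).Opens) (g : V ⟶ W), S g ∧ x.1 ∈ V := fun x => hS x.1 x.2
  choose V g hg hxV using hx
  obtain ⟨F, hF⟩ := hW.elim_finite_subcover (fun x : W => (V x : Set (𝔛.X 0))) (fun x => (V x).isOpen)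
    (fun y hy => Set.mem_iUnion.2 ⟨⟨y, hy⟩, hxV ⟨y, hy⟩⟩)
  let ι := {x : W // x ∈ F}
  choose c hc using fun x : ι => hS' (g x.1) (hg x.1)
  simp only [Category.comp_id] at hc
  let I₀ : Finset I := Finset.univ.biUnion fun x : ι => (c x).support
  have hcompat : ∀ (i : I) (x y : ι),
      rsR h (inf_le_left : V x.1 ⊓ V y.1 ≤ V x.1) (c x i) = rsR h inf_le_right (c y i) := by
    intro i x y
    let gx : V x.1 ⊓ V y.1 ⟶ V x.1 := homOfLE inf_le_left
    let gy : V x.1 ⊓ V y.1 ⟶ V y.1 := homOfLE inf_le_right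
    have h1 := combS_res t gx (g x.1) (c x)
    rw [hc x, ← map_val_comp] at h1
    have h2 := combS_res t gy (g y.1) (c y)
    rw [hc y, ← map_val_comp, Subsingleton.elim (gy ≫ g y.1) (gx ≫ g x.1)] at h2
    exact DFunLike.congr_fun (coeff_eq_of_combS_eq hti (gx ≫ g x.1) (h1.symm.trans h2)) i
  have hcov : W ≤ iSup fun x : ι => V x.1 := fun y hy => by
    obtain ⟨x, hxF, hyx⟩ : ∃ x, x ∈ F ∧ y ∈ V x := by simpa using hF hy
    exact Opens.mem_iSup.2 ⟨⟨x, hxF⟩, hyx⟩
  have hglue : ∀ i, ∃ a : Rg h W, ∀ x : ι, rsR h (g x.1).le a = c x i := fun i => by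
    obtain ⟨a, ha, -⟩ := TopCat.Sheaf.existsUnique_gluing' (C := CommRingCat.{u}) (FC := fun R S => R →+* S)
      (CC := fun R => (R : Type u)) (F := (𝔛.Osh h : TopCat.Sheaf CommRingCat.{u} (𝔛.X 0))) (fun x : ι => V x.1) W
      (fun x => g x.1) hcov (fun x => c x i) (fun x y => hcompat i x y)
    exact ⟨a, ha⟩
  choose a ha using hglue
  let A : I →₀ Rg h W := Finsupp.onFinset I₀ (fun i => if i ∈ I₀ then a i else 0) fun i hi => by
    by_contra hni
    exact hi (if_neg hni)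
  refine ⟨A, ?_⟩
  let S₀ : Sieve W :=
    { arrows := fun V' _ => ∃ x : ι, V' ≤ V x.1
      downward_closed := fun {Y Z} {f} ⟨x, hx⟩ k => ⟨x, k.le.trans hx⟩ }
  have hS₀ : S₀ ∈ Opens.grothendieckTopology (𝔛.X 0) W := fun y hy => by
    obtain ⟨x, hyx⟩ := Opens.mem_iSup.1 (hcov hy)
    exact ⟨V x.1, g x.1, ⟨x, le_rfl⟩, hyx⟩
  refine eq_of_locally G hS₀ _ _ fun V' k ⟨x, hV'⟩ => ?_
  rw [show k = homOfLE hV' ≫ g x.1 from Subsingleton.elim _ _, map_val_comp, map_val_comp, ← hc x]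
  refine congrArg (rs G (homOfLE hV')) ?_
  rw [combS_res, Category.comp_id]
  refine congrArg _ (Finsupp.ext fun i => ?_)
  rw [Finsupp.mapRange_apply, Finsupp.onFinset_apply, map_op_eq_rsR]
  split_ifs with hi
  · exact ha i x
  · rw [map_zero, eq_comm, ← Finsupp.notMem_support_iff]
    exact fun hs => hi (Finset.mem_biUnion.2 ⟨x, Finset.mem_univ _, hs⟩)

theorem combS_sum {I : Type u} {F : FSch.ModF 𝔛 h} {W : (𝔛.X 0).Opens} (s : I → sect F W) {T : (𝔛.X 0).Opens}
    (a : T ⟶ W) {n : ℕ} (c : Fin n → Rg h T) (v : Fin n → I →₀ Rg h T) :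
    combS s a (∑ j, c j • v j) = ∑ j, c j • combS s a (v j) := by
  simp [map_sum, map_smul]

/-- Finite generators with coordinates in a presentation give a finite presentation. -/
theorem nonempty_locPres_of_gPres (hN : 𝔛.IsLocNoethFormal) {F : FSch.ModF 𝔛 h} {W : (𝔛.X 0).Opens}
    (hW : IsAffineOpen W) (L : LocGen F W) (P : GPres F W) (a : Fin L.n → P.I →₀ Rg h W)
    (ha : ∀ j, combS P.s (𝟙 W) (a j) = L.s j) : Nonempty (LocPres F W) := by
  classical
  haveI := isNoetherianRing h hN hW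
  let K : Submodule (Rg h W) (Fin L.n → Rg h W) :=
    LinearMap.ker (Fintype.linearCombination (Rg h W) (fun j => (show sect F W from L.s j)))
  obtain ⟨q, e, he⟩ := Submodule.fg_iff_exists_fin_generating_family.1 (IsNoetherian.noetherian K)
  have hK : ∀ c : Fin L.n → Rg h W, c ∈ K ↔ ∑ j, c j • L.s j = 0 := fun c => by
    rw [LinearMap.mem_ker, Fintype.linearCombination_apply]
  choose r hr using fun k => exists_combS_eq hW.isCompact P.tgen P.tindep (P.z k)
  have hrs : ∀ k, combS P.s (𝟙 W) (r k) = 0 := fun k => P.vanish (𝟙 W) (r k) k ((hr k).trans (rs_id P.G W (P.z k)).symm)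
  refine ⟨{ n := L.n, m := q, s := L.s, r := e,
            rel := fun l => (hK _).1 (he ▸ Submodule.subset_span ⟨l, rfl⟩),
            gen := L.gen, relgen := fun {T} t c hc => ?_ }⟩
  let aT : Fin L.n → P.I →₀ Rg h T := fun j =>
    (a j).mapRange ((𝔛.Osh h).obj.map t.op).hom (map_zero _)
  have hct : combS P.s t (∑ j, c j • aT j) = 0 := by
    rw [combS_sum, ← hc]
    refine Finset.sum_congr rfl fun j _ => congrArg (c j • ·) ?_
    rw [← ha j, combS_res, Category.comp_id]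
  obtain ⟨S₁, hS₁, hS₁'⟩ := P.gen t _ hct
  refine exists_cover_bind (fun V g => ∃ b : Fin q → Rg h V,
    ∀ i, rsR h g.le (c i) = ∑ l, b l * rsR h (g ≫ t).le (e l i)) hS₁ fun V g hg => ?_
  obtain ⟨d, hd⟩ := hS₁' g hg
  let rV : P.K → P.I →₀ Rg h V := fun k => (r k).mapRange ((𝔛.Osh h).obj.map (g ≫ t).op).hom (map_zero _)
  have hz : combS P.z (g ≫ t) d = combS P.t (g ≫ t) (d.sum fun k b => b • rV k) := by
    rw [combS, Finsupp.linearCombination_apply, map_finsuppSum]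
    refine Finsupp.sum_congr fun k _ => ?_
    rw [map_smul]
    refine congrArg (d k • ·) ?_
    rw [← hr k, combS_res, Category.comp_id]
  rw [hz, combS_res] at hd
  have hcoef := coeff_eq_of_combS_eq P.tindep (g ≫ t) hd
  let I₀ : Finset P.I := (Finset.univ.biUnion fun j => (a j).support) ∪ (d.support.biUnion fun k => (r k).support)
  let ei := I₀.equivFin
  let ek := d.support.equivFin
  obtain ⟨q', e', he', hsol⟩ := exists_system_gens hN hW
    (fun j i => a j (ei.symm i).1) (fun k i => r (ek.symm k).1 (ei.symm i).1)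
  have he'K : ∀ l, e' l ∈ K := fun l => by
    obtain ⟨b0, hb0⟩ := he' l
    rw [hK]
    have h1 : (∑ j, e' l j • a j) = ∑ k, b0 k • r (ek.symm k).1 := Finsupp.ext fun i => by
      simp only [Finsupp.finsetSum_apply, Finsupp.smul_apply, smul_eq_mul]
      by_cases hi : i ∈ I₀
      · have := hb0 (ei ⟨i, hi⟩)
        simpa using this
      · rw [Finset.sum_eq_zero, Finset.sum_eq_zero]
        · intro k _
          rw [Finsupp.notMem_support_iff.1 fun hs => hi (Finset.mem_union_right _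
            (Finset.mem_biUnion.2 ⟨_, (ek.symm k).2, hs⟩)), mul_zero]
        · intro j _
          rw [Finsupp.notMem_support_iff.1 fun hs => hi (Finset.mem_union_left _
            (Finset.mem_biUnion.2 ⟨j, Finset.mem_univ _, hs⟩)), mul_zero]
    have h2 := congrArg (combS P.s (𝟙 W)) h1
    rw [combS_sum, combS_sum] at h2
    simp only [ha, hrs, smul_zero, Finset.sum_const_zero] at h2
    exact h2
  obtain ⟨S₂, hS₂, hS₂'⟩ := hsol (g ≫ t).le (fun j => rsR h g.le (c j)) (fun k => d (ek.symm k).1) fun i => by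
    have h1 := DFunLike.congr_fun hcoef (ei.symm i).1
    rw [Finsupp.mapRange_apply, Finsupp.sum_apply, Finsupp.finsetSum_apply] at h1
    simp only [aT, rV, Finsupp.smul_apply, Finsupp.mapRange_apply, smul_eq_mul, map_sum, map_mul, Finsupp.sum,
      map_op_eq_rsR, rsR_rsR] at h1
    refine h1.symm.trans ?_
    exact (Finset.sum_coe_sort d.support _).symm.trans (Fintype.sum_equiv ek _ _ fun k => by simp)
  refine ⟨S₂, hS₂, fun V₂ g₂ hg₂ => ?_⟩
  obtain ⟨d₂, hd₂⟩ := hS₂' g₂ hg₂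
  have hmem : ∀ l, ∃ u : Fin q → Rg h W, ∑ m, u m • e m = e' l := fun l =>
    Submodule.mem_span_range_iff_exists_fun _ |>.1 (he.symm ▸ he'K l)
  choose u hu using hmem
  refine ⟨fun m => ∑ l, d₂ l * rsR h ((g₂ ≫ g ≫ t).le) (u l m), fun i => ?_⟩
  have h3 := hd₂ i
  simp only [rsR_rsR] at h3
  refine h3.trans ?_
  simp only [← hu, Finset.sum_apply, Pi.smul_apply, smul_eq_mul, map_sum, map_mul, Finset.mul_sum, Finset.sum_mul,
    mul_assoc]
  exact Finset.sum_comm

theorem isCohF_of_qcoh_of_ft (hN : 𝔛.IsLocNoethFormal) (F : FSch.ModF 𝔛 h)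
    [SheafOfModules.IsQuasicoherent (R := ModSite.ringSh (𝔛.Osh h)) F]
    [SheafOfModules.IsFiniteType (R := ModSite.ringSh (𝔛.Osh h)) F] : FSch.IsCohF 𝔛 h F := by
  refine isFinitePresentation_of_cover fun U => ?_
  obtain ⟨S, hS, hS'⟩ := exists_cover_locGen F U
  refine exists_cover_bind (fun V _ => Nonempty (LocPres F V)) hS fun V g hg => ?_
  obtain ⟨L⟩ := hS' g hg
  obtain ⟨T, hT, hT'⟩ := exists_cover_gPres F V
  refine exists_cover_bind (fun V' _ => Nonempty (LocPres F V')) hT fun V₂ g₂ hg₂ => ?_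
  obtain ⟨P⟩ := hT' g₂ hg₂
  obtain ⟨S₃, hS₃, hS₃'⟩ := exists_cover_forall
    (fun j {V₃} (g₃ : V₃ ⟶ V₂) => ∃ c : P.I →₀ Rg h V₃, combS P.s g₃ c = rs F g₃ ((L.restrict g₂).s j)) fun j => by
      obtain ⟨S₄, hS₄, hS₄'⟩ := P.sgen (𝟙 V₂) ((L.restrict g₂).s j)
      refine ⟨S₄, hS₄, fun V₄ g₄ hg₄ => ?_⟩
      obtain ⟨c, hc⟩ := hS₄' g₄ hg₄
      rw [Category.comp_id] at hc
      exact ⟨c, hc⟩
  refine exists_cover_bind (fun V' _ => Nonempty (LocPres F V')) hS₃ fun V₃ g₃ hg₃ => ?_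
  choose a ha using hS₃' g₃ hg₃
  obtain ⟨S₅, hS₅, hS₅'⟩ := exists_cover_affine (𝔛 := 𝔛) V₃
  refine ⟨S₅, hS₅, fun V₅ g₅ hg₅ => ?_⟩
  obtain ⟨W, hV₅W, hWV, hW⟩ := hS₅' g₅ hg₅
  obtain ⟨Q⟩ := nonempty_locPres_of_gPres hN hW (((L.restrict g₂).restrict g₃).restrict (homOfLE hWV))
    ((P.restrict g₃).restrict (homOfLE hWV))
    (fun j => (a j).mapRange ((𝔛.Osh h).obj.map (homOfLE hWV).op).hom (map_zero _)) fun j => by
      refine Eq.trans ?_ (congrArg (rs F (homOfLE hWV)) (ha j))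
      rw [combS_res]
      show combS (fun i => rs F (homOfLE hWV) (rs F g₃ (P.s i))) (𝟙 W) _ = _
      rw [combS_rs, combS_rs, Category.id_comp]
      rfl
  exact ⟨Q.restrict (homOfLE hV₅W)⟩

/-- A quotient of a module of finite type is of finite type. -/
theorem isFiniteType_of_epi {F G : FSch.ModF 𝔛 h} (π : F ⟶ G) [Epi π]
    [SheafOfModules.IsFiniteType (R := ModSite.ringSh (𝔛.Osh h)) F] :
    SheafOfModules.IsFiniteType (R := ModSite.ringSh (𝔛.Osh h)) G := by
  refine isFiniteType_of_cover fun U => ?_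
  obtain ⟨S, hS, hS'⟩ := exists_cover_locGen F U
  refine ⟨S, hS, fun V g hg => ?_⟩
  obtain ⟨L⟩ := hS' g hg
  refine ⟨{ n := L.n, s := fun i => appS π V (L.s i), gen := fun {T} t x => ?_ }⟩
  obtain ⟨S₁, hS₁, hS₁'⟩ := exists_local_lift π x
  refine exists_cover_bind (fun V' g' => ∃ c : Fin L.n → Rg h V',
    ∑ i, c i • rs G (g' ≫ t) (appS π V (L.s i)) = rs G g' x) hS₁ fun V₁ g₁ hg₁ => ?_
  obtain ⟨y, hy⟩ := hS₁' g₁ hg₁
  obtain ⟨S₂, hS₂, hS₂'⟩ := L.gen (g₁ ≫ t) y
  refine ⟨S₂, hS₂, fun V₂ g₂ hg₂ => ?_⟩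
  obtain ⟨c, hc⟩ := hS₂' g₂ hg₂
  refine ⟨c, ?_⟩
  rw [map_val_comp g₂ g₁, ← hy, ← appS_res π g₂, ← hc, appS_sum_smul]
  simp only [appS_res, Category.assoc]

end Groth.Agent.FFormal
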