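import Groth.Agent.FFormal.Hom
import Groth.Agent.FFormal.FT
import Mathlib.RingTheory.Filtration

/-!
# Submodules of coherent modules
-/

set_option autoImplicit false
set_option linter.style.haveILetI false
set_option linter.dupNamespace false

universe u

open CategoryTheory CategoryTheory.Limits AlgebraicGeometry Opposite TopologicalSpace ModSite

namespace Groth.Agent.FFormal

open Groth.Agent.ModFlat (rs map_val_smul map_val_comp map_ring_comp)
open Groth.Agent.PullFlat (appS appS_res appS_comp appS_injective exists_cover_bind eq_of_locally eq_zero_of_locally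
  mono_of_appS_injective)
open Groth.Agent.LocPres

variable {𝔛 : FSch.Sys.{u}} {h : 𝔛.IsFormal}

/-- A presentation of a submodule of a presented module from generators on an affine open. -/
theorem nonempty_locPres_of_mono (hN : 𝔛.IsLocNoethFormal) {F G : FSch.ModF 𝔛 h} (ι : G ⟶ F) [Mono ι]
    {W : (𝔛.X 0).Opens} (hW : IsAffineOpen W) (L : LocGen G W) (P : LocPres F W)
    (a : Fin L.n → Fin P.n → Rg h W) (ha : ∀ j, appS ι W (L.s j) = ∑ i, a j i • P.s i) :
    Nonempty (LocPres G W) := by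
  obtain ⟨q, e, he, hsol⟩ := exists_system_gens hN hW a P.r
  have hrel : ∀ l, ∑ j, e l j • L.s j = 0 := fun l => by
    apply appS_injective ι W
    obtain ⟨b0, hb0⟩ := he l
    rw [appS_sum_smul, map_zero]
    simp only [ha, Finset.smul_sum, smul_smul]
    rw [Finset.sum_comm]
    simp only [← Finset.sum_smul, hb0]
    simp only [Finset.sum_smul, ← smul_smul]
    rw [Finset.sum_comm]
    simp only [← Finset.smul_sum, P.rel, smul_zero, Finset.sum_const_zero]
  refine ⟨{ n := L.n, m := q, s := L.s, r := e, rel := hrel, gen := L.gen, relgen := fun {T} t c hc => ?_ }⟩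
  have h0 : ∑ i, (∑ j, c j * rsR h t.le (a j i)) • rs F t (P.s i) = 0 := by
    have h1 := congrArg (appS ι T) hc
    rw [appS_sum_smul, map_zero] at h1
    simp only [appS_res, ha, rs_sum_smul] at h1
    rw [← h1]
    simp only [Finset.smul_sum, smul_smul, Finset.sum_smul]
    rw [Finset.sum_comm]
    rfl
  obtain ⟨S, hS, hS'⟩ := P.relgen t _ h0
  refine exists_cover_bind (fun V g => ∃ b : Fin q → Rg h V,
    ∀ i, rsR h g.le (c i) = ∑ l, b l * rsR h (g ≫ t).le (e l i)) hS fun V g hg => ?_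
  obtain ⟨b, hb⟩ := hS' g hg
  obtain ⟨S₂, hS₂, hS₂'⟩ := hsol (g ≫ t).le (fun j => rsR h g.le (c j)) b fun i => by
    have := hb i
    rw [map_sum] at this
    simp only [map_mul] at this
    refine Eq.trans ?_ this
    refine Finset.sum_congr rfl fun j _ => congrArg (_ * ·) ?_
    exact map_ring_comp (O := 𝔛.Osh h) g t (a j i)
  refine ⟨S₂, hS₂, fun V₂ g₂ hg₂ => ?_⟩
  obtain ⟨d, hd⟩ := hS₂' g₂ hg₂
  refine ⟨d, fun i => ?_⟩
  have h3 := hd i
  rw [rsR_rsR] at h3
  exact h3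

/-- A submodule of finite type of a coherent module is coherent. -/
theorem isCohF_of_mono (hN : 𝔛.IsLocNoethFormal) {F G : FSch.ModF 𝔛 h} (ι : G ⟶ F) [Mono ι]
    [SheafOfModules.IsFiniteType (R := ModSite.ringSh (𝔛.Osh h)) G]
    (hF : FSch.IsCohF 𝔛 h F) : FSch.IsCohF 𝔛 h G := by
  haveI : SheafOfModules.IsFinitePresentation (R := ModSite.ringSh (𝔛.Osh h)) F := hF
  refine isFinitePresentation_of_cover fun U => ?_
  obtain ⟨S, hS, hS'⟩ := exists_cover_locGen G U
  refine exists_cover_bind (fun V _ => Nonempty (LocPres G V)) hS fun V g hg => ?_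
  obtain ⟨L⟩ := hS' g hg
  obtain ⟨T, hT, hT'⟩ := exists_cover_locPres F V
  refine exists_cover_bind (fun V' _ => Nonempty (LocPres G V')) hT fun V₂ g₂ hg₂ => ?_
  obtain ⟨P⟩ := hT' g₂ hg₂
  obtain ⟨S₃, hS₃, hS₃'⟩ := P.toGen.exists_coords fun j => appS ι V₂ ((L.restrict g₂).s j)
  refine exists_cover_bind (fun V' _ => Nonempty (LocPres G V')) hS₃ fun V₃ g₃ hg₃ => ?_
  choose a ha using hS₃' g₃ hg₃
  obtain ⟨S₅, hS₅, hS₅'⟩ := exists_cover_affine (𝔛 := 𝔛) V₃
  refine ⟨S₅, hS₅, fun V₅ g₅ hg₅ => ?_⟩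
  obtain ⟨W, hV₅W, hWV, hW⟩ := hS₅' g₅ hg₅
  obtain ⟨Q⟩ := nonempty_locPres_of_mono hN ι hW (((L.restrict g₂).restrict g₃).restrict (homOfLE hWV))
    ((P.restrict g₃).restrict (homOfLE hWV)) (fun j i => rsR h hWV (a j i)) fun j => by
      show appS ι W (rs G (homOfLE hWV) (rs G g₃ ((L.restrict g₂).s j))) = _
      rw [appS_res, appS_res, ← ha j, rs_sum_smul]
      rfl
  exact ⟨Q.restrict (homOfLE hV₅W)⟩

theorem isCohF_kernel (hN : 𝔛.IsLocNoethFormal) {F G : FSch.ModF 𝔛 h} (θ : F ⟶ G)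
    (hF : FSch.IsCohF 𝔛 h F) (hG : FSch.IsCohF 𝔛 h G) : FSch.IsCohF 𝔛 h (kernel θ) := by
  haveI : SheafOfModules.IsFinitePresentation (R := ModSite.ringSh (𝔛.Osh h)) F := hF
  haveI : SheafOfModules.IsFinitePresentation (R := ModSite.ringSh (𝔛.Osh h)) G := hG
  haveI := isFiniteType_kernel hN θ
  exact isCohF_of_mono hN (kernel.ι θ) hF

/-- The sections of a coherent module over an affine open are finite, complete and generate. -/
theorem sect_spec (hN : 𝔛.IsLocNoethFormal) {F : FSch.ModF 𝔛 h} (hF : FSch.IsCohF 𝔛 h F) {W : (𝔛.X 0).Opens}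
    (hW : IsAffineOpen W) :
    Module.Finite (Rg h W) (sect F W) ∧
    (∀ k x, appS ((FSch.levelMor 𝔛 h k).adj.unit.app F) W x = 0 ↔
      x ∈ (I h W ^ (k + 1) • ⊤ : Submodule (Rg h W) (sect F W))) ∧
    ((∀ x : sect F W, x = 0) → ∀ {V : (𝔛.X 0).Opens}, V ≤ W → ∀ x : sect F V, x = 0) := by
  haveI := isIso_toReal hN hF
  obtain ⟨-, hfin, hker, -⟩ := sections_spec (h := h) (𝔐 := sysOf F) hN (isCoh_sysOf hF) hW
  let e : sect F W ≃ₗ[Rg h W] sect ((sysOf F).realMod h) W :=
    LinearEquiv.ofBijective (appS (toReal F) W)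
      ⟨appS_injective _ W, fun y => ⟨appS (inv (toReal F)) W y, by
        rw [← appS_comp, IsIso.inv_hom_id]; rfl⟩⟩
  haveI := hfin
  refine ⟨Module.Finite.equiv e.symm, fun k x => ?_, fun h0 V hVW x => ?_⟩
  · have hp : prj h (sysOf F) k W (e x) = appS ((FSch.levelMor 𝔛 h k).adj.unit.app F) W x :=
      prj_toReal F k W x
    refine Iff.trans ⟨fun hx => ?_, fun hx => ?_⟩ ((hker k (e x)).trans ⟨fun hx => ?_, fun hx => ?_⟩)
    · exact hp.trans hx
    · exact hp.symm.trans hx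
    · have := Submodule.mem_map_of_mem (f := e.symm.toLinearMap) hx
      rw [Submodule.map_smul'', Submodule.map_top, LinearEquiv.range] at this
      simpa using this
    · have := Submodule.mem_map_of_mem (f := e.toLinearMap) hx
      rw [Submodule.map_smul'', Submodule.map_top, LinearEquiv.range] at this
      exact this
  · obtain ⟨P, -⟩ := exists_locPres_real (h := h) hN (isCoh_sysOf hF) hW
    refine appS_injective (toReal F) V (Eq.trans ?_ (map_zero _).symm)
    obtain ⟨S, hS, hS'⟩ := P.gen (homOfLE hVW) (appS (toReal F) V x)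
    refine eq_zero_of_locally _ hS _ fun V' g hg => ?_
    obtain ⟨c, hc⟩ := hS' g hg
    rw [← hc]
    refine Finset.sum_eq_zero fun i _ => ?_
    rw [show P.s i = 0 from (e.apply_symm_apply (P.s i)).symm.trans ((congrArg e (h0 _)).trans (map_zero e)),
      map_zero, smul_zero]

/-- A quasi-coherent submodule of a coherent module is coherent. -/
theorem isCohF_of_mono_of_qcoh (hN : 𝔛.IsLocNoethFormal) {F G : FSch.ModF 𝔛 h} (ι : G ⟶ F) [Mono ι]
    [SheafOfModules.IsQuasicoherent (R := ModSite.ringSh (𝔛.Osh h)) G]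
    (hF : FSch.IsCohF 𝔛 h F) : FSch.IsCohF 𝔛 h G := by
  haveI : SheafOfModules.IsFiniteType (R := ModSite.ringSh (𝔛.Osh h)) G := by
    refine isFiniteType_of_cover fun U => ?_
    obtain ⟨S, hS, hS'⟩ := exists_cover_gPres G U
    refine exists_cover_bind (fun V _ => Nonempty (LocGen G V)) hS fun V g hg => ?_
    obtain ⟨P⟩ := hS' g hg
    obtain ⟨S₂, hS₂, hS₂'⟩ := exists_cover_affine (𝔛 := 𝔛) V
    refine ⟨S₂, hS₂, fun V₂ g₂ hg₂ => ?_⟩
    obtain ⟨W, hV₂W, hWV, hW⟩ := hS₂' g₂ hg₂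
    haveI := (sect_spec hN hF hW).1
    haveI := isNoetherianRing h hN hW
    haveI : IsNoetherian (Rg h W) (sect G W) :=
      isNoetherian_of_injective (appS ι W) (appS_injective ι W)
    let Q := P.restrict (homOfLE hWV)
    obtain ⟨q, e, he⟩ := Submodule.fg_iff_exists_fin_generating_family.1
      (IsNoetherian.noetherian (Submodule.span (Rg h W) (Set.range Q.s)))
    refine ⟨LocGen.restrict ({ n := q, s := e, gen := fun {T} t x => ?_ } : LocGen G W) (homOfLE hV₂W)⟩
    obtain ⟨S₃, hS₃, hS₃'⟩ := Q.sgen t x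
    refine ⟨S₃, hS₃, fun V₃ g₃ hg₃ => ?_⟩
    obtain ⟨c, hc⟩ := hS₃' g₃ hg₃
    have hmem : ∀ j, ∃ d : Fin q → Rg h W, ∑ l, d l • e l = Q.s j := fun j =>
      Submodule.mem_span_range_iff_exists_fun _ |>.1 (he.symm ▸ Submodule.subset_span ⟨j, rfl⟩)
    choose d hd using hmem
    refine ⟨fun l => c.sum fun j b => b * rsR h (g₃ ≫ t).le (d j l), ?_⟩
    rw [← hc, combS, Finsupp.linearCombination_apply]
    simp only [Finsupp.sum, Finset.sum_smul, ← smul_smul]
    rw [Finset.sum_comm]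
    refine Finset.sum_congr rfl fun j _ => ?_
    rw [← Finset.smul_sum, ← hd j, rs_sum_smul]
    rfl
  exact isCohF_of_qcoh_of_ft hN G

theorem pull_map_eq_zero_of_comp_unit {F G : FSch.ModF 𝔛 h} (n : ℕ) (ψ : F ⟶ G)
    (hψ : ψ ≫ (FSch.levelMor 𝔛 h n).adj.unit.app G = 0) :
    (FSch.levelMor 𝔛 h n).pull.map ψ = 0 := by
  haveI : (FSch.levelMor 𝔛 h n).push.Additive := inferInstanceAs (SheafOfModules.pushforward _).Additive
  apply ((FSch.levelMor 𝔛 h n).adj.homEquiv _ _).injective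
  rw [Adjunction.homEquiv_unit, Adjunction.homEquiv_unit, Functor.map_zero, comp_zero]
  exact (((FSch.levelMor 𝔛 h n).adj.unit.naturality ψ).symm).trans hψ

/-- A perturbation by a small morphism of an injective map on an affine open stays injective. -/
theorem exists_bound_mono (hN : 𝔛.IsLocNoethFormal) {F G : FSch.ModF 𝔛 h} (hF : FSch.IsCohF 𝔛 h F)
    (hG : FSch.IsCohF 𝔛 h G) (θ : F ⟶ G) [Mono θ] {W : (𝔛.X 0).Opens} (hW : IsAffineOpen W) :
    ∃ c : ℕ, ∀ ψ : F ⟶ G, (∀ x, appS ψ W x ∈ (I h W ^ (c + 1) • ⊤ : Submodule (Rg h W) (sect G W))) →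
      ∀ x, appS (θ + ψ) W x = 0 → x = 0 := by
  haveI := isNoetherianRing h hN hW
  haveI := (sect_spec hN hF hW).1
  haveI := (sect_spec hN hG hW).1
  let N := LinearMap.range (appS θ W)
  obtain ⟨c, hc⟩ := (I h W).exists_pow_inf_eq_pow_smul N
  refine ⟨c, fun ψ hψ x hx => ?_⟩
  have hsum : appS θ W x + appS ψ W x = 0 := hx
  have hj : ∀ j, x ∈ (I h W ^ j • ⊤ : Submodule (Rg h W) (sect F W)) := by
    intro j
    induction j with
    | zero => simp
    | succ j ih =>
      have h1 : appS ψ W x ∈ (I h W ^ (j + (c + 1)) • ⊤ : Submodule (Rg h W) (sect G W)) := by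
        have := Submodule.mem_map_of_mem (f := appS ψ W) ih
        rw [Submodule.map_smul''] at this
        rw [pow_add, Submodule.mul_smul]
        refine SetLike.le_def.1 (smul_mono_right _ ?_) this
        rintro _ ⟨y, -, rfl⟩
        exact hψ y
      have h2 : appS θ W x ∈ I h W ^ (j + (c + 1)) • ⊤ ⊓ N := by
        refine ⟨?_, ⟨x, rfl⟩⟩
        rw [eq_neg_of_add_eq_zero_left hsum]
        exact Submodule.neg_mem _ h1
      rw [hc (j + (c + 1)) (by omega), show j + (c + 1) - c = j + 1 by omega] at h2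
      have h3 := SetLike.le_def.1 (smul_mono_right _ inf_le_right) h2
      rw [show N = (⊤ : Submodule (Rg h W) (sect F W)).map (appS θ W) from (Submodule.map_top _).symm,
        ← Submodule.map_smul''] at h3
      obtain ⟨y, hy, hyx⟩ := h3
      rwa [← appS_injective θ W hyx]
  haveI : IsHausdorff (I h W) (sect F W) := IsHausdorff.of_le_jacobson _ _ (I_le_jacobson h hN hW)
  exact IsHausdorff.haus ‹_› x fun j => SModEq.zero.2 (hj j)

theorem exists_level_mono_epi_add (hN : 𝔛.IsLocNoethFormal) [CompactSpace (𝔛.X 0)] {F G : FSch.ModF 𝔛 h}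
    (hF : FSch.IsCohF 𝔛 h F) (hG : FSch.IsCohF 𝔛 h G) (θ : F ⟶ G) :
    ∃ n : ℕ, ∀ ψ : F ⟶ G, ψ ≫ (FSch.levelMor 𝔛 h n).adj.unit.app G = 0 →
      (Mono θ → Mono (θ + ψ)) ∧ (Epi θ → Epi (θ + ψ)) := by
  classical
  by_cases hθ : Mono θ
  swap
  · refine ⟨0, fun ψ hψ => ⟨fun h => absurd h hθ, fun he => ?_⟩⟩
    haveI : (FSch.levelMor 𝔛 h 0).pull.Additive :=
      (FSch.levelMor 𝔛 h 0).adj.left_adjoint_additive
    rw [epi_iff_epi_pull_zero hN hF hG, Functor.map_add, pull_map_eq_zero_of_comp_unit 0 ψ hψ, add_zero,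
      ← epi_iff_epi_pull_zero hN hF hG]
    exact he
  have hb : ∀ x : 𝔛.X 0, ∃ (W : (𝔛.X 0).Opens), x ∈ W ∧ IsAffineOpen W := fun x => by
    obtain ⟨_, ⟨W, hW, rfl⟩, hxW, -⟩ := (𝔛.X 0).isBasis_affineOpens.exists_subset_of_mem_open
      (show x ∈ ((⊤ : (𝔛.X 0).Opens) : Set (𝔛.X 0)) from trivial) isOpen_univ
    exact ⟨W, hxW, hW⟩
  choose W hxW hW using hb
  obtain ⟨t, ht⟩ := isCompact_univ.elim_finite_subcover (fun x => (W x : Set (𝔛.X 0))) (fun x => (W x).isOpen)
    (fun x _ => Set.mem_iUnion.2 ⟨x, hxW x⟩)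
  choose c hc using fun x => exists_bound_mono hN hF hG θ (hW x)
  refine ⟨t.sup c, fun ψ hψ => ⟨fun _ => ?_, fun he => ?_⟩⟩
  · have hsmall : ∀ x ∈ t, ∀ y, appS ψ (W x) y ∈
        (I h (W x) ^ (c x + 1) • ⊤ : Submodule (Rg h (W x)) (sect G (W x))) := fun x hx y => by
      refine SetLike.le_def.1 (Submodule.smul_mono (Ideal.pow_le_pow_right
        (show c x + 1 ≤ t.sup c + 1 by have := Finset.le_sup (f := c) hx; omega)) le_top)
        (((sect_spec hN hG (hW x)).2.1 (t.sup c) _).1 ?_)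
      rw [← appS_comp, hψ]
      rfl
    haveI : SheafOfModules.IsFinitePresentation (R := ModSite.ringSh (𝔛.Osh h)) F := hF
    have hK := isCohF_kernel hN (θ + ψ) hF hG
    refine mono_of_appS_injective _ fun U y hy => ?_
    let S : Sieve U :=
      { arrows := fun V _ => ∃ x ∈ t, V ≤ W x
        downward_closed := fun {Y Z} {f} ⟨x, h1, h2⟩ g => ⟨x, h1, g.le.trans h2⟩ }
    have hS : S ∈ Opens.grothendieckTopology (𝔛.X 0) U := fun z hz => by
      obtain ⟨x, hxt, hzx⟩ : ∃ x, x ∈ t ∧ z ∈ W x := by simpa using ht (Set.mem_univ z)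
      exact ⟨U ⊓ W x, homOfLE inf_le_left, ⟨x, hxt, inf_le_right⟩, hz, hzx⟩
    refine eq_zero_of_locally F hS y fun V g ⟨x, hxt, hVx⟩ => ?_
    obtain ⟨z, hz⟩ := exists_kernel_el (θ + ψ) (rs F g y) (by rw [appS_res, hy, map_zero])
    rw [← hz, (sect_spec hN hK (hW x)).2.2 (fun w => ?_) hVx z, map_zero]
    refine appS_injective (kernel.ι (θ + ψ)) _ (Eq.trans ?_ (map_zero _).symm)
    refine hc x ψ (hsmall x hxt) _ ?_
    rw [← appS_comp, kernel.condition]
    rfl
  · haveI : (FSch.levelMor 𝔛 h 0).pull.Additive :=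
      (FSch.levelMor 𝔛 h 0).adj.left_adjoint_additive
    have hψ0 : ψ ≫ (FSch.levelMor 𝔛 h 0).adj.unit.app G = 0 := by
      refine SheafOfModules.hom_ext (PresheafOfModules.hom_ext fun U => ModuleCat.hom_ext (LinearMap.ext fun y => ?_))
      show appS (ψ ≫ (FSch.levelMor 𝔛 h 0).adj.unit.app G) U.unop y = 0
      obtain ⟨S, hS, hS'⟩ := exists_cover_affine (𝔛 := 𝔛) U.unop
      refine eq_zero_of_locally _ hS _ fun V g hg => ?_
      obtain ⟨W', hVW, hWU, hW'⟩ := hS' g hg
      have h1 : appS ((FSch.levelMor 𝔛 h 0).adj.unit.app G) W' (appS ψ W' (rs F (homOfLE hWU) y)) = 0 := by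
        refine ((sect_spec hN hG hW').2.1 0 _).2 (SetLike.le_def.1
          (Submodule.smul_mono (Ideal.pow_le_pow_right (show 0 + 1 ≤ t.sup c + 1 by omega)) le_top)
          (((sect_spec hN hG hW').2.1 (t.sup c) _).1 ?_))
        rw [← appS_comp, hψ]
        rfl
      rw [← appS_comp, appS_res] at h1
      rw [show g = homOfLE hVW ≫ homOfLE hWU from Subsingleton.elim _ _, map_val_comp]
      exact (congrArg _ h1).trans (map_zero _)
    rw [epi_iff_epi_pull_zero hN hF hG, Functor.map_add, pull_map_eq_zero_of_comp_unit 0 ψ hψ0, add_zero,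
      ← epi_iff_epi_pull_zero hN hF hG]
    exact he

end Groth.Agent.FFormal
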