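import Groth.Agent.FFormal.ComplPres
import Groth.Agent.FFormal.Hom
import Groth.Agent.FFormal.Sub
import Groth.Agent.Adic.ComplAlong
import Groth.Agent.Adic.IdealSpec
import Groth.Agent.FormalExist.Base
import Groth.Agent.FormalExist.QuotLem
import Groth.Agent.FormalExist.ProperSupp
import Groth.Agent.KoszSh77.Unit
import Groth.Agent.CycLib.ModStalk
import Groth.Agent.QCoh.Qcqs
import Groth.Agent.CohDev.Coh
import Groth.Agent.EtShriekLib.Proper
import Groth.Agent.FComplAff.Coh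

/-!
# Algebraization of coherent modules on a completion with proper support
-/

set_option autoImplicit false
set_option linter.style.haveILetI false
set_option linter.dupNamespace false

universe u

open CategoryTheory CategoryTheory.Limits AlgebraicGeometry Opposite TopologicalSpace

namespace Groth.Agent.FFormal.Algebraize

open Groth.Agent
open Groth.Agent.FormalExist (IdealQuot.baseIdeal IdealQuot.baseIdeal_ideal Base.pow_ideal
  Base.killed_of_killedBy Base.killedBy_of_killed QuotLem.comp_iso)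

theorem transpose_comm {C D E : Type*} [Category C] [Category D] [Category E] {P₁ : C ⥤ D} {I : D ⥤ E} {P₀ : C ⥤ E}
    (τ : P₁ ⋙ I ≅ P₀) {G M : C} (q : G ⟶ M) {F₁ : D} (ε : P₁.obj M ⟶ F₁) {F₀ : E} (e : I.obj F₁ ⟶ F₀) :
    I.map (P₁.map q ≫ ε) ≫ e = τ.hom.app G ≫ P₀.map q ≫ τ.inv.app M ≫ I.map ε ≫ e := by
  rw [← NatTrans.naturality_assoc, Functor.comp_map, Functor.map_comp, Category.assoc, Iso.hom_inv_id_app_assoc]

variable {A : Type u} [CommRing A] {X : Scheme.{u}} [X.Over (Spec (CommRingCat.of A))]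

/-- The ideal sheaf generated by an ideal of the base is the comap of its ideal sheaf on the spectrum. -/
theorem comap_idealSpec_eq (J : Ideal A) :
    (FSch.idealSpec A J).comap (X ↘ Spec (CommRingCat.of A)) = IdealQuot.baseIdeal X J := by
  refine Scheme.IdealSheafData.ext (funext fun W => ?_)
  rw [IdealSh.Comap.ideal_comap _ _ ⟨⊤, isAffineOpen_top _⟩ W le_top, Adic.IdealSpec.ideal_idealSpec_top,
    IdealQuot.baseIdeal_ideal]
  rw [show J.comap (Adic.IdealSpec.gEquiv A).toRingHom =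
      J.map (Scheme.ΓSpecIso (CommRingCat.of A)).inv.hom from
    (Ideal.map_comap_of_equiv (Scheme.ΓSpecIso (CommRingCat.of A)).commRingCatIsoToRingEquiv.symm).symm,
    Ideal.map_map]
  rfl

variable {J : Ideal A} (𝓘 : X.IdealSheafData)

/-- The level embedding. -/
noncomputable abbrev cX (n : ℕ) := FSch.completionToX X 𝓘 n

instance isClosedImmersion_cX (n : ℕ) : IsClosedImmersion (cX 𝓘 n) :=
  inferInstanceAs (IsClosedImmersion (𝓘 ^ (n + 1)).subschemeι)

/-- The adjunction of a level. -/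
noncomputable abbrev adjX (n : ℕ) := Scheme.Modules.pullbackPushforwardAdjunction (cX 𝓘 n)

/-- The unit of a level is the quotient by the power of the ideal. -/
theorem isModQuot_unit (h𝓘 : 𝓘 = IdealQuot.baseIdeal X J) (n : ℕ) (M : X.Modules) [M.IsQuasicoherent] :
    Formal61.Sys.IsModQuot (J ^ (n + 1)) ((adjX 𝓘 n).unit.app M) := by
  let c := cX 𝓘 n
  haveI : Epi ((adjX 𝓘 n).unit.app M) := KoszSh77.epi_unit c M
  have hk : ClSub.KilledByIdeal ((IdealQuot.baseIdeal X J) ^ (n + 1))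
      ((Scheme.Modules.pushforward c).obj ((Scheme.Modules.pullback c).obj M)) := by
    rw [← h𝓘]
    exact ProperFin.killedByIdeal_push (𝓘 ^ (n + 1)) _
  haveI : ((Scheme.Modules.pullback c).obj M).IsQuasicoherent := QCoh.isQuasicoherent_pullback c M
  refine Formal61.Sys.IsModQuot.mk' ?_ fun Z φ hφ => ?_
  · have hq : ((Scheme.Modules.pushforward c).obj ((Scheme.Modules.pullback c).obj M)).IsQuasicoherent :=
      QCoh.isQuasicoherent_pushforward c _
    exact (Formal61.Sys.smulFamily_comp_eq_zero_iff _).1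
      (Formal61.Sys.comp_eq_zero_of_killedBy (Base.killedBy_of_killed (X := X) hq hk) _)
  · let Q := Formal.modPow J (n + 1) M
    let π := Formal.modPowπ J (n + 1) M
    haveI : IsIso ((adjX 𝓘 n).unit.app Q) := (ClUnit.isIso_unit_iff c Q).mpr fun V a ha s => by
      have ha' : a ∈ (𝓘 ^ (n + 1)).ideal V :=
        (congrArg (fun K : X.IdealSheafData => K.ideal V) (Scheme.IdealSheafData.ker_subschemeι (𝓘 ^ (n + 1)))).le ha
      rw [h𝓘] at ha'
      exact Base.killed_of_killedBy (Formal61.Sys.killedBy_modPow J (n + 1) M) V a ha' s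
    obtain ⟨χ, hχ⟩ := (Formal61.Sys.isModQuot_modPowπ J (n + 1) M).exists_desc φ hφ
    refine ⟨((Scheme.Modules.pushforward c).map ((Scheme.Modules.pullback c).map π) ≫
      inv ((adjX 𝓘 n).unit.app Q)) ≫ χ, ?_⟩
    refine (Category.assoc _ _ _).symm.trans ((congrArg (· ≫ χ) ?_).trans hχ)
    refine (Category.assoc _ _ _).symm.trans ?_
    rw [IsIso.comp_inv_eq]
    exact ((adjX 𝓘 n).unit.naturality π).symm

/-- The transpose of an isomorphism from the inverse image is a quotient. -/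
theorem isModQuot_homEquiv (h𝓘 : 𝓘 = IdealQuot.baseIdeal X J) (n : ℕ) (M : X.Modules) [M.IsQuasicoherent]
    {N : ((FSch.completionAlong X 𝓘).X n).Modules} (φ : (Scheme.Modules.pullback (cX 𝓘 n)).obj M ≅ N) :
    Formal61.Sys.IsModQuot (J ^ (n + 1)) ((adjX 𝓘 n).homEquiv _ _ φ.hom) := by
  rw [Adjunction.homEquiv_unit]
  exact QuotLem.comp_iso (isModQuot_unit 𝓘 h𝓘 n M) ((Scheme.Modules.pushforward (cX 𝓘 n)).mapIso φ)

/-- A map from the inverse image whose transpose is a quotient is an isomorphism. -/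
theorem isIso_of_isModQuot (h𝓘 : 𝓘 = IdealQuot.baseIdeal X J) (n : ℕ) (M : X.Modules) [M.IsQuasicoherent]
    {N : ((FSch.completionAlong X 𝓘).X n).Modules} (φ : (Scheme.Modules.pullback (cX 𝓘 n)).obj M ⟶ N)
    (h : Formal61.Sys.IsModQuot (J ^ (n + 1)) ((adjX 𝓘 n).homEquiv _ _ φ)) : IsIso φ := by
  have h0 := isModQuot_unit 𝓘 h𝓘 n M
  obtain ⟨e, he⟩ := h0.existsUnique_iso h
  haveI := h0.epi
  rw [Adjunction.homEquiv_unit] at he
  have h1 : e.hom = (Scheme.Modules.pushforward (cX 𝓘 n)).map φ := (cancel_epi _).1 he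
  haveI : IsIso ((Scheme.Modules.pushforward (cX 𝓘 n)).map φ) := h1 ▸ inferInstance
  exact (Props.KilledSub.fullyFaithful (cX 𝓘 n)).isIso_of_isIso_map φ

variable {𝓘} (𝔐 : FSch.ModSys (FSch.completionAlong X 𝓘))

/-- The terms of the system of direct images. -/
noncomputable abbrev term (n : ℕ) : X.Modules := (Scheme.Modules.pushforward (cX 𝓘 n)).obj (𝔐.F n)

/-- The inverse image of the next term is the term. -/
noncomputable def backIso (n : ℕ) : (Scheme.Modules.pullback (cX 𝓘 n)).obj (term 𝔐 (n + 1)) ≅ 𝔐.F n :=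
  ((FSch.complTransIso 𝓘 n).app (term 𝔐 (n + 1))).symm ≪≫
    (Scheme.Modules.pullback ((FSch.completionAlong X 𝓘).ι n)).mapIso
      (@asIso _ _ _ _ ((adjX 𝓘 (n + 1)).counit.app (𝔐.F (n + 1))) inferInstance) ≪≫ 𝔐.e n

/-- The transition maps of the system of direct images. -/
noncomputable def trD (n : ℕ) : term 𝔐 (n + 1) ⟶ term 𝔐 n :=
  (adjX 𝓘 n).homEquiv _ _ (backIso 𝔐 n).hom

/-- The system of direct images. -/
noncomputable def dirSys : ℕᵒᵖ ⥤ X.Modules := Functor.ofOpSequence (X := term 𝔐) (trD 𝔐)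

theorem dirSys_map (n : ℕ) : (dirSys 𝔐).map (homOfLE (Nat.le_succ n)).op = trD 𝔐 n :=
  Functor.ofOpSequence_map_homOfLE_succ _ n

theorem isCohFormal_dirSys [IsLocallyNoetherian X] (h𝓘 : 𝓘 = IdealQuot.baseIdeal X J) (hM : 𝔐.IsCoh) :
    Formal.IsCohFormal J (dirSys 𝔐) := by
  have hc : ∀ n, Coh.IsCoh (term 𝔐 n) := fun n => by
    haveI := (hM n).1
    exact CycLib.isCoh_push (𝔐.F n) (cX 𝓘 n) (hM n)
  refine ⟨hc, fun n => ?_, fun n => ?_⟩
  · refine Base.killedBy_of_killed (hc n).1 ?_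
    rw [← h𝓘]
    exact ProperFin.killedByIdeal_push (𝓘 ^ (n + 1)) _
  · haveI := (hc (n + 1)).1
    rw [dirSys_map]
    exact isModQuot_homEquiv 𝓘 h𝓘 n _ (backIso 𝔐 n)

/-- A coherent system with properly supported smallest level comes from a coherent module. -/
theorem exists_algebraization [IsNoetherianRing A] [IsAdicComplete J A]
    [IsSeparated (X ↘ Spec (CommRingCat.of A))] [LocallyOfFiniteType (X ↘ Spec (CommRingCat.of A))]
    [QuasiCompact (X ↘ Spec (CommRingCat.of A))]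
    (h𝓘 : 𝓘 = IdealQuot.baseIdeal X J) (hM : 𝔐.IsCoh) {T : Set X}
    (hT : ClSub.IsProperOver (X ↘ Spec (CommRingCat.of A)) T) (hs : CohB1.support (term 𝔐 0) ⊆ T) :
    ∃ G : X.Modules, Coh.IsCoh G ∧ ClSub.IsProperOver (X ↘ Spec (CommRingCat.of A)) (CohB1.support G) ∧
      Nonempty (𝔐 ≅ FSch.complMod 𝓘 G) := by
  haveI : IsLocallyNoetherian X := LocallyOfFiniteType.isLocallyNoetherian (X ↘ Spec (CommRingCat.of A))
  have hE := isCohFormal_dirSys 𝔐 h𝓘 hM
  obtain ⟨G, hG, hGs, ⟨e⟩⟩ := FormalExist.ProperSupp.exists_algebraization hE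
    (EtShriekLib.ipo_mono _ hT (CohDev.isClosed_support (hE.1 0)) hs)
  haveI := hG.1
  let q : ∀ n, G ⟶ term 𝔐 n := fun n => Formal.modPowπ J (n + 1) G ≫ e.hom.app (op n)
  have hq : ∀ n, Formal61.Sys.IsModQuot (J ^ (n + 1)) (q n) := fun n =>
    QuotLem.comp_iso (Formal61.Sys.isModQuot_modPowπ J (n + 1) G) (e.app (op n))
  have hq' : ∀ n, q (n + 1) ≫ trD 𝔐 n = q n := fun n => by
    rw [← dirSys_map]
    refine (Category.assoc _ _ _).trans ((congrArg (_ ≫ ·) (e.hom.naturality _).symm).trans ?_)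
    exact (Category.assoc _ _ _).symm.trans
      (congrArg (· ≫ _) (Formal61.Sys.modPowπ_comp_completion_map J G (Nat.le_succ n)))
  let φ : ∀ n, (Scheme.Modules.pullback (cX 𝓘 n)).obj G ⟶ 𝔐.F n := fun n =>
    ((adjX 𝓘 n).homEquiv _ _).symm (q n)
  haveI : ∀ n, IsIso (φ n) := fun n => isIso_of_isModQuot 𝓘 h𝓘 n G (φ n) (by
    rw [Equiv.apply_symm_apply]
    exact hq n)
  let Φ : FSch.complMod 𝓘 G ⟶ 𝔐 := ⟨φ, fun n => by
    rw [FSch.complMod_e, Iso.app_hom]
    clear_value q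
    have h1 : φ n = (Scheme.Modules.pullback (cX 𝓘 n)).map (q (n + 1)) ≫ (backIso 𝔐 n).hom := by
      refine (congrArg ((adjX 𝓘 n).homEquiv _ _).symm (hq' n).symm).trans ?_
      rw [Adjunction.homEquiv_naturality_left_symm, trD, Equiv.symm_apply_apply]
    have h2 : φ (n + 1) = (Scheme.Modules.pullback (cX 𝓘 (n + 1))).map (q (n + 1)) ≫
        (adjX 𝓘 (n + 1)).counit.app (𝔐.F (n + 1)) := (adjX 𝓘 (n + 1)).homEquiv_counit ..
    rw [h1, h2, backIso]
    exact transpose_comm (FSch.complTransIso 𝓘 n) (q (n + 1)) _ _⟩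
  haveI : ∀ n, IsIso (FSch.ModSys.Hom.app Φ n) := fun n => inferInstanceAs (IsIso (φ n))
  exact ⟨G, hG, hGs, ⟨(FComplAff.isoOfApp Φ).symm⟩⟩

end Groth.Agent.FFormal.Algebraize
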