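import Groth.Agent.SitePull.PushStable
import Groth.Agent.SitePull.UnitSingle

/-!
# Vanishing above a bound for unbounded complexes with cohomology in a class of bounded dimension
-/

set_option autoImplicit false
set_option linter.style.haveILetI false

universe w u

open CategoryTheory CategoryTheory.Limits Opposite ModSite DerivedCategory Pretriangulated

attribute [local instance] HasDerivedCategory.standard

namespace Groth.Agent.FFormal.BddAbove

open Groth.Agent.SitePull Groth.Agent.KFlat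
open Groth.Agent.ModFlat (rs map_val_comp)
open Groth.Agent.PullFlat (appS appS_res appS_comp eq_zero_of_locally)

variable {C D : Type u} [SmallCategory C] [SmallCategory D] {J : GrothendieckTopology C}
  {K : GrothendieckTopology D} {O_C : Sheaf J CommRingCat.{u}} {O_D : Sheaf K CommRingCat.{u}}

/-- No maps from shifted free modules above the amplitude plus the dimension. -/
theorem hom_eq_zero (P : ObjectProperty (Mod O_C)) (B : Set C)
    (hB : ∀ U : C, ∃ (ι : Type u) (Y : ι → C) (g : ∀ i, Y i ⟶ U), Sieve.ofArrows Y g ∈ J U ∧ ∀ i, Y i ∈ B)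
    (hA : ∀ V ∈ B, ∃ d : ℕ, ∀ T ∈ J V, ∃ (ι : Type u) (Y : ι → C) (g : ∀ i, Y i ⟶ V),
      (∀ i, T.arrows (g i)) ∧ Sieve.ofArrows Y g ∈ J V ∧
      ∀ (i : ι) (F : Mod O_C), P F → ∀ k : ℕ, d < k → Subsingleton (ModSite.HU O_C F k (Y i)))
    (X : DerivedCategory (Mod O_C)) (hX : WSerre.cohIn P X) (e : ℤ)
    (he : ∀ i : ℤ, e < i → IsZero ((homologyFunctor (Mod O_C) i).obj X))
    (U : C) (d : ℕ) (hU : ∀ F, P F → ∀ k : ℕ, d < k → Subsingleton (ModSite.HU O_C F k U))
    (m : ℤ) (hm : e + d < m) (g : (singleFunctor (Mod O_C) m).obj (freeU O_C U) ⟶ X) : g = 0 := by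
  have := hasProduct_D (CohCx.truncTower X)
  have hL := isRlimVia_truncTower_of_cohIn P B hB hA X hX
  refine eq_zero_of_stage hL (N := ((d : ℤ) - m + 1).toNat + (1 - m).toNat)
    (stableAt_truncTower X U m _ fun n hn => ⟨by omega, fun k hk => hU _ (hX _) k (by omega)⟩) g ?_
  refine @eq_zero_of_isGE _ _ _ _ _ m (-((((d : ℤ) - m + 1).toNat + (1 - m).toNat : ℕ) : ℤ)) _
    (inferInstanceAs (TStructure.t.IsGE ((TStructure.t.truncGE _).obj X) _)) (fun j hj => ?_) _
  rcases lt_or_ge j (-((((d : ℤ) - m + 1).toNat + (1 - m).toNat : ℕ) : ℤ)) with hjn | hjn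
  · exact null_of_isZero _ (@isZero_of_isGE _ _ _ _ _ _ j hjn
      (inferInstanceAs (TStructure.t.IsGE ((TStructure.t.truncGE _).obj X) _))) m j
  refine Null.of_iso ?_ (@asIso _ _ _ _ _ (TruncHom.isIso_H_truncGEπ X _ j hjn)).symm
  rcases le_or_gt j e with hje | hje
  · exact null_of_HU U _ m j (m - j).toNat (by omega) (by omega) (hU _ (hX j) _ (by omega))
  · exact null_of_isZero _ (he j hje) m j

/-- A cohomology sheaf vanishes when there are no maps from shifted free modules on a basis. -/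
theorem isZero_H_of_basis (M : DerivedCategory (Mod O_D)) (m : ℤ) (B : Set D)
    (hB : ∀ U : D, ∃ (ι : Type u) (Y : ι → D) (g : ∀ i, Y i ⟶ U), Sieve.ofArrows Y g ∈ K U ∧ ∀ i, Y i ∈ B)
    (h : ∀ W ∈ B, ∀ y : (singleFunctor (Mod O_D) m).obj (freeU O_D W) ⟶ M, y = 0) :
    IsZero ((homologyFunctor (Mod O_D) m).obj M) := by
  rw [IsZero.iff_id_eq_zero]
  refine SheafOfModules.hom_ext (PresheafOfModules.hom_ext fun U => ModuleCat.hom_ext (LinearMap.ext fun x => ?_))
  change (x : sect ((homologyFunctor (Mod O_D) m).obj M) U.unop) = 0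
  obtain ⟨S, hS, hlift⟩ := exists_cover_hom M m x
  refine eq_zero_of_locally _ hS x fun W g hg => ?_
  obtain ⟨y, hy⟩ := hlift g hg
  obtain ⟨ι, Y, f, hf, hfB⟩ := hB W
  refine eq_zero_of_locally _ hf _ fun Z k hk => ?_
  obtain ⟨i, b, rfl⟩ := (Sieve.mem_ofArrows_iff _ _ k).1 hk
  suffices hi : rs _ (f i) (rs _ g x) = 0 by rw [map_val_comp, hi, map_zero]
  rw [← hy]
  have h2 := congrArg (freeUEquiv (Y i) _) (Φ_map_comp (f i) y)
  rw [gmap_comp] at h2
  refine h2.symm.trans ?_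
  rw [h _ (hfB i) ((singleFunctor (Mod O_D) m).map (gmap (f i)) ≫ y)]
  rw [map_zero, freeUEquiv_zero]

variable (f : RMor O_C O_D) [SiteCmp.HasRpushD f]

/-- `H^m(Rf_* X)` vanishes above the amplitude plus the dimension over a basis. -/
theorem isZero_H_push (P : ObjectProperty (Mod O_C)) (B : Set C)
    (hB : ∀ U : C, ∃ (ι : Type u) (Y : ι → C) (g : ∀ i, Y i ⟶ U), Sieve.ofArrows Y g ∈ J U ∧ ∀ i, Y i ∈ B)
    (hA : ∀ V ∈ B, ∃ d : ℕ, ∀ T ∈ J V, ∃ (ι : Type u) (Y : ι → C) (g : ∀ i, Y i ⟶ V),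
      (∀ i, T.arrows (g i)) ∧ Sieve.ofArrows Y g ∈ J V ∧
      ∀ (i : ι) (F : Mod O_C), P F → ∀ k : ℕ, d < k → Subsingleton (ModSite.HU O_C F k (Y i)))
    (B' : Set D)
    (hB' : ∀ U : D, ∃ (ι : Type u) (Y : ι → D) (g : ∀ i, Y i ⟶ U), Sieve.ofArrows Y g ∈ K U ∧ ∀ i, Y i ∈ B')
    (d : ℕ) (hd : ∀ W ∈ B', ∀ F, P F → ∀ k : ℕ, d < k → Subsingleton (ModSite.HU O_C F k (f.fn.obj W)))
    (X : DerivedCategory (Mod O_C)) (hX : WSerre.cohIn P X) (e : ℤ)
    (he : ∀ i : ℤ, e < i → IsZero ((homologyFunctor (Mod O_C) i).obj X))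
    (m : ℤ) (hm : e + d < m) :
    IsZero ((homologyFunctor (Mod O_D) m).obj ((SiteCmp.RpushD f).obj X)) :=
  isZero_H_of_basis _ m B' hB' fun W hW y => by
    have h0 : ∀ y', homPushEquiv f W m X y' = homPushEquiv f W m X 0 := fun y' =>
      congrArg _ (hom_eq_zero P B hB hA X hX e he _ d (hd W hW) m hm y')
    obtain ⟨y', rfl⟩ := (homPushEquiv f W m X).surjective y
    obtain ⟨y₀, h₀⟩ := (homPushEquiv f W m X).surjective 0
    exact (h0 y').trans ((h0 y₀).symm.trans h₀)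

end Groth.Agent.FFormal.BddAbove
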