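import Groth.Agent.FFormal.AffVanish
import Groth.Agent.FFormal.BddAbove

/-!
# Amplitude of derived direct images of complexes with ind-coherent cohomology on formal schemes
-/

set_option autoImplicit false
set_option linter.style.haveILetI false

universe u

open CategoryTheory CategoryTheory.Limits AlgebraicGeometry Opposite TopologicalSpace ModSite DerivedCategory

attribute [local instance] HasDerivedCategory.standard

namespace Groth.Agent.FFormal.Amplitude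

/-- Any covering sieve of a scheme is refined by affine opens. -/
theorem exists_affine_refinement {X : Scheme.{u}} {V : X.Opens} (T : Sieve V)
    (hT : T ∈ Opens.grothendieckTopology X V) :
    ∃ (ι : Type u) (Y : ι → X.Opens) (g : ∀ i, Y i ⟶ V),
      (∀ i, T.arrows (g i)) ∧ Sieve.ofArrows Y g ∈ Opens.grothendieckTopology X V ∧ ∀ i, IsAffineOpen (Y i) := by
  refine ⟨{W : X.Opens // IsAffineOpen W ∧ ∃ hle : W ≤ V, T.arrows (homOfLE hle)}, fun W => W.1,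
    fun W => homOfLE W.2.2.choose, fun W => W.2.2.choose_spec, fun x hx => ?_, fun W => W.2.1⟩
  obtain ⟨W', g, hg, hx'⟩ := hT x hx
  obtain ⟨W, hW, hxW, hle⟩ := exists_isAffineOpen_mem_and_subset hx'
  have hWV : W ≤ V := fun z hz => leOfHom g (hle hz)
  refine ⟨W, homOfLE hWV, Sieve.ofArrows_mk _ (fun W : {W : X.Opens // IsAffineOpen W ∧
    ∃ hle : W ≤ V, T.arrows (homOfLE hle)} => homOfLE W.2.2.choose) ⟨W, hW, hWV, ?_⟩, hxW⟩
  exact T.downward_closed hg (homOfLE (fun z hz => hle hz))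

theorem affine_basis (X : Scheme.{u}) (U : X.Opens) :
    ∃ (ι : Type u) (Y : ι → X.Opens) (g : ∀ i, Y i ⟶ U),
      Sieve.ofArrows Y g ∈ Opens.grothendieckTopology X U ∧ ∀ i, Y i ∈ {W : X.Opens | IsAffineOpen W} := by
  obtain ⟨ι, Y, g, -, h, hY⟩ := exists_affine_refinement (⊤ : Sieve U)
    ((Opens.grothendieckTopology X).top_mem U)
  exact ⟨ι, Y, g, h, hY⟩

variable {𝔛 : FSch.Sys.{u}} (h𝔛 : 𝔛.IsLocNoethFormal)

include h𝔛 in
theorem subsingleton_HU {W : (𝔛.X 0).Opens} (hW : IsAffineOpen W) (F : FSch.ModF 𝔛 h𝔛.1)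
    (hF : IndP 𝔛 h𝔛.1 F) (k : ℕ) (hk : 0 < k) : Subsingleton (ModSite.HU (𝔛.Osh h𝔛.1) F k W) := by
  obtain ⟨j, rfl⟩ := Nat.exists_eq_succ_of_ne_zero hk.ne'
  exact subsingleton_HU_indP h𝔛 hF hW j

include h𝔛 in
theorem affine_hA : ∀ V ∈ {W : (𝔛.X 0).Opens | IsAffineOpen W}, ∃ d : ℕ,
    ∀ T ∈ Opens.grothendieckTopology (𝔛.X 0) V,
    ∃ (ι : Type u) (Y : ι → (𝔛.X 0).Opens) (g : ∀ i, Y i ⟶ V),
      (∀ i, T.arrows (g i)) ∧ Sieve.ofArrows Y g ∈ Opens.grothendieckTopology (𝔛.X 0) V ∧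
      ∀ (i : ι) (F : FSch.ModF 𝔛 h𝔛.1), IndP 𝔛 h𝔛.1 F → ∀ k : ℕ, d < k →
        Subsingleton (ModSite.HU (𝔛.Osh h𝔛.1) F k (Y i)) := fun V _ => ⟨0, fun T hT => by
  obtain ⟨ι, Y, g, hg, hgJ, hY⟩ := exists_affine_refinement T hT
  exact ⟨ι, Y, g, hg, hgJ, fun i F hF k hk => subsingleton_HU h𝔛 (hY i) F hF k hk⟩⟩

variable {𝔜 : FSch.Sys.{u}} (h𝔜 : 𝔜.IsFormal) (f : 𝔛 ⟶ 𝔜) [SiteCmp.HasRpushD (FSch.homMor f h𝔛.1 h𝔜)]

/-- The derived direct image along a map with bounded dimension over a basis. -/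
theorem isZero_H_push (B' : Set (𝔜.X 0).Opens)
    (hB' : ∀ U : (𝔜.X 0).Opens, ∃ (ι : Type u) (Y : ι → (𝔜.X 0).Opens) (g : ∀ i, Y i ⟶ U),
      Sieve.ofArrows Y g ∈ Opens.grothendieckTopology (𝔜.X 0) U ∧ ∀ i, Y i ∈ B')
    (d : ℕ) (hd : ∀ W ∈ B', ∀ F, IndP 𝔛 h𝔛.1 F → ∀ k : ℕ, d < k →
      Subsingleton (ModSite.HU (𝔛.Osh h𝔛.1) F k ((Opens.map ((f : FSch.Hom 𝔛 𝔜).app 0).base).obj W)))
    (G : DerivedCategory (FSch.ModF 𝔛 h𝔛.1)) (hG : ∀ i : ℤ, IndP 𝔛 h𝔛.1 (SiteCmp.HMod G i)) (e : ℤ)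
    (he : ∀ i : ℤ, e < i → IsZero (SiteCmp.HMod G i)) (m : ℤ) (hm : e + d < m) :
    IsZero (SiteCmp.HMod ((SiteCmp.RpushD (FSch.homMor f h𝔛.1 h𝔜)).obj G) m) :=
  BddAbove.isZero_H_push (FSch.homMor f h𝔛.1 h𝔜) (IndP 𝔛 h𝔛.1) _ (affine_basis _) (affine_hA h𝔛) B' hB' d hd
    G hG e he m hm

end Groth.Agent.FFormal.Amplitude
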