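import Groth.Agent.FFormal.Dimension

/-!
# Bounded amplitude of derived global sections and direct images on Noetherian formal schemes
-/

set_option autoImplicit false
set_option linter.style.haveILetI false

universe u

open CategoryTheory CategoryTheory.Limits AlgebraicGeometry Opposite TopologicalSpace ModSite DerivedCategory

attribute [local instance] HasDerivedCategory.standard

namespace Groth.Agent.FFormal.Bounds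

open Groth.Agent.KFlat (freeU)

variable {𝔛 : FSch.Sys.{u}} (h𝔛 : 𝔛.IsLocNoethFormal) [CompactSpace (𝔛.X 0)]

theorem exists_bound_RpushD {𝔜 : FSch.Sys.{u}} (h𝔜 : 𝔜.IsFormal) [CompactSpace (𝔜.X 0)] (f : 𝔛 ⟶ 𝔜)
    [SiteCmp.HasRpushD (FSch.homMor f h𝔛.1 h𝔜)] :
    ∃ e : ℕ, ∀ (G : DerivedCategory (FSch.ModF 𝔛 h𝔛.1)), (∀ i : ℤ, IndP 𝔛 h𝔛.1 (SiteCmp.HMod G i)) →
      ∀ i₀ : ℤ, (∀ i : ℤ, i₀ ≤ i → IsZero (SiteCmp.HMod G i)) →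
        ∀ i : ℤ, i₀ + e ≤ i →
          IsZero (SiteCmp.HMod ((SiteCmp.RpushD (FSch.homMor f h𝔛.1 h𝔜)).obj G) i) := by
  classical
  let g := (f : FSch.Hom 𝔛 𝔜).app 0
  obtain ⟨σ, hσ⟩ := isCompact_univ.elim_finite_subcover
    (fun A : (𝔜.X 0).affineOpens => (A.1 : Set (𝔜.X 0))) (fun A => A.1.isOpen) fun y _ => by
      obtain ⟨W, hW, hyW, -⟩ := exists_isAffineOpen_mem_and_subset (Opens.mem_top y)
      exact Set.mem_iUnion.2 ⟨⟨W, hW⟩, hyW⟩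
  choose d hd using fun A : (𝔜.X 0).affineOpens => Dimension.exists_bdd_basicOpen h𝔛 (g ⁻¹ᵁ A.1)
  refine ⟨σ.sup d, fun G hG i₀ hi₀ i hi => ?_⟩
  refine Amplitude.isZero_H_push h𝔛 h𝔜 f
    {W : (𝔜.X 0).Opens | ∃ A ∈ σ, ∃ a : Γ(𝔜.X 0, A.1), (𝔜.X 0).basicOpen a = W}
    (fun U => ?_) (σ.sup d) ?_ G hG (i₀ - 1) (fun j hj => hi₀ j (by omega)) i (by omega)
  · have hp : ∀ p : U, ∃ A ∈ σ, ∃ a : Γ(𝔜.X 0, A.1), (𝔜.X 0).basicOpen a ≤ U ∧ p.1 ∈ (𝔜.X 0).basicOpen a := by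
      intro p
      obtain ⟨A, hA, hpA⟩ := Set.mem_iUnion₂.1 (hσ (Set.mem_univ p.1))
      obtain ⟨V, hV, hpV⟩ : ∃ V : (𝔜.X 0).Opens, V = U ⊓ A.1 ∧ p.1 ∈ V := ⟨_, rfl, p.2, hpA⟩
      obtain ⟨a, ha, hpa⟩ := A.2.exists_basicOpen_le ⟨p.1, hpV⟩ (by exact hpA)
      exact ⟨A, hA, a, ha.trans (hV.le.trans inf_le_left), hpa⟩
    choose A hA a ha hpa using hp
    exact ⟨U, fun p => (𝔜.X 0).basicOpen (a p), fun p => homOfLE (ha p),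
      fun x hx => ⟨_, homOfLE (ha ⟨x, hx⟩), Sieve.ofArrows_mk _ (fun p : U => homOfLE (ha p)) ⟨x, hx⟩, hpa ⟨x, hx⟩⟩,
      fun p => ⟨A p, hA p, a p, rfl⟩⟩
  · rintro W ⟨A, hA, a, rfl⟩ F hF k hk
    have h1 := hd A (g.app A.1 a) F hF k (lt_of_le_of_lt (Finset.le_sup hA) hk)
    rw [← Scheme.preimage_basicOpen g a] at h1
    exact h1

theorem exists_bound_hom :
    ∃ e : ℕ, ∀ (G : DerivedCategory (FSch.ModF 𝔛 h𝔛.1)), (∀ i : ℤ, IndP 𝔛 h𝔛.1 (SiteCmp.HMod G i)) →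
      ∀ i₀ : ℤ, (∀ i : ℤ, i₀ ≤ i → IsZero (SiteCmp.HMod G i)) →
        ∀ i : ℤ, i₀ + e ≤ i → Subsingleton (SiteCmp.inD (𝔛.Osh h𝔛.1) (FSch.unitF 𝔛 h𝔛.1) ⟶
          (shiftFunctor (DerivedCategory (FSch.ModF 𝔛 h𝔛.1)) i).obj G) := by
  obtain ⟨d, hd⟩ := Dimension.exists_bdd h𝔛 (⊤ : (𝔛.X 0).Opens)
  refine ⟨d, fun G hG i₀ hi₀ i hi => ⟨fun φ ψ => sub_eq_zero.1 ?_⟩⟩
  have h0 : ∀ g : (singleFunctor (FSch.ModF 𝔛 h𝔛.1) i).obj (freeU (𝔛.Osh h𝔛.1) ⊤) ⟶ G, g = 0 :=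
    BddAbove.hom_eq_zero (IndP 𝔛 h𝔛.1) _ (Amplitude.affine_basis _) (Amplitude.affine_hA h𝔛) G hG (i₀ - 1)
      (fun j hj => hi₀ j (by omega)) ⊤ d hd i (by omega)
  let e₁ : (shiftFunctor (DerivedCategory (FSch.ModF 𝔛 h𝔛.1)) (-i)).obj
      (SiteCmp.inD (𝔛.Osh h𝔛.1) (FSch.unitF 𝔛 h𝔛.1)) ≅
      (singleFunctor (FSch.ModF 𝔛 h𝔛.1) i).obj (freeU (𝔛.Osh h𝔛.1) ⊤) :=
    ((singleFunctors (FSch.ModF 𝔛 h𝔛.1)).shiftIso (-i) i 0 (by omega)).app _ ≪≫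
      (singleFunctor (FSch.ModF 𝔛 h𝔛.1) i).mapIso (Dimension.freeTopIso (𝔛.Osh h𝔛.1)).symm
  refine (shiftFunctor (DerivedCategory (FSch.ModF 𝔛 h𝔛.1)) (-i)).map_injective ?_
  rw [Functor.map_zero, ← cancel_mono ((shiftFunctorCompIsoId _ i (-i) (by omega)).hom.app G), zero_comp,
    ← cancel_epi e₁.inv, comp_zero]
  exact h0 _

end Groth.Agent.FFormal.Bounds
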