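import Groth.Agent.FFormal.ComplPres
import Groth.Agent.Adic.ComplAlong
import Groth.Agent.QCoh.Exact
import Mathlib.RingTheory.Filtration

/-!
# Completion of coherent modules along a closed subscheme is exact
-/

set_option autoImplicit false
set_option linter.style.haveILetI false
set_option linter.dupNamespace false
set_option maxHeartbeats 400000

universe u

open CategoryTheory CategoryTheory.Limits AlgebraicGeometry Opposite TopologicalSpace ModSite

namespace Groth.Agent.FFormal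

open Groth.Agent.QCoh (res rres res_res res_smul app_res)
open Groth.Agent.ModFlat (rs map_val_comp)
open Groth.Agent.PullFlat (appS appS_res eq_zero_of_locally mono_of_appS_injective)

variable {𝔛 : FSch.Sys.{u}} (h : 𝔛.IsFormal) {X : Scheme.{u}} (𝓘 : X.IdealSheafData)
  (p : ∀ n, 𝔛.X n ⟶ X) (hp : ∀ n, 𝔛.ι n ≫ p (n + 1) = p n) [hcl : ∀ n, IsClosedImmersion (p n)]
  (hkerp : ∀ n, (p n).ker = 𝓘 ^ (n + 1))

omit hcl in
/-- The unit at a level is semilinear. -/
theorem etaL_smul (F : X.Modules) (k : ℕ) {U : X.Opens} {V : (𝔛.X 0).Opens}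
    (hVU : V ≤ p 0 ⁻¹ᵁ U) (a : Γ(X, U)) (x : Γ(F, U)) :
    etaL h p hp F k hVU (a • x) =
      (p k).appLE U (𝔛.lvU h k V) ((lvU_mono h k hVU).trans (FSch.lvU_p 𝔛 h p hp k U).ge) a •
        etaL h p hp F k hVU x := by
  rw [etaL, etaL, Scheme.Modules.Hom.app_smul]
  exact res_smul _ _ ((p k).app U a) _

omit hcl in
theorem etaL_add (F : X.Modules) (k : ℕ) {U : X.Opens} {V : (𝔛.X 0).Opens} (hVU : V ≤ p 0 ⁻¹ᵁ U)
    (x y : Γ(F, U)) : etaL h p hp F k hVU (x + y) = etaL h p hp F k hVU x + etaL h p hp F k hVU y := by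
  rw [etaL, etaL, etaL, map_add]
  exact map_add (res _ _).hom _ _

include hkerp in
/-- Sections of a completion over the preimage of an affine open, at a level. -/
theorem level_spec [IsLocallyNoetherian X] {F : X.Modules} (hF : Coh.IsCoh F) {U : X.Opens} (hU : IsAffineOpen U)
    (k : ℕ) :
    Function.Surjective (etaL h p hp F k (le_refl (p 0 ⁻¹ᵁ U))) ∧
    ∀ m : Γ(F, U), etaL h p hp F k (le_refl (p 0 ⁻¹ᵁ U)) m = 0 ↔
        m ∈ (𝓘.ideal ⟨U, hU⟩ ^ (k + 1) • ⊤ : Submodule Γ(X, U) Γ(F, U)) := by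
  let V := p 0 ⁻¹ᵁ U
  haveI := hF.1
  haveI := hF.2
  have heq : p k ⁻¹ᵁ U = 𝔛.lvU h k V := FSch.lvU_p 𝔛 h p hp k U
  have hle : 𝔛.lvU h k V ≤ p k ⁻¹ᵁ U := heq.ge
  let a : Γ(X, U) →+* B h k V := ((p k).appLE U _ hle).hom
  have hker : RingHom.ker a = 𝓘.ideal ⟨U, hU⟩ ^ (k + 1) := by
    rw [show RingHom.ker a = _ from ker_appLE (p k) ⟨U, hU⟩ _ hle heq, hkerp k,
      Scheme.IdealSheafData.ideal_pow, Pi.pow_apply]
  have ha : Function.Surjective a := by
    show Function.Surjective ((p k).appLE U _ hle).hom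
    have e : (homOfLE hle).op = eqToHom (congrArg op heq) := Subsingleton.elim _ _
    rw [Scheme.Hom.appLE, e]
    refine (ConcreteCategory.bijective_of_isIso ((𝔛.X k).presheaf.map _)).surjective.comp ?_
    exact (p k).app_surjective U hU
  obtain ⟨n, m, s, r, P⟩ := exists_presOn F hU
  have hV : IsAffineOpen (𝔛.lvU h k V) := heq ▸ hU.preimage (p k)
  have Q := presOn_pullback (p k) F hU P hV hle
  let ηh : Γ(F, U) →+ WS h (cmp p hp F) k V :=
    AddMonoidHom.mk' (etaL h p hp F k (le_refl V)) (etaL_add h p hp F k (le_refl V))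
  have hη : ∀ (c : Γ(X, U)) (x : Γ(F, U)), ηh (c • x) = a c • ηh x := fun c x => etaL_smul h p hp F k (le_refl V) c x
  refine ⟨fun y => ?_, fun x => ⟨fun hx => ?_, fun hx => ?_⟩⟩
  · obtain ⟨c, hc⟩ := Submodule.mem_span_range_iff_exists_fun _ |>.1 (Q.gen y)
    choose c' hc' using fun i => ha (c i)
    refine ⟨∑ i, c' i • s i, ?_⟩
    show ηh (∑ i, c' i • s i) = y
    rw [map_sum, ← hc]
    exact Finset.sum_congr rfl fun i _ => by
      rw [hη, hc']
      rfl
  · obtain ⟨c, rfl⟩ := Submodule.mem_span_range_iff_exists_fun _ |>.1 (P.gen x)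
    have hx' : ∑ i, a (c i) • ηh (s i) = 0 := by
      refine Eq.trans ?_ (hx : ηh (∑ i, c i • s i) = 0)
      show _ = ηh (∑ i, c i • s i)
      rw [map_sum]
      exact Finset.sum_congr rfl fun i _ => (hη _ _).symm
    obtain ⟨b, hb⟩ := Submodule.mem_span_range_iff_exists_fun _ |>.1 (Q.relgen _ hx')
    choose b' hb' using fun j => ha (b j)
    have e : ∑ i, c i • s i = ∑ i, (c i - ∑ j, b' j * r j i) • s i := by
      simp only [sub_smul, Finset.sum_sub_distrib, Finset.sum_smul, ← smul_smul]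
      rw [Finset.sum_comm (f := fun i j => b' j • r j i • s i)]
      simp only [← Finset.smul_sum, P.rel, smul_zero, Finset.sum_const_zero, sub_zero]
    rw [e]
    refine Submodule.sum_mem _ fun i _ => Submodule.smul_mem_smul ?_ trivial
    rw [← hker, RingHom.mem_ker, map_sub, map_sum, sub_eq_zero]
    have := congrFun hb i
    simp only [Finset.sum_apply, Pi.smul_apply, smul_eq_mul] at this
    simp only [map_mul, hb']
    exact this.symm
  · show ηh x = 0
    refine Submodule.smul_induction_on hx (fun c hc y _ => ?_) fun u v hu hv => ?_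
    · rw [hη, RingHom.mem_ker.1 (hker.ge hc), zero_smul]
    · rw [map_add, hu, hv, add_zero]

omit hcl in
theorem etaL_map {F G : X.Modules} (φ : F ⟶ G) (k : ℕ) {U : X.Opens}
    {V : (𝔛.X 0).Opens} (hVU : V ≤ p 0 ⁻¹ᵁ U) (m : Γ(F, U)) :
    ((Scheme.Modules.pullback (p k)).map φ).app (𝔛.lvU h k V) (etaL h p hp F k hVU m) =
      etaL h p hp G k hVU (φ.app U m) := by
  rw [etaL, etaL]
  refine (app_res _ _ _).trans (congrArg (res _ _) ?_)
  exact (congrArg (fun t => (Scheme.Modules.Hom.app t U) m)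
    ((Scheme.Modules.pullbackPushforwardAdjunction (p k)).unit.naturality φ)).symm

include hkerp in
theorem mono_realModMap_of_mono [IsLocallyNoetherian X] {F G : X.Modules} (φ : F ⟶ G) [Mono φ]
    (hF : Coh.IsCoh F) (hG : Coh.IsCoh G) (ψ : cmp p hp F ⟶ cmp p hp G)
    (hψ : ∀ k, ψ.app k = (Scheme.Modules.pullback (p k)).map φ) :
    Mono (FSch.ModSys.realModMap h ψ) := by
  refine mono_of_appS_injective _ fun T y hy => ?_
  obtain ⟨S, hS, hS'⟩ := exists_cover_of_nhds (U := T)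
    (fun V => ∃ U : X.Opens, IsAffineOpen U ∧ p 0 ⁻¹ᵁ U = V) fun x hx => by
    obtain ⟨O, hO, hOT⟩ := (p 0).isClosedEmbedding.isInducing.isOpen_iff.mp T.isOpen
    obtain ⟨_, ⟨U, hU, rfl⟩, hxU, hUO⟩ := X.isBasis_affineOpens.exists_subset_of_mem_open
      (show p 0 x ∈ O from hOT.ge hx) hO
    exact ⟨p 0 ⁻¹ᵁ U, hxU, fun z hz => hOT.le (hUO hz), U, hU, rfl⟩
  refine eq_zero_of_locally _ hS y fun V' g hg => ?_
  obtain ⟨V, hV'V, hVT, U, hU, rfl⟩ := hS' g hg
  rw [show g = homOfLE hV'V ≫ homOfLE hVT from Subsingleton.elim _ _, map_val_comp]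
  suffices h0 : rs ((cmp p hp F).realMod h) (homOfLE hVT) y = 0 by
    rw [h0, map_zero]
  let x := rs ((cmp p hp F).realMod h) (homOfLE hVT) y
  haveI : IsNoetherianRing Γ(X, U) := IsLocallyNoetherian.component_noetherian ⟨U, hU⟩
  haveI := hF.1
  haveI := hF.2
  haveI := hG.1
  haveI := hG.2
  haveI : Module.Finite Γ(X, U) Γ(G, U) := QCoh.finite_sections_of_isFiniteType G hU
  let fU : Γ(F, U) →ₗ[Γ(X, U)] Γ(G, U) :=
    { toFun := φ.app U, map_add' := map_add _, map_smul' := fun c m => Scheme.Modules.Hom.app_smul φ c m }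
  have hinj : Function.Injective fU := QCoh.app_injective_of_mono φ U
  obtain ⟨c, hc⟩ := (𝓘.ideal ⟨U, hU⟩).exists_pow_inf_eq_pow_smul (LinearMap.range fU)
  have hx : ∀ k, ((Scheme.Modules.pullback (p k)).map φ).app (𝔛.lvU h k (p 0 ⁻¹ᵁ U))
      (prj h (cmp p hp F) k _ x) = 0 := fun k => by
    have h1 : appS (FSch.ModSys.realModMap h ψ) (p 0 ⁻¹ᵁ U) x = 0 := by
      show appS _ _ (rs _ _ y) = 0
      rw [appS_res, hy, map_zero]
    have h2 := congrArg (fun t => t.val.app (op (p 0 ⁻¹ᵁ U)) x)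
      (FSch.realLimMap_realProj 𝔛 h ψ.app (FSch.ModSys.Hom.toPush_comm ψ) k)
    rw [← hψ k]
    exact (h2.symm.trans (congrArg (prj h (cmp p hp G) k (p 0 ⁻¹ᵁ U)) h1)).trans (map_zero _)
  refine (exists_isLimit_realMod h (cmp p hp F) _).1 x fun j => ?_
  obtain ⟨m, hm⟩ := (level_spec h 𝓘 p hp hkerp hF hU (j + c)).1 (prj h (cmp p hp F) (j + c) _ x)
  have hmem : m ∈ (𝓘.ideal ⟨U, hU⟩ ^ (j + 1) • ⊤ : Submodule Γ(X, U) Γ(F, U)) := by
    have h1 : fU m ∈ (𝓘.ideal ⟨U, hU⟩ ^ (j + c + 1) • ⊤ : Submodule Γ(X, U) Γ(G, U)) ⊓ LinearMap.range fU := by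
      refine ⟨((level_spec h 𝓘 p hp hkerp hG hU (j + c)).2 _).1 ?_, ⟨m, rfl⟩⟩
      show etaL h p hp G (j + c) _ (φ.app U m) = 0
      rw [← etaL_map]
      exact (congrArg _ hm).trans (hx (j + c))
    rw [hc (j + c + 1) (by omega), show j + c + 1 - c = j + 1 by omega] at h1
    have h3 := SetLike.le_def.1 (smul_mono_right _ inf_le_right) h1
    rw [show LinearMap.range fU = (⊤ : Submodule Γ(X, U) Γ(F, U)).map fU from (Submodule.map_top _).symm,
      ← Submodule.map_smul''] at h3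
    obtain ⟨m', hm', e⟩ := h3
    rwa [← hinj e]
  have hdown : ∀ i, prj h (cmp p hp F) (j + i) _ x = etaL h p hp F (j + i) (le_refl _) m →
      prj h (cmp p hp F) j _ x = etaL h p hp F j (le_refl _) m := by
    intro i
    induction i with
    | zero => exact id
    | succ i ih =>
      intro hi
      refine ih ?_
      refine (tr_prj h (cmp p hp F) (j + i) _ x).symm.trans ?_
      refine (congrArg (tr h (cmp p hp F) (j + i) _) hi).trans ?_
      exact tr_etaL h p hp F (j + i) (le_refl _) m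
  rw [hdown c hm.symm]
  exact ((level_spec h 𝓘 p hp hkerp hF hU j).2 m).2 hmem

include hkerp in
theorem shortExact_of_shortExact (hN : 𝔛.IsLocNoethFormal) [IsLocallyNoetherian X] (S : ShortComplex X.Modules)
    (hS : S.ShortExact) (h1 : Coh.IsCoh S.X₁) (h2 : Coh.IsCoh S.X₂) (h3 : Coh.IsCoh S.X₃)
    (ψf : cmp p hp S.X₁ ⟶ cmp p hp S.X₂) (hψf : ∀ k, ψf.app k = (Scheme.Modules.pullback (p k)).map S.f)
    (ψg : cmp p hp S.X₂ ⟶ cmp p hp S.X₃) (hψg : ∀ k, ψg.app k = (Scheme.Modules.pullback (p k)).map S.g) :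
    FSch.ModSys.realModMap h ψf ≫ FSch.ModSys.realModMap h ψg = 0 ∧
      ∀ w : FSch.ModSys.realModMap h ψf ≫ FSch.ModSys.realModMap h ψg = 0,
        (ShortComplex.mk _ _ w).ShortExact := by
  let f := tsm h p hp
  haveI := hS.mono_f
  haveI := hS.epi_g
  haveI hi1 := isIso_toCompleted h p hp hN h1
  haveI hi2 := isIso_toCompleted h p hp hN h2
  haveI hi3 := isIso_toCompleted h p hp hN h3
  haveI : f.pull.IsLeftAdjoint := f.adj.isLeftAdjoint
  haveI : f.pull.Additive := f.adj.left_adjoint_additive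
  have nf := toCompleted_naturality h p hp S.f ψf hψf
  have ng := toCompleted_naturality h p hp S.g ψg hψg
  have hz : f.pull.map S.f ≫ f.pull.map S.g = 0 :=
    (f.pull.map_comp _ _).symm.trans ((congrArg f.pull.map S.zero).trans (f.pull.map_zero _ _))
  have w0 : FSch.ModSys.realModMap h ψf ≫ FSch.ModSys.realModMap h ψg = 0 := by
    refine (cancel_epi (toCompleted h p hp S.X₁)).1 (Eq.trans ?_ comp_zero.symm)
    refine (Category.assoc _ _ _).symm.trans ?_
    refine (congrArg (· ≫ FSch.ModSys.realModMap h ψg) nf).trans ?_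
    refine (Category.assoc _ _ _).trans ((congrArg (f.pull.map S.f ≫ ·) ng).trans ?_)
    exact (Category.assoc _ _ _).symm.trans ((congrArg (· ≫ toCompleted h p hp S.X₃) hz).trans zero_comp)
  refine ⟨w0, fun w => ?_⟩
  let P : X.Modules ⥤ _ := f.pull
  haveI : P.IsLeftAdjoint := ‹f.pull.IsLeftAdjoint›
  haveI : P.Additive := ‹f.pull.Additive›
  have hg' : Epi (P.map S.g) := inferInstance
  have hex : (S.map P).Exact :=
    hS.exact.map_of_epi_of_preservesCokernel P inferInstance inferInstance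
  let e : S.map P ≅ ShortComplex.mk _ _ w :=
    ShortComplex.isoMk (@asIso _ _ _ _ _ hi1) (@asIso _ _ _ _ _ hi2) (@asIso _ _ _ _ _ hi3) nf ng
  have hmono := mono_realModMap_of_mono h 𝓘 p hp hkerp S.f h1 h2 ψf hψf
  have hepi : Epi (FSch.ModSys.realModMap h ψg) := by
    have : Epi (toCompleted h p hp S.X₂ ≫ FSch.ModSys.realModMap h ψg) := by
      rw [ng]
      exact @epi_comp _ _ _ _ _ _ hg' _ inferInstance
    exact epi_of_epi (toCompleted h p hp S.X₂) _
  exact { exact := (ShortComplex.exact_iff_of_iso e).1 hex, mono_f := hmono, epi_g := hepi }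

/-- Completion of coherent modules along a closed subscheme is exact. -/
theorem shortExact_completion {X : Scheme.{u}} [IsLocallyNoetherian X] (𝓘 : X.IdealSheafData)
    (h : (FSch.completionAlong X 𝓘).IsFormal) (S : ShortComplex X.Modules) (hS : S.ShortExact)
    (h1 : Coh.IsCoh S.X₁) (h2 : Coh.IsCoh S.X₂) (h3 : Coh.IsCoh S.X₃) :
    FSch.ModSys.realModMap h (FSch.complModMap 𝓘 S.f) ≫ FSch.ModSys.realModMap h (FSch.complModMap 𝓘 S.g) = 0 ∧
      ∀ w : FSch.ModSys.realModMap h (FSch.complModMap 𝓘 S.f) ≫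
          FSch.ModSys.realModMap h (FSch.complModMap 𝓘 S.g) = 0,
        (ShortComplex.mk _ _ w).ShortExact := by
  haveI : ∀ n, IsClosedImmersion (FSch.completionToX X 𝓘 n) := fun n =>
    inferInstanceAs (IsClosedImmersion (𝓘 ^ (n + 1)).subschemeι)
  exact shortExact_of_shortExact h 𝓘 (FSch.completionToX X 𝓘) (FSch.completionToX_comm X 𝓘)
    (fun n => Scheme.IdealSheafData.ker_subschemeι _) (Adic.ComplAlong.isLocNoethFormal 𝓘) S hS h1 h2 h3
    (FSch.complModMap 𝓘 S.f) (fun _ => rfl) (FSch.complModMap 𝓘 S.g) (fun _ => rfl)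

end Groth.Agent.FFormal
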