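import Groth.Agent.FFormal.Iso
import Groth.Agent.FComplAff.Trans

/-!
# The inverse image of a coherent module to a formal scheme over a scheme is its completion
-/

set_option autoImplicit false
set_option linter.style.haveILetI false
set_option linter.dupNamespace false

universe u

open CategoryTheory CategoryTheory.Limits AlgebraicGeometry Opposite TopologicalSpace ModSite

namespace Groth.Agent.FFormal

open Groth.Agent.QCoh (res rres res_res res_smul app_res)
open Groth.Agent.ModFlat (rs map_val_smul map_val_comp map_ring_comp)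
open Groth.Agent.PullFlat (appS appS_res appS_comp etaS pl rs_id exists_cover_bind)
open Groth.Agent.LocPres

/-- Sections of the inverse image of a presented module. -/
theorem presOn_pullback {Z X : Scheme.{u}} (f : Z ⟶ X) (F : X.Modules) [F.IsQuasicoherent] {U : X.Opens}
    (hU : IsAffineOpen U) {n m : ℕ} {s : Fin n → Γ(F, U)} {r : Fin m → Fin n → Γ(X, U)} (P : PresOn F U s r)
    {V : Z.Opens} (hV : IsAffineOpen V) (hVU : V ≤ f ⁻¹ᵁ U) :
    PresOn ((Scheme.Modules.pullback f).obj F) V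
      (fun i => res ((Scheme.Modules.pullback f).obj F) hVU
        (((Scheme.Modules.pullbackPushforwardAdjunction f).unit.app F).app U (s i)))
      (fun j i => f.appLE U V hVU (r j i)) := by
  obtain ⟨hrel, hgen, hrelgen⟩ := P.exists_locPres hU
  let L : LocPres (O := X.sheaf) F U :=
    { n := n, m := m, s := s, r := r, rel := hrel, gen := hgen, relgen := hrelgen }
  let b : V ⟶ (RMor.ofScheme f).fn.obj U := homOfLE hVU
  let Q := pullPres (RMor.ofScheme f) L b
  haveI : ((Scheme.Modules.pullback f).obj F).IsQuasicoherent := QCoh.isQuasicoherent_pullback f F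
  refine presOn_of_local _ hV _ _ (fun j => ?_) (fun x y hy => ?_) (fun c hc y hy => ?_)
  · refine Eq.trans ?_ (Q.rel j)
    exact Finset.sum_congr rfl fun i _ => rfl
  · obtain ⟨S, hS, hS'⟩ := Q.gen (𝟙 _) x
    obtain ⟨W, g, hg, hyW⟩ := hS y hy
    obtain ⟨c, hc⟩ := hS' g hg
    refine ⟨W, g.le, hyW, c, Eq.trans (Finset.sum_congr rfl fun i _ => ?_) hc⟩
    rw [Category.comp_id]
    rfl
  · obtain ⟨S, hS, hS'⟩ := Q.relgen (𝟙 _) c (by
      refine Eq.trans (Finset.sum_congr rfl fun i _ => ?_) hc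
      rw [rs_id]
      rfl)
    obtain ⟨W, g, hg, hyW⟩ := hS y hy
    obtain ⟨d, hd⟩ := hS' g hg
    refine ⟨W, g.le, hyW, d, fun i => (hd i).trans (Finset.sum_congr rfl fun j _ => congrArg (d j * ·) ?_)⟩
    rw [Category.comp_id]
    rfl

variable {𝔛 : FSch.Sys.{u}} {h : 𝔛.IsFormal}

/-- Elements presented on all levels over the affine opens below `W` present the limit. -/
theorem exists_locPres_of_levels (hN : 𝔛.IsLocNoethFormal) {𝔐 : FSch.ModSys 𝔛} (hM : 𝔐.IsCoh)
    {W : (𝔛.X 0).Opens} {n m : ℕ} (t : Fin n → sect (𝔐.realMod h) W) (r : Fin m → Fin n → Rg h W)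
    (hrel : ∀ j, ∑ i, r j i • t i = 0)
    (hlev : ∀ {V : (𝔛.X 0).Opens}, IsAffineOpen V → ∀ (g : V ⟶ W) (k : ℕ), PresOn (𝔐.F k) (𝔛.lvU h k V)
      (fun i => prj h 𝔐 k V (rs (𝔐.realMod h) g (t i))) (fun j i => pr h k V (rsR h g.le (r j i)))) :
    ∃ Q : LocPres (𝔐.realMod h) W, ∃ (e : Fin Q.n = Fin n) (e' : Fin Q.m = Fin m),
      (∀ i, Q.s i = t (cast e i)) ∧ ∀ j i, Q.r j i = r (cast e' j) (cast e i) := by
  have hV : ∀ {V : (𝔛.X 0).Opens}, IsAffineOpen V → ∀ g : V ⟶ W,
      (∀ x, x ∈ Submodule.span (Rg h V) (Set.range fun i => rs (𝔐.realMod h) g (t i))) ∧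
      ∀ c : Fin n → Rg h V, ∑ i, c i • rs (𝔐.realMod h) g (t i) = 0 →
        c ∈ Submodule.span (Rg h V) (Set.range fun j i => rsR h g.le (r j i)) := by
    intro V hV g
    obtain ⟨-, -, -, hgen⟩ := sections_spec (h := h) (𝔐 := 𝔐) hN hM hV
    exact ⟨hgen _ (hlev hV g 0).gen, mem_span_of_levels hN hV _ _ (hlev hV g)⟩
  refine ⟨{ n := n, m := m, s := t, r := r, rel := hrel
            gen := fun {T} a x => ?_, relgen := fun {T} a c hc => ?_ }, rfl, rfl, fun i => rfl, fun j i => rfl⟩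
  all_goals
    obtain ⟨S, hS, hS'⟩ := exists_cover_affine (𝔛 := 𝔛) T
    refine ⟨S, hS, fun V g hg => ?_⟩
    obtain ⟨V', hVV', hV'T, hV'⟩ := hS' g hg
    obtain ⟨hgW, hrW⟩ := hV hV' (homOfLE hV'T ≫ a)
  · obtain ⟨d, hd⟩ := Submodule.mem_span_range_iff_exists_fun _ |>.1 (hgW (rs _ (homOfLE hV'T) x))
    refine ⟨fun i => rsR h hVV' (d i), ?_⟩
    have := congrArg (rs (𝔐.realMod h) (homOfLE hVV')) hd
    rw [rs_sum_smul] at this
    simp only [← map_val_comp] at this
    exact this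
  · have h1 := congrArg (rs (𝔐.realMod h) (homOfLE hV'T)) hc
    rw [rs_sum_smul, map_zero] at h1
    simp only [← map_val_comp] at h1
    obtain ⟨d, hd⟩ := Submodule.mem_span_range_iff_exists_fun _ |>.1 (hrW _ h1)
    refine ⟨fun j => rsR h hVV' (d j), fun i => ?_⟩
    have := congrArg (rsR h hVV') (congrFun hd i)
    simp only [Finset.sum_apply, Pi.smul_apply, smul_eq_mul, map_sum, map_mul, rsR_rsR] at this
    exact (rsR_rsR hVV' hV'T (c i)).symm.trans this.symm

section ToScheme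

variable (h) {Y : Scheme.{u}} (p : ∀ n, 𝔛.X n ⟶ Y) (hp : ∀ n, 𝔛.ι n ≫ p (n + 1) = p n)

/-- The system of inverse images of a module on the scheme. -/
noncomputable def cmp (F : Y.Modules) : FSch.ModSys 𝔛 where
  F n := (Scheme.Modules.pullback (p n)).obj F
  e n := (FComplAff.Trans.transIso (𝔛.ι n) (p (n + 1)) (hp n)).app F

/-- The morphism of ringed spaces to the scheme. -/
noncomputable abbrev tsm : RMor (𝔛.Osh h) Y.sheaf := FSch.toSchemeMor 𝔛 h p hp

/-- Sections of the unit at a level, over an open inside the preimage. -/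
noncomputable def etaL (F : Y.Modules) (k : ℕ) {U : Y.Opens} {V : (𝔛.X 0).Opens} (hVU : V ≤ p 0 ⁻¹ᵁ U)
    (x : Γ(F, U)) : WS h (cmp p hp F) k V :=
  res ((cmp p hp F).F k) ((lvU_mono h k hVU).trans (FSch.lvU_p 𝔛 h p hp k U).ge)
    (((Scheme.Modules.pullbackPushforwardAdjunction (p k)).unit.app F).app U x)

theorem tr_etaL (F : Y.Modules) (k : ℕ) {U : Y.Opens} {V : (𝔛.X 0).Opens} (hVU : V ≤ p 0 ⁻¹ᵁ U)
    (x : Γ(F, U)) :
    tr h (cmp p hp F) k V (etaL h p hp F (k + 1) hVU x) = etaL h p hp F k hVU x := by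
  have key := FComplAff.Trans.unit_T_transIso (𝔛.ι k) (p (k + 1)) (hp k) F
  have key' := congrArg (fun φ => (Scheme.Modules.Hom.app φ U) x) key
  show res ((cmp p hp F).F k) (𝔛.lvU_le h k V) (((cmp p hp F).toPush k).app _ (etaL h p hp F (k + 1) hVU x)) = _
  rw [etaL, etaL, app_res ((cmp p hp F).toPush k), ← key']
  rw [FComplAff.Trans.T]
  simp only [Scheme.Modules.Hom.comp_app, ConcreteCategory.comp_apply, Scheme.Modules.pushforwardComp_hom_app_app,
    Scheme.Modules.pushforwardCongr_hom_app_app]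
  show ((cmp p hp F).F k).presheaf.map _ (((cmp p hp F).F k).presheaf.map _ _) =
    ((cmp p hp F).F k).presheaf.map _ (((cmp p hp F).F k).presheaf.map _ _)
  rw [← ConcreteCategory.comp_apply, ← ConcreteCategory.comp_apply, ← Functor.map_comp, ← Functor.map_comp]
  rfl

/-- The cone of the units. -/
noncomputable def schUnitCone (F : Y.Modules) :
    Cone (FSch.levelSysOf 𝔛 h (cmp p hp F).F (cmp p hp F).toPush ⋙ (tsm h p hp).push) where
  pt := F
  π := NatTrans.ofOpSequence (fun k => (Scheme.Modules.pullbackPushforwardAdjunction (p k)).unit.app F ≫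
      (FSch.schPushCompare 𝔛 h p hp k).app _) fun k => by
    simp only [Functor.const_obj_obj, Functor.const_obj_map, Category.id_comp, Functor.comp_map]
    rw [FSch.levelSysOf_map_succ]
    refine SheafOfModules.hom_ext (PresheafOfModules.hom_ext fun U => ModuleCat.hom_ext (LinearMap.ext fun x => ?_))
    exact (tr_etaL h p hp F k (U := U.unop) (le_refl (p 0 ⁻¹ᵁ U.unop)) x).symm

/-- Pushing forward preserves the limit defining the module of a system. -/
noncomputable def isLimitPushReal (𝔐 : FSch.ModSys 𝔛) :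
    IsLimit ((tsm h p hp).push.mapCone (limit.cone (FSch.levelSysOf 𝔛 h 𝔐.F 𝔐.toPush))) :=
  haveI : (tsm h p hp).push.IsRightAdjoint := (tsm h p hp).adj.isRightAdjoint
  isLimitOfPreserves _ (limit.isLimit _)

/-- The adjoint of the comparison map. -/
noncomputable def toCompletedAdj (F : Y.Modules) : F ⟶ (tsm h p hp).push.obj ((cmp p hp F).realMod h) :=
  (isLimitPushReal h p hp (cmp p hp F)).lift (schUnitCone h p hp F)

theorem toCompletedAdj_proj (F : Y.Modules) (k : ℕ) :
    toCompletedAdj h p hp F ≫ (tsm h p hp).push.map (FSch.realProj 𝔛 h (cmp p hp F).F (cmp p hp F).toPush k) =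
      (Scheme.Modules.pullbackPushforwardAdjunction (p k)).unit.app F ≫
        (FSch.schPushCompare 𝔛 h p hp k).app _ :=
  (isLimitPushReal h p hp (cmp p hp F)).fac (schUnitCone h p hp F) (op k)

/-- The comparison map `p^* F ⟶ lim p_k^* F`. -/
noncomputable def toCompleted (F : Y.Modules) : (tsm h p hp).pull.obj F ⟶ (cmp p hp F).realMod h :=
  ((tsm h p hp).adj.homEquiv _ _).symm (toCompletedAdj h p hp F)

theorem prj_toCompletedAdj (F : Y.Modules) (k : ℕ) (U : Y.Opens) (x : Γ(F, U)) :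
    prj h (cmp p hp F) k (p 0 ⁻¹ᵁ U) (appS (O := Y.sheaf) (toCompletedAdj h p hp F) U x) =
      etaL h p hp F k (le_refl (p 0 ⁻¹ᵁ U)) x :=
  congrArg (fun φ => φ.val.app (op U) x) (toCompletedAdj_proj h p hp F k)

theorem pr_schSharp (k : ℕ) {U : Y.Opens} {V : (𝔛.X 0).Opens} (hVU : V ≤ p 0 ⁻¹ᵁ U) (a : Γ(Y, U)) :
    pr h k V (rsR h hVU ((FSch.schSharp 𝔛 h p hp).hom.app (op U) a)) =
      (p k).appLE U (𝔛.lvU h k V) ((lvU_mono h k hVU).trans (FSch.lvU_p 𝔛 h p hp k U).ge) a := by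
  rw [pr_rsR]
  have e := congrArg (fun φ => φ.hom.app (op U) a) (FSch.schSharp_proj 𝔛 h p hp k)
  have e' : pr h k (p 0 ⁻¹ᵁ U) ((FSch.schSharp 𝔛 h p hp).hom.app (op U) a) =
      (p k).appLE U (𝔛.lvU h k (p 0 ⁻¹ᵁ U)) (FSch.lvU_p 𝔛 h p hp k U).ge a := e
  rw [e']
  exact ConcreteCategory.congr_hom ((p k).appLE_map (FSch.lvU_p 𝔛 h p hp k U).ge
    (homOfLE (lvU_mono h k hVU)).op) a

theorem isCoh_cmp {F : Y.Modules} (hF : Coh.IsCoh F) : (cmp p hp F).IsCoh := fun k => by
  haveI := hF.1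
  haveI : SheafOfModules.IsFiniteType (R := ringSh Y.sheaf) F := hF.2
  exact ⟨QCoh.isQuasicoherent_pullback (p k) F, isFiniteType_pull (RMor.ofScheme (p k)) F⟩

theorem isIso_toCompleted (hN : 𝔛.IsLocNoethFormal) [IsLocallyNoetherian Y] {F : Y.Modules} (hF : Coh.IsCoh F) :
    IsIso (toCompleted h p hp F) := by
  let f := tsm h p hp
  haveI := hF.1
  haveI := hF.2
  refine isIso_of_pres (F := f.pull.obj F) (G := (cmp p hp F).realMod h) _ fun T => ?_
  obtain ⟨S, hS, hS'⟩ := exists_cover_of_nhds (U := T)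
    (fun V => ∃ U : Y.Opens, IsAffineOpen U ∧ V ≤ p 0 ⁻¹ᵁ U) fun x hx => by
    obtain ⟨_, ⟨U, hU, rfl⟩, hxU, -⟩ := Y.isBasis_affineOpens.exists_subset_of_mem_open
      (show p 0 x ∈ ((⊤ : Y.Opens) : Set Y) from trivial) isOpen_univ
    exact ⟨T ⊓ p 0 ⁻¹ᵁ U, ⟨hx, hxU⟩, inf_le_left, U, hU, inf_le_right⟩
  refine ⟨S, hS, fun V g hg => ?_⟩
  obtain ⟨V', hVV', -, U, hU, hV'U⟩ := hS' g hg
  have hVU : V ≤ p 0 ⁻¹ᵁ U := hVV'.trans hV'U
  obtain ⟨n, m, s, r, P⟩ := exists_presOn F hU
  obtain ⟨hrel, hgen, hrelgen⟩ := P.exists_locPres hU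
  let P' : LocPres (O := Y.sheaf) F U :=
    { n := n, m := m, s := s, r := r, rel := hrel, gen := hgen, relgen := hrelgen }
  let b : V ⟶ f.fn.obj U := homOfLE hVU
  let L := pullPres f P' b
  let t : Fin n → sect ((cmp p hp F).realMod h) V := fun i =>
    rs ((cmp p hp F).realMod h) b (appS (O := Y.sheaf) (toCompletedAdj h p hp F) U (s i))
  have hts : ∀ i, appS (toCompleted h p hp F) V (L.s i) = t i := fun i => by
    show appS _ V (rs (f.pull.obj F) b (etaS f F U (s i))) = _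
    rw [appS_res]
    exact congrArg (rs ((cmp p hp F).realMod h) b) (appS_homEquiv_symm f (toCompletedAdj h p hp F) U (s i))
  have hrelt : ∀ j, ∑ i, L.r j i • t i = 0 := fun j => by
    refine (Finset.sum_congr rfl fun i _ => congrArg (L.r j i • ·) (hts i).symm).trans ?_
    refine (appS_sum_smul (toCompleted h p hp F) (fun i => L.r j i) L.s).symm.trans ?_
    rw [L.rel j, map_zero]
  obtain ⟨Q, e, e', hQs, hQr⟩ := exists_locPres_of_levels hN (isCoh_cmp p hp hF) t L.r hrelt
    fun {V₂} hV₂ g₂ k => by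
      have hk : 𝔛.lvU h k V₂ ≤ p k ⁻¹ᵁ U :=
        (lvU_mono h k (g₂.le.trans hVU)).trans (FSch.lvU_p 𝔛 h p hp k U).ge
      have hs2 : ∀ i, prj h (cmp p hp F) k V₂ (rs _ g₂ (t i)) =
          etaL h p hp F k (g₂.le.trans hVU) (s i) := fun i => by
        have e1 : rs ((cmp p hp F).realMod h) g₂ (t i) = rs ((cmp p hp F).realMod h) (homOfLE (g₂.le.trans hVU))
            (appS (O := Y.sheaf) (toCompletedAdj h p hp F) U (s i)) := (map_val_comp g₂ b _).symm
        rw [e1]
        refine (prj_rs h (cmp p hp F) k (g₂.le.trans hVU) _).trans ?_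
        rw [prj_toCompletedAdj, etaL, res_res]
        rfl
      have hr2 : ∀ j i, pr h k V₂ (rsR h g₂.le (L.r j i)) = (p k).appLE U (𝔛.lvU h k V₂) hk (r j i) := fun j i => by
        refine Eq.trans ?_ (pr_schSharp h p hp k (g₂.le.trans hVU) (r j i))
        exact congrArg (pr h k V₂) (rsR_rsR g₂.le hVU _)
      have hP := presOn_pullback (p k) F hU P (isAffineOpen_lvU h k hV₂) hk
      refine Eq.mpr ?_ hP
      congr 1
      · exact funext hs2
      · exact funext fun j => funext fun i => hr2 j i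
  refine ⟨L.toGen, Q, e, fun i => ?_, fun j => ?_⟩
  · exact (hts _).trans (hQs i).symm
  · refine Eq.trans ?_ (L.rel (cast e' j))
    refine Fintype.sum_equiv (Equiv.cast e) _ _ fun i => ?_
    rw [hQr]
    rfl

theorem toCompletedAdj_naturality {F G : Y.Modules} (φ : F ⟶ G) (ψ : cmp p hp F ⟶ cmp p hp G)
    (hψ : ∀ k, ψ.app k = (Scheme.Modules.pullback (p k)).map φ) :
    toCompletedAdj h p hp F ≫ (tsm h p hp).push.map (FSch.ModSys.realModMap h ψ) =
      φ ≫ toCompletedAdj h p hp G := by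
  refine (isLimitPushReal h p hp (cmp p hp G)).hom_ext fun j => ?_
  obtain ⟨k⟩ := j
  show (toCompletedAdj h p hp F ≫ (tsm h p hp).push.map (FSch.ModSys.realModMap h ψ)) ≫
      (tsm h p hp).push.map (FSch.realProj 𝔛 h (cmp p hp G).F (cmp p hp G).toPush k) =
    (φ ≫ toCompletedAdj h p hp G) ≫
      (tsm h p hp).push.map (FSch.realProj 𝔛 h (cmp p hp G).F (cmp p hp G).toPush k)
  refine (Category.assoc _ _ _).trans (Eq.trans ?_ (Category.assoc _ _ _).symm)
  rw [toCompletedAdj_proj]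
  have h1 : FSch.ModSys.realModMap h ψ ≫ FSch.realProj 𝔛 h (cmp p hp G).F (cmp p hp G).toPush k =
      FSch.realProj 𝔛 h (cmp p hp F).F (cmp p hp F).toPush k ≫ (FSch.levelMor 𝔛 h k).push.map (ψ.app k) :=
    FSch.realLimMap_realProj 𝔛 h ψ.app (FSch.ModSys.Hom.toPush_comm ψ) k
  refine (congrArg (toCompletedAdj h p hp F ≫ ·)
    (((tsm h p hp).push.map_comp _ _).symm.trans ((congrArg (tsm h p hp).push.map h1).trans
      ((tsm h p hp).push.map_comp _ _)))).trans ?_
  refine (Category.assoc _ _ _).symm.trans ?_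
  refine (congrArg (· ≫ _) (toCompletedAdj_proj h p hp F k)).trans ?_
  refine (Category.assoc _ _ _).trans ?_
  refine (congrArg (_ ≫ ·) ((FSch.schPushCompare 𝔛 h p hp k).naturality (ψ.app k)).symm).trans ?_
  rw [hψ k]
  refine (Category.assoc _ _ _).symm.trans ?_
  refine (congrArg (· ≫ _)
    ((Scheme.Modules.pullbackPushforwardAdjunction (p k)).unit.naturality φ).symm).trans ?_
  exact Category.assoc _ _ _

theorem toCompleted_naturality {F G : Y.Modules} (φ : F ⟶ G) (ψ : cmp p hp F ⟶ cmp p hp G)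
    (hψ : ∀ k, ψ.app k = (Scheme.Modules.pullback (p k)).map φ) :
    toCompleted h p hp F ≫ FSch.ModSys.realModMap h ψ = (tsm h p hp).pull.map φ ≫ toCompleted h p hp G := by
  apply ((tsm h p hp).adj.homEquiv _ _).injective
  rw [toCompleted, toCompleted, Adjunction.homEquiv_naturality_right, Adjunction.homEquiv_naturality_left,
    Equiv.apply_symm_apply, Equiv.apply_symm_apply]
  exact toCompletedAdj_naturality h p hp φ ψ hψ

end ToScheme

end Groth.Agent.FFormal
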