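import Groth.Agent.FFormal.Dimension
import Groth.Agent.EtCoprodGE.Generic
import Groth.Agent.QcSum.Mod
import Groth.Agent.QcSum.Space
import Groth.Agent.ModShf.Flasque
import Groth.Agent.CohDerLib.Compact.Site
import Groth.Agent.CohTop.Flasque

/-!
# Direct images and direct sums on Noetherian spaces
-/

set_option autoImplicit false
set_option linter.style.haveILetI false

universe u

open CategoryTheory CategoryTheory.Limits Opposite TopologicalSpace ModSite DerivedCategory DirectSum

attribute [local instance] HasDerivedCategory.standard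

namespace Groth.Agent.FFormal.CoprodPush

open Groth.Agent.ModFlat (rs map_val_comp)
open Groth.Agent.PullFlat (appS appS_res eq_zero_of_locally mono_of_appS_injective)

section Sections

variable {X : TopCat.{u}} {O : Sheaf (Opens.grothendieckTopology X) CommRingCat.{u}}

/-- Sections over `W`. -/
noncomputable abbrev secFun (O : Sheaf (Opens.grothendieckTopology X) CommRingCat.{u}) (W : Opens X) :
    Mod O ⥤ AddCommGrpCat.{u} :=
  SheafOfModules.toSheaf (ModSite.ringSh O) ⋙
    (sheafSections (Opens.grothendieckTopology X) AddCommGrpCat.{u}).obj (op W)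

open scoped Classical in
/-- Sections of a direct sum over a compact open are the direct sum of the sections. -/
theorem bijective_sum {W : Opens X} (hW : IsCompact (W : Set X)) {ι : Type u} (M : ι → Mod O)
    (c : Cofan M) (hc : IsColimit c) :
    Function.Bijective (DirectSum.toAddMonoid (fun i => ((secFun O W).map (c.inj i)).hom) :
      (⨁ i, (secFun O W).obj (M i)) →+ (secFun O W).obj c.pt) := by
  have := QcSum.preservesColimitsOfShape_sections (O := O) (QcSum.isQCSite_of_isCompact hW) ι
  exact CohDerLib.Compact.bijective_of_isColimit (Cofan.mk ((secFun O W).obj c.pt) fun i => (secFun O W).map (c.inj i))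
    (isColimitCofanMkObjOfIsColimit (secFun O W) M _ (hc.ofIsoColimit (Cocone.ext (Iso.refl _) (by intro j; simp; rfl))))

open scoped Classical in
/-- Restriction is surjective on direct sums of modules with this property. -/
theorem surjective_res {ι : Type u} (M : ι → Mod O) (hM : ∀ i {V U : Opens X} (g : V ⟶ U),
      Function.Surjective (rs (M i) g))
    (c : Cofan M) (hc : IsColimit c) (hX : ∀ W : Opens X, IsCompact (W : Set X)) {V U : Opens X} (g : V ⟶ U) :
    Function.Surjective (rs c.pt g) := by
  intro s
  obtain ⟨w, rfl⟩ := (bijective_sum (hX V) M c hc).2 s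
  induction w using DirectSum.induction_on with
  | zero => exact ⟨0, (map_zero _).trans (map_zero _).symm⟩
  | of i z =>
    obtain ⟨z', rfl⟩ := hM i g z
    refine ⟨((secFun O U).map (c.inj i)).hom z', ?_⟩
    exact (appS_res (c.inj i) g z').symm.trans (DirectSum.toAddMonoid_of (fun i => ((secFun O V).map (c.inj i)).hom) i
      (rs (M i) g z')).symm
  | add a b ha hb =>
    obtain ⟨a', ha'⟩ := ha
    obtain ⟨b', hb'⟩ := hb
    exact ⟨a' + b', (map_add _ _ _).trans ((congrArg₂ (· + ·) ha' hb').trans (map_add _ _ _).symm)⟩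

/-- Direct sums of injective modules on a Noetherian space have no higher cohomology. -/
theorem subsingleton_HU_sum (hX : ∀ W : Opens X, IsCompact (W : Set X)) {ι : Type u} (M : ι → Mod O)
    (hM : ∀ i, Injective (M i)) (c : Cofan M) (hc : IsColimit c) (p : ℕ) (hp : 0 < p) (W : Opens X) :
    Subsingleton (ModSite.HU O c.pt p W) := by
  obtain ⟨j, rfl⟩ := Nat.exists_eq_succ_of_ne_zero hp.ne'
  have : TopCat.Sheaf.IsFlasque (X := X) (toAb c.pt) := ModShf.isFlasque_of_surjective (X := X) (toAb c.pt)
    fun {V U} g => surjective_res M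
      (fun i {V U} g => @ModShf.surjective_map_of_injective _ _ _ (ModSite.ringSh O) (M i) (hM i) _ _ g _) c hc hX g
  exact CohTop.Flasque.HU_subsingleton (toAb c.pt) j W

end Sections

variable {X Y : TopCat.{u}} {O : Sheaf (Opens.grothendieckTopology X) CommRingCat.{u}}
  {O' : Sheaf (Opens.grothendieckTopology Y) CommRingCat.{u}} (f : RMor O O')
  (hX : ∀ W : Opens X, IsCompact (W : Set X)) (B : Set (Opens Y))
  (hB : ∀ U : Opens Y, ∃ (ι : Type u) (Z : ι → Opens Y) (g : ∀ i, Z i ⟶ U),
    Sieve.ofArrows Z g ∈ Opens.grothendieckTopology Y U ∧ ∀ i, Z i ∈ B)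
  (hBc : ∀ W ∈ B, IsCompact (W : Set Y))

include hX hB hBc in
open scoped Classical in
/-- The direct image commutes with direct sums. -/
theorem preservesCoproducts_push (ι : Type u) [HasColimitsOfShape (Discrete ι) (Mod O)]
    [HasColimitsOfShape (Discrete ι) (Mod O')] : PreservesColimitsOfShape (Discrete ι) f.push := by
  suffices key : ∀ M : ι → Mod O, PreservesColimit (Discrete.functor M) f.push from
    ⟨fun {K} => @preservesColimit_of_iso_diagram _ _ _ _ _ _ _ _ f.push Discrete.natIsoFunctor.symm
      (key fun i => K.obj ⟨i⟩)⟩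
  intro M
  let φ := sigmaComparison f.push M
  let d : Cofan (fun i => f.push.obj (M i)) := Cofan.mk (∐ fun i => f.push.obj (M i)) (Sigma.ι _)
  let c : Cofan M := Cofan.mk (∐ M) (Sigma.ι M)
  have hW : ∀ W ∈ B, Function.Bijective (appS φ W) := fun W hW => by
    have b₁ := bijective_sum (O := O') (hBc W hW) _ d (coproductIsCoproduct _)
    have b₂ := bijective_sum (O := O) (hX (f.fn.obj W)) M c (coproductIsCoproduct M)
    have hcomm : ∀ w, appS φ W (DirectSum.toAddMonoid (fun i => ((secFun O' W).map (d.inj i)).hom) w) =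
        DirectSum.toAddMonoid (fun i => ((secFun O (f.fn.obj W)).map (c.inj i)).hom) w := fun w => by
      induction w using DirectSum.induction_on with
      | zero => exact ((congrArg (appS φ W) (map_zero _)).trans (map_zero (appS φ W))).trans (map_zero _).symm
      | of i z =>
        exact (congrArg (appS φ W) (DirectSum.toAddMonoid_of (fun i => ((secFun O' W).map (d.inj i)).hom) i z)).trans
          ((congrArg (fun t => appS t W z) (ι_comp_sigmaComparison f.push M i)).trans
            (DirectSum.toAddMonoid_of (fun i => ((secFun O (f.fn.obj W)).map (c.inj i)).hom) i z).symm)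
      | add a b ha hb =>
        exact ((congrArg (appS φ W) (map_add _ a b)).trans (map_add (appS φ W) _ _)).trans
          ((congrArg₂ (· + ·) ha hb).trans (map_add _ a b).symm)
    refine ⟨fun a b hab => ?_, fun z => ?_⟩
    · obtain ⟨a, rfl⟩ := b₁.2 a
      obtain ⟨b, rfl⟩ := b₁.2 b
      exact congrArg _ (b₂.1 ((hcomm a).symm.trans (hab.trans (hcomm b))))
    · obtain ⟨w, hw⟩ := b₂.2 z
      exact ⟨_, (hcomm w).trans hw⟩
  have : Mono φ := mono_of_appS_injective φ fun U x hx => by
    obtain ⟨J, Z, g, hg, hgB⟩ := hB U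
    refine eq_zero_of_locally _ hg x fun V k hk => ?_
    obtain ⟨j, b, rfl⟩ := (Sieve.mem_ofArrows_iff _ _ k).1 hk
    rw [map_val_comp, (hW _ (hgB j)).1 (show appS φ (Z j) (rs _ (g j) x) = appS φ (Z j) 0 by
      rw [appS_res, hx, map_zero, map_zero]), map_zero]
  have : Epi φ := SitePull.epi_of_locally_surjective φ fun U x => by
    obtain ⟨J, Z, g, hg, hgB⟩ := hB U
    refine ⟨_, hg, fun V k hk => ?_⟩
    obtain ⟨j, b, rfl⟩ := (Sieve.mem_ofArrows_iff _ _ k).1 hk
    obtain ⟨y, hy⟩ := (hW _ (hgB j)).2 (rs _ (g j) x)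
    exact ⟨rs _ b y, by rw [appS_res, hy, map_val_comp]⟩
  have : IsIso (sigmaComparison f.push M) := isIso_of_mono_of_epi φ
  exact PreservesCoproduct.of_iso_comparison f.push M

include hX in
/-- Direct sums of injectives are acyclic for the direct image. -/
theorem acy_sum [SiteCmp.HasRpushD f] [HasInjectiveResolutions (Mod O)] [IsGrothendieckAbelian.{u} (Mod O)]
    {ι : Type u} [HasColimitsOfShape (Discrete ι) (Mod O)] (M : ι → Mod O) (hM : ∀ i, Injective (M i)) :
    CohDerLib.Acyclic.Acy f.push (∐ M) := fun p hp => by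
  obtain ⟨e⟩ := SitePull.exists_iso_rightDerived f.push (∐ M) 0 p p (zero_add _)
  refine (SitePull.isZero_H_push f Set.univ (fun U => ⟨PUnit, fun _ => U, fun _ => 𝟙 U, ?_, fun _ => trivial⟩)
    (∐ M) p (by omega) fun V _ q hq => subsingleton_HU_sum hX M hM (Cofan.mk _ (Sigma.ι M))
      (coproductIsCoproduct M) q hq _).of_iso e.symm
  exact fun x hx => ⟨U, 𝟙 U, Sieve.ofArrows_mk _ _ PUnit.unit, hx⟩

end Groth.Agent.FFormal.CoprodPush
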