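import Groth.Agent.FFormal.Bounds
import Groth.Agent.FFormal.CoprodPush
import Groth.Agent.DHA.Brown.Coprod
import Groth.Agent.KFlat.HomologyColim

/-!
# Derived direct images and coproducts on Noetherian formal schemes
-/

set_option autoImplicit false
set_option linter.style.haveILetI false

universe u

open CategoryTheory CategoryTheory.Limits Opposite TopologicalSpace ModSite DerivedCategory Pretriangulated
  AlgebraicGeometry

attribute [local instance] HasDerivedCategory.standard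

namespace Groth.Agent.FFormal.Coprod

/-- Cohomology commutes with coproducts in the derived category of a Grothendieck abelian category. -/
theorem preservesColimit_homology {A : Type (u + 1)} [Category.{u} A] [Abelian A] [IsGrothendieckAbelian.{u} A]
    {ι : Type u} [HasColimitsOfShape (Discrete ι) A] (K : ι → DerivedCategory A) (m : ℤ) :
    PreservesColimit (Discrete.functor K) (homologyFunctor A m) := by
  let C := fun i => Q.objPreimage (K i)
  obtain ⟨hc⟩ := EtCoprodGE.nonempty_isColimit_Q' C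
  let H := homologyFunctor A m
  let Hc := HomologicalComplex.homologyFunctor A (ComplexShape.up ℤ) m
  have h := isColimitCofanMkObjOfIsColimit Hc C _ (coproductIsCoproduct C)
  have : PreservesColimit (Discrete.functor fun i => Q.obj (C i)) H := by
    refine preservesColimit_of_preserves_colimit_cocone hc ?_
    refine (isColimitMapCoconeCofanMkEquiv H (fun i => Q.obj (C i)) _).symm ?_
    let w : Discrete.functor (fun i => Hc.obj (C i)) ≅ Discrete.functor fun i => H.obj (Q.obj (C i)) :=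
      Discrete.natIso fun i => ((homologyFunctorFactors A m).app (C i.as)).symm
    refine IsColimit.equivOfNatIsoOfIso w _ (Cofan.mk (H.obj (Q.obj (∐ C))) fun i => H.map (Q.map (Sigma.ι C i))) ?_ h
    exact (Cocone.ext ((homologyFunctorFactors A m).app _).symm (fun ⟨i⟩ => by
        dsimp
        rw [Category.assoc]
        dsimp [w]
        erw [(homologyFunctorFactors A m).inv.naturality (Sigma.ι C i)]
        exact Iso.hom_inv_id_app_assoc _ _ _))
  exact preservesColimit_of_iso_diagram H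
    (Discrete.natIso fun i => Q.objObjPreimageIso (K i.as) : (Discrete.functor fun i => Q.obj (C i)) ≅ Discrete.functor K)

variable {𝔛 𝔜 : FSch.Sys.{u}} (h𝔛 : 𝔛.IsLocNoethFormal) [CompactSpace (𝔛.X 0)] (h𝔜 : 𝔜.IsFormal)
  [CompactSpace (𝔜.X 0)] (f : 𝔛 ⟶ 𝔜) [SiteCmp.HasRpushD (FSch.homMor f h𝔛.1 h𝔜)]

include h𝔛 in
theorem isCompact_opens (W : (𝔛.X 0).Opens) : IsCompact (W : Set (𝔛.X 0)) := by
  haveI : IsLocallyNoetherian (𝔛.X 0) := h𝔛.2.2 0
  haveI : AlgebraicGeometry.IsNoetherian (𝔛.X 0) := {}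
  exact NoetherianSpace.isCompact _

include h𝔛 in
theorem preservesColimit_RpushD_of_isGE {ι : Type u} (K : ι → DerivedCategory (FSch.ModF 𝔛 h𝔛.1)) (n : ℤ)
    (hK : ∀ i, (K i).IsGE n) :
    PreservesColimit (Discrete.functor K) (SiteCmp.RpushD (FSch.homMor f h𝔛.1 h𝔜)) := by
  haveI : IsGrothendieckAbelian.{u} (FSch.ModF 𝔛 h𝔛.1) := ModShf.isGrothendieckAbelian _
  haveI : IsGrothendieckAbelian.{u} (FSch.ModF 𝔜 h𝔜) := ModShf.isGrothendieckAbelian _
  haveI : HasInjectiveResolutions (FSch.ModF 𝔛 h𝔛.1) := by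
    haveI : EnoughInjectives (FSch.ModF 𝔛 h𝔛.1) := IsGrothendieckAbelian.enoughInjectives
    infer_instance
  haveI := CoprodPush.preservesCoproducts_push (FSch.homMor f h𝔛.1 h𝔜) (isCompact_opens h𝔛)
    {W : (𝔜.X 0).Opens | IsAffineOpen W} (Amplitude.affine_basis _) (fun W hW => hW.isCompact) ι
  haveI : PreservesFiniteLimits (FSch.homMor f h𝔛.1 h𝔜).push :=
    haveI := (FSch.homMor f h𝔛.1 h𝔜).adj.rightAdjoint_preservesLimits
    inferInstance
  exact EtCoprodGE.preservesColimit_RF_of_isGE (FSch.homMor f h𝔛.1 h𝔜).push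
    (fun J hJ => CoprodPush.acy_sum (FSch.homMor f h𝔛.1 h𝔜) (isCompact_opens h𝔛) J hJ) K n hK

include h𝔛 in
theorem prop_sum {ι : Type u} (K : ι → DerivedCategory (FSch.ModF 𝔛 h𝔛.1)) [HasCoproduct K] (q : ℤ)
    (hK : ∀ i, IndP 𝔛 h𝔛.1 (SiteCmp.HMod (K i) q)) : IndP 𝔛 h𝔛.1 (SiteCmp.HMod (∐ K) q) := by
  haveI : IsGrothendieckAbelian.{u} (FSch.ModF 𝔛 h𝔛.1) := ModShf.isGrothendieckAbelian _
  haveI := preservesColimit_homology K q
  haveI := isClosedUnderColimitsOfShape_indP (h := h𝔛.1) h𝔛 (Discrete ι)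
  exact ObjectProperty.prop_of_isColimit (IndP 𝔛 h𝔛.1)
    (isColimitOfPreserves (homologyFunctor (FSch.ModF 𝔛 h𝔛.1) q) (coproductIsCoproduct K)) fun i => hK i.as

include h𝔛 in
theorem preservesColimit_RpushD {ι : Type u} (K : ι → DerivedCategory (FSch.ModF 𝔛 h𝔛.1))
    (hK : ∀ i q, IndP 𝔛 h𝔛.1 (SiteCmp.HMod (K i) q)) :
    PreservesColimit (Discrete.functor K) (SiteCmp.RpushD (FSch.homMor f h𝔛.1 h𝔜)) := by
  haveI : IsGrothendieckAbelian.{u} (FSch.ModF 𝔛 h𝔛.1) := ModShf.isGrothendieckAbelian _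
  haveI : IsGrothendieckAbelian.{u} (FSch.ModF 𝔜 h𝔜) := ModShf.isGrothendieckAbelian _
  haveI hcX : ∀ M : ι → DerivedCategory (FSch.ModF 𝔛 h𝔛.1), HasCoproduct M := fun M => by
    obtain ⟨hc⟩ := EtCoprodGE.nonempty_isColimit_Q' (fun i => Q.objPreimage (M i))
    have : HasCoproduct fun i => Q.obj (Q.objPreimage (M i)) := ⟨⟨⟨_, hc⟩⟩⟩
    exact hasColimit_of_iso (Discrete.natIso fun i => (Q.objObjPreimageIso (M i.as)).symm :
      Discrete.functor M ≅ Discrete.functor fun i => Q.obj (Q.objPreimage (M i)))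
  haveI hcY : ∀ M : ι → DerivedCategory (FSch.ModF 𝔜 h𝔜), HasCoproduct M := fun M => by
    obtain ⟨hc⟩ := EtCoprodGE.nonempty_isColimit_Q' (fun i => Q.objPreimage (M i))
    have : HasCoproduct fun i => Q.obj (Q.objPreimage (M i)) := ⟨⟨⟨_, hc⟩⟩⟩
    exact hasColimit_of_iso (Discrete.natIso fun i => (Q.objObjPreimageIso (M i.as)).symm :
      Discrete.functor M ≅ Discrete.functor fun i => Q.obj (Q.objPreimage (M i)))
  let R := SiteCmp.RpushD (FSch.homMor f h𝔛.1 h𝔜)
  obtain ⟨d, hd⟩ := Bounds.exists_bound_RpushD h𝔛 h𝔜 f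
  suffices ∀ m, IsIso ((homologyFunctor (FSch.ModF 𝔜 h𝔜) m).map (sigmaComparison R K)) by
    have : IsIso (sigmaComparison R K) := (DerivedCategory.isIso_iff (FSch.ModF 𝔜 h𝔜) _).2 this
    exact PreservesCoproduct.of_iso_comparison R K
  intro m
  let H := homologyFunctor (FSch.ModF 𝔜 h𝔜) m
  let t := TStructure.t (C := FSch.ModF 𝔛 h𝔛.1)
  let a : ℤ := m - d - 1
  let T := fun i => (t.triangleLTGE a).obj (K i)
  have hT : ∀ i, T i ∈ distTriang _ := fun i => t.triangleLTGE_distinguished a (K i)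
  have hiso : ∀ (S : Triangle (DerivedCategory (FSch.ModF 𝔛 h𝔛.1))), S ∈ distTriang _ →
      (∀ q, IndP 𝔛 h𝔛.1 (SiteCmp.HMod S.obj₁ q)) → (∀ q, a ≤ q → IsZero (SiteCmp.HMod S.obj₁ q)) →
      IsIso (H.map (R.map S.mor₂)) := fun S hS hq hz => by
    obtain ⟨δ, hS'⟩ := Groth.Agent.CohDerLib.RFLim.distinguished_RF (FSch.homMor f h𝔛.1 h𝔜).push S hS
    have h0 : ∀ k, m ≤ k → IsZero (SiteCmp.HMod (R.obj S.obj₁) k) := fun k hk => hd _ hq a hz k (by omega)
    have h1 : Mono (H.map (R.map S.mor₂)) :=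
      (HomologySequence.mono_homologyMap_mor₂_iff _ hS' m).2 ((h0 m le_rfl).eq_of_src _ _)
    have h2 : Epi (H.map (R.map S.mor₂)) :=
      (HomologySequence.epi_homologyMap_mor₂_iff _ hS' m (m + 1) rfl).2 ((h0 (m + 1) (by omega)).eq_of_tgt _ _)
    exact isIso_of_mono_of_epi _
  have hLT : ∀ i q, IndP 𝔛 h𝔛.1 (SiteCmp.HMod (T i).obj₁ q) ∧
      (a ≤ q → IsZero (SiteCmp.HMod (T i).obj₁ q)) := fun i q => by
    have hle : ((t.truncLT a).obj (K i)).IsLE (a - 1) := inferInstance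
    refine ⟨?_, fun hq => isZero_of_isLE ((t.truncLT a).obj (K i)) (a - 1) q (by omega)⟩
    rcases lt_or_ge q a with hq | hq
    · exact (IndP 𝔛 h𝔛.1).prop_of_iso
        (@asIso _ _ _ _ _ (KFlat.TruncHom.isIso_H_truncLTι (K i) a q hq)).symm (hK i q)
    · have hzero : IsZero (SiteCmp.HMod ((t.truncLT a).obj (K i)) q) := isZero_of_isLE _ (a - 1) q (by omega)
      have hker : IsZero (kernel (𝟙 (SiteCmp.HMod (K i) q))) := (IsZero.iff_id_eq_zero _).2
        ((cancel_mono (kernel.ι _)).1 (((Category.id_comp _).trans (Category.comp_id _).symm).trans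
          ((kernel.condition _).trans zero_comp.symm)))
      exact (IndP 𝔛 h𝔛.1).prop_of_iso (hker.iso hzero)
        (ind_kernel h𝔛 (𝟙 _) (hK i q) (hK i q))
  let T₀ := Triangle.mk (Limits.Sigma.map fun i => (T i).mor₁) (Limits.Sigma.map fun i => (T i).mor₂)
    (Sigma.desc fun i => (T i).mor₃ ≫ (shiftFunctor _ (1 : ℤ)).map (Sigma.ι (fun i => (T i).obj₁) i))
  have hT₀ : T₀ ∈ distTriang _ := DHA.Brown.coproductTriangle_distinguished T hT
  have h₁ : IsIso (H.map (R.map T₀.mor₂)) := hiso T₀ hT₀ (fun q => prop_sum h𝔛 _ q fun i => (hLT i q).1)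
    fun q hq => by
      haveI := preservesColimit_homology (fun i => (T i).obj₁) q
      rw [IsZero.iff_id_eq_zero]
      exact Cofan.IsColimit.hom_ext (isColimitCofanMkObjOfIsColimit (homologyFunctor (FSch.ModF 𝔛 h𝔛.1) q)
        (fun i => (T i).obj₁) _ (coproductIsCoproduct _)) _ _ fun i => ((hLT i q).2 hq).eq_of_src _ _
  have h₂ : IsIso (H.map (Limits.Sigma.map fun i => R.map (T i).mor₂)) := by
    have hi : ∀ i, IsIso (H.map (R.map (T i).mor₂)) := fun i =>
      hiso (T i) (hT i) (fun q => (hLT i q).1) (fun q hq => (hLT i q).2 hq)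
    let P₁ := fun i => R.obj (T i).obj₂
    let P₂ := fun i => R.obj (T i).obj₃
    haveI := preservesColimit_homology P₁ m
    haveI := preservesColimit_homology P₂ m
    have c₁ := isColimitCofanMkObjOfIsColimit H P₁ _ (coproductIsCoproduct P₁)
    have c₂ := isColimitCofanMkObjOfIsColimit H P₂ _ (coproductIsCoproduct P₂)
    refine ⟨Cofan.IsColimit.desc c₂ (fun i => @inv _ _ _ _ _ (hi i) ≫ H.map (Sigma.ι P₁ i)), ?_, ?_⟩
    · refine Cofan.IsColimit.hom_ext c₁ _ _ fun i => ?_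
      have := hi i
      change H.map (Sigma.ι P₁ i) ≫ _ ≫ _ = H.map (Sigma.ι P₁ i) ≫ 𝟙 _
      rw [← Functor.map_comp_assoc, Limits.Sigma.ι_map, Functor.map_comp, Category.assoc]
      erw [Cofan.IsColimit.fac c₂]
      rw [IsIso.hom_inv_id_assoc, Category.comp_id]
    · refine Cofan.IsColimit.hom_ext c₂ _ _ fun i => ?_
      have := hi i
      change H.map (Sigma.ι P₂ i) ≫ _ ≫ _ = H.map (Sigma.ι P₂ i) ≫ 𝟙 _
      erw [Cofan.IsColimit.fac_assoc c₂]
      rw [Category.assoc, ← Functor.map_comp, Limits.Sigma.ι_map, Functor.map_comp, IsIso.inv_hom_id_assoc,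
        Category.comp_id]
  have h₃ : IsIso (H.map (sigmaComparison R fun i => (T i).obj₃)) := by
    haveI := preservesColimit_RpushD_of_isGE h𝔛 h𝔜 f (fun i => (T i).obj₃) a
      fun i => (inferInstanceAs (((t.truncGE a).obj (K i)).IsGE a))
    infer_instance
  have hnat : sigmaComparison R K ≫ R.map T₀.mor₂ =
      (Limits.Sigma.map fun i => R.map (T i).mor₂) ≫ sigmaComparison R (fun i => (T i).obj₃) := by
    refine Sigma.hom_ext _ _ fun i => ?_
    rw [ι_comp_sigmaComparison_assoc, ← Functor.map_comp]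
    refine (congrArg R.map (Limits.Sigma.ι_map (fun i => (T i).mor₂) i)).trans ?_
    rw [Functor.map_comp]
    symm
    refine ((Category.assoc _ _ _).symm.trans (congrArg (· ≫ _) (Limits.Sigma.ι_map (fun i => R.map (T i).mor₂) i))).trans ?_
    exact (Category.assoc _ _ _).trans (congrArg (R.map (T i).mor₂ ≫ ·) (ι_comp_sigmaComparison R (fun i => (T i).obj₃) i))
  have e := (H.map_comp _ _).symm.trans ((congrArg H.map hnat).trans (H.map_comp _ _))
  have h4 : IsIso (H.map (sigmaComparison R K) ≫ H.map (R.map T₀.mor₂)) := e.symm ▸ IsIso.comp_isIso' h₂ h₃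
  exact @IsIso.of_isIso_comp_right _ _ _ _ _ (H.map (sigmaComparison R K)) (H.map (R.map T₀.mor₂)) h₁ h4

end Groth.Agent.FFormal.Coprod
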