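import Groth.Agent.QCohD.Factor
import Groth.Agent.QCohD.Brown

/-!
# Coproduct preserving triangulated functors out of the derived category of a Grothendieck category

After `Groth.Agent.QCohD.DQ`, without the restriction to a subcategory.
-/

set_option autoImplicit false
set_option backward.isDefEq.respectTransparency.types false

universe u u'

open CategoryTheory CategoryTheory.Limits ZeroObject DerivedCategory Pretriangulated
open Groth.Agent.DHA Groth.Agent.DHA.KInj Groth.Agent.QCohD

attribute [local instance] HasDerivedCategory.standard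

namespace Groth.Agent.FFormal.DerivedPerfect

variable {A : Type (u + 1)} [Category.{u} A] [Abelian A] [IsGrothendieckAbelian.{u} A]
  [HasColimitsOfShape (Discrete ℕ) (DerivedCategory A)]

omit [HasColimitsOfShape (Discrete ℕ) (DerivedCategory A)] in
theorem exists_code' {k : ℕ} {C : CochainComplex A ℤ} (hC : Cov (separator A) (lvl (separator A) k) C) :
    ∃ c : Code (pow (separator A) (lvl (separator A) k)), Nonempty (c.cx ≅ C) := by
  choose e he using hC
  exact exists_code C e he

/-- The family: complexes built from bounded powers of a separator. -/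
noncomputable def fam (i : ULift.{u + 1} (genι (separator A))) : DerivedCategory A := Q.obj i.down.2.cx

theorem isPerfect_fam : Brown.IsPerfect (Brown.shifts (fam (A := A))) := by
  classical
  have hG : IsSeparator (separator A) := isSeparator_separator A
  refine Brown.isPerfect_shifts (fam (A := A)) (fun X hX => ?_) fun X ⟨k, c⟩ α => ?_
  · obtain ⟨I, r, _, _⟩ := enough_kInjective (Q.objPreimage X)
    let e : Q.obj I ≅ X := (asIso (Q.map r)).symm ≪≫ Q.objObjPreimageIso X
    have hI : ∀ n, I.ExactAt n := fun n => exactAt_of_hom_single_eq_zero' hG I n fun φ => by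
      obtain ⟨c, ⟨i⟩⟩ := exists_code' (cov_single (G := separator A) n)
      have h0 := hX ⟨0, c⟩ 0 (Q.map i.hom ≫ φ ≫ e.hom ≫ (shiftFunctorZero _ ℤ).inv.app X)
      rw [← cancel_epi (Q.map i.hom), ← cancel_mono (e.hom ≫ (shiftFunctorZero _ ℤ).inv.app X)]
      exact (Category.assoc _ _ _).trans (h0.trans ((congrArg (· ≫ _) comp_zero).trans zero_comp).symm)
    have : QuasiIso (0 : I ⟶ 0) := quasiIso_of_acyclic_both _ hI fun n =>
      ShortComplex.exact_of_isZero_X₂ _ ((HomologicalComplex.eval A _ n).map_isZero (isZero_zero _))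
    exact IsZero.of_iso
      (IsZero.of_iso (Functor.map_isZero Q (isZero_zero _)) (asIso (Q.map (0 : I ⟶ 0)))) e.symm
  · have hcov : Cov (separator A) (lvl (separator A) k) c.cx := fun m => ⟨cokernel.π _,
      inferInstanceAs (Epi (cokernel.π
        ((equivShrink (Subobject (pow (separator A) (lvl (separator A) k)))).symm (c.1 m)).arrow))⟩
    obtain ⟨Cn, ι, γ, hCn, hα⟩ := exists_small_factor_nat hG hcov X α
    choose cn ecn using fun n => exists_code' (k := k + 1) (hCn n)
    let js : ℕ → ULift.{u + 1} (genι (separator A)) := fun n => ⟨⟨k + 1, cn n⟩⟩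
    let β : ∀ n, fam (js n) ⟶ X n := fun n =>
      Q.map ((ecn n).some.hom ≫ ι n) ≫ (Q.objObjPreimageIso (X n)).hom
    refine ⟨js, β, γ ≫ Limits.Sigma.map (fun n => Q.map (ecn n).some.inv), ?_⟩
    rw [hα, Category.assoc]
    congr 1
    refine Sigma.hom_ext _ _ fun n => ?_
    rw [Sigma.ι_map, Sigma.ι_map_assoc, Sigma.ι_map]
    simp only [β, Functor.map_comp, Category.assoc]
    refine Eq.trans ?_ (congrArg (Q.map (ecn n).some.inv ≫ ·) (Category.assoc _ _ _).symm)
    exact (Iso.inv_hom_id_assoc (Q.mapIso (ecn n).some) _).symm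

/-- A coproduct preserving exact functor out of `D(A)` is a left adjoint. -/
theorem isLeftAdjoint {D' : Type u'} [Category.{u + 1} D'] [LocallySmall.{u} D'] [Preadditive D']
    [HasZeroObject D'] [HasShift D' ℤ] [∀ n : ℤ, (shiftFunctor D' n).Additive] [Pretriangulated D']
    (F : DerivedCategory A ⥤ D') [F.Additive]
    (hF : ∀ T ∈ distTriang (DerivedCategory A), ∃ δ,
      Triangle.mk (F.map T.mor₁) (F.map T.mor₂) δ ∈ distTriang D')
    [∀ J : Type u, PreservesColimitsOfShape (Discrete J) F] : F.IsLeftAdjoint := by
  haveI : HasCoproducts.{u} (DerivedCategory A) := hasCoproducts_derived'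
  exact Groth.Agent.QCohD.Brown.isLeftAdjoint isPerfect_fam F hF

end Groth.Agent.FFormal.DerivedPerfect
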