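import Groth.Agent.FFormal.HFComplLev

/-!
# Cohomology of the completion of a coherent module on a proper scheme
-/

set_option autoImplicit false
set_option linter.style.haveILetI false
set_option linter.dupNamespace false

universe u

open CategoryTheory CategoryTheory.Limits AlgebraicGeometry Opposite TopologicalSpace

namespace Groth.Agent.FFormal.HFCompl

open Groth.Agent
open Groth.Agent.FFormal.TowerLim (im Stat exists_class)

variable {A : Type u} [CommRing A] {I : Ideal A} {X : Scheme.{u}} [X.Over (Spec (CommRingCat.of A))]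
  {𝓚 : X.IdealSheafData} (h : (FSch.completionAlong X 𝓚).IsFormal) (F : X.Modules)

local notation "𝔛" => FSch.completionAlong X 𝓚
local notation "pX" => FSch.completionToX X 𝓚
local notation "hpX" => FSch.completionToX_comm X 𝓚

variable [IsNoetherianRing A] [IsProper (X ↘ Spec (CommRingCat.of A))]
variable (h𝓚 : 𝓚 = FormalExist.IdealQuot.baseIdeal X I) (hF : Coh.IsCoh F)

theorem app_comp {M N Q : X.Modules} (φ : M ⟶ N) (ψ : N ⟶ Q) (W : X.Opens) (t : Γ(M, W)) :
    (φ ≫ ψ).app W t = ψ.app W (φ.app W t) := rfl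

/-- Sections of a limit of a sequence of modules. -/
theorem sections_isLimit {S : ℕᵒᵖ ⥤ SheafOfModules.{u} X.ringCatSheaf} {c : Cone S} (hc : IsLimit c) (W : X.Opens) :
    (∀ x : Γ((c.pt : X.Modules), W), (∀ k, Scheme.Modules.Hom.app (M := c.pt) (N := S.obj (op k)) (c.π.app (op k)) W x = 0) → x = 0) ∧
      ∀ y : (∀ k, Γ((S.obj (op k) : X.Modules), W)), (∀ k, Scheme.Modules.Hom.app (M := S.obj (op (k + 1))) (N := S.obj (op k)) (S.map (homOfLE (Nat.le_succ k)).op) W (y (k + 1)) = y k) →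
        ∃ x : Γ((c.pt : X.Modules), W), ∀ k, Scheme.Modules.Hom.app (M := c.pt) (N := S.obj (op k)) (c.π.app (op k)) W x = y k := by
  let G : SheafOfModules.{u} X.ringCatSheaf ⥤ Type u :=
    SheafOfModules.forget _ ⋙ PresheafOfModules.evaluation _ (op W) ⋙ CategoryTheory.forget _
  have hl : IsLimit (G.mapCone c) := isLimitOfPreserves _ hc
  constructor
  · intro x hx
    refine ((Types.isLimitEquivSections hl).injective (Subtype.ext (funext fun j => ?_)))
    obtain ⟨n⟩ := j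
    exact (hx n).trans (map_zero (Scheme.Modules.Hom.app (M := c.pt) (N := S.obj (op n)) (c.π.app (op n)) W).hom).symm
  · intro y hy
    let s : Cone (S ⋙ G) :=
      { pt := PUnit.{u + 1}
        π := NatTrans.ofOpSequence (fun n => ↾fun _ => (y n : (S ⋙ G).obj (op n))) (fun n => by
          ext x
          exact (hy n).symm) }
    exact ⟨hl.lift s PUnit.unit, fun n => ConcreteCategory.congr_hom (hl.fac s (op n)) PUnit.unit⟩

/-- The cone of the projections to the quotients. -/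
noncomputable def prCone : Cone (Formal.completion I F) where
  pt := pushLim (𝓚 := 𝓚) h F
  π := NatTrans.ofOpSequence (fun k => pr' h F h𝓚 hF k) fun k => by
    simp only [Functor.const_obj_obj, Functor.const_obj_map, Category.id_comp]
    rw [completion_map_succ]
    exact (pr'_trans h F h𝓚 hF k).symm

/-- The levels, as quotients. -/
noncomputable def θNat : Formal.completion I F ≅
    FSch.levelSysOf 𝔛 h (cM (𝓚 := 𝓚) F).F (cM (𝓚 := 𝓚) F).toPush ⋙ (FFormal.tsm h pX hpX).push :=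
  NatIso.ofComponents (fun j => θ h F h𝓚 hF j.unop) (by
    suffices key : ∀ k, (Formal.completion I F).map (homOfLE (Nat.le_succ k)).op ≫ (θ h F h𝓚 hF k).hom =
        (θ h F h𝓚 hF (k + 1)).hom ≫ (FFormal.tsm h pX hpX).push.map
          ((FSch.levelSysOf 𝔛 h (cM (𝓚 := 𝓚) F).F (cM (𝓚 := 𝓚) F).toPush).map (homOfLE (Nat.le_succ k)).op) from
      fun {i j} f => (NatTrans.ofOpSequence (fun k => (θ h F h𝓚 hF k).hom) key :
        Formal.completion I F ⟶ FSch.levelSysOf 𝔛 h (cM (𝓚 := 𝓚) F).F (cM (𝓚 := 𝓚) F).toPush ⋙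
          (FFormal.tsm h pX hpX).push).naturality f
    intro k
    rw [FSch.levelSysOf_map_succ, completion_map_succ]
    exact (θ_tr h F h𝓚 hF k).symm)

/-- The pushed module is the limit of the quotients. -/
noncomputable def isLimitPrCone : IsLimit (prCone h F h𝓚 hF) :=
  IsLimit.ofIsoLimit
    ((IsLimit.postcomposeHomEquiv (θNat h F h𝓚 hF).symm _).symm
      (FFormal.isLimitPushReal h pX hpX (cM (𝓚 := 𝓚) F)))
    (Cone.ext (Iso.refl _) fun j => (Category.id_comp _).symm)

include h𝓚 hF in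
theorem pr'_joint_injective (W : X.Opens) (t : Γ(pushLim (𝓚 := 𝓚) h F, W))
    (ht : ∀ k, (pr' h F h𝓚 hF k).app W t = 0) : t = 0 :=
  (sections_isLimit (isLimitPrCone h F h𝓚 hF) W).1 t ht

include h𝓚 hF in
theorem exists_pr'_eq (W : X.Opens) (y : ∀ k, Γ(Formal.modPow I (k + 1) F, W))
    (hy : ∀ k, (Formal.modPowTrans I (k + 1) F).app W (y (k + 1)) = y k) :
    ∃ t : Γ(pushLim (𝓚 := 𝓚) h F, W), ∀ k, (pr' h F h𝓚 hF k).app W t = y k :=
  (sections_isLimit (isLimitPrCone h F h𝓚 hF) W).2 y fun k =>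
    (congrArg (fun φ => Scheme.Modules.Hom.app φ W (y (k + 1))) (completion_map_succ F k)).trans (hy k)

include h𝓚 hF in
theorem good_pushLim : (CohAff.affCov X).Good (Coh.toAb (pushLim (𝓚 := 𝓚) h F)) := by
  haveI : IsLocallyNoetherian X := FormalFun.isLocallyNoetherian_of_proper A X
  intro U ι V hV m
  refine cechExact_preimage (FSch.completionToX X 𝓚 0).base (ModSite.toAb ((cM (𝓚 := 𝓚) F).realMod h)).obj V m ?_
  refine FFormal.good_realMod (Adic.ComplAlong.isLocNoethFormal 𝓚) (FFormal.isCoh_cmp pX hpX hF)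
    ((FSch.completionToX X 𝓚 0) ⁻¹ᵁ U) ι _ ?_ m
  obtain ⟨hU, hι, f, rfl, hcov⟩ := hV
  refine ⟨hU.preimage _, hι, fun i => (FSch.completionToX X 𝓚 0).app U (f i),
    funext fun i => Scheme.preimage_basicOpen _ _, ?_⟩
  exact (Scheme.Hom.preimage_iSup _ _).symm.trans (congrArg ((FSch.completionToX X 𝓚 0) ⁻¹ᵁ ·) hcov)

include hF in
theorem nonempty_equiv_of_limit {L : X.Modules} (q : ∀ k, L ⟶ Formal.modPow I (k + 1) F)
    (hq₀ : ∀ k, q (k + 1) ≫ Formal.modPowTrans I (k + 1) F = q k) (hL : (CohAff.affCov X).Good (Coh.toAb L))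
    (hqi : ∀ (W : X.Opens) (t : Γ(L, W)), (∀ k, (q k).app W t = 0) → t = 0)
    (hqe : ∀ (W : X.Opens) (y : ∀ k, Γ(Formal.modPow I (k + 1) F, W)),
      (∀ k, (Formal.modPowTrans I (k + 1) F).app W (y (k + 1)) = y k) →
        ∃ t : Γ(L, W), ∀ k, (q k).app W t = y k) (n : ℕ) :
    Nonempty (Sheaf.H (Coh.toAb L) n ≃+ Formal.HHlim I F n) := by
  haveI : IsLocallyNoetherian X := FormalFun.isLocallyNoetherian_of_proper A X
  haveI : CompactSpace X := FormalFun.compactSpace_of_proper A X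
  haveI : X.IsSeparated := ⟨by
    rw [← terminal.comp_from (X ↘ Spec (CommRingCat.of A))]
    infer_instance⟩
  haveI := hF.1
  obtain ⟨𝒰, hfin⟩ := FormalFun.exists_affCov (X := X)
  have hmem : ∀ {m : ℕ} (x : Fin (m + 1) → 𝒰.ι),
      (CohAff.affCov X).mem (CohAff.inter (X := X.toPresheafedSpace.carrier) 𝒰.U x) :=
    fun {m} x => CohColim.isAffineOpen_inter 𝒰.U 𝒰.isAffine x
  have hq : ∀ k, (Formal.modPow I (k + 1) F).IsQuasicoherent := fun k =>
    FormalFun.isQuasicoherent_modPow I hF.1 (k + 1)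
  have hP : ∀ k, (CohAff.affCov X).Good (P I F k) := fun k =>
    haveI := hq k
    CohAff.good_affCov (Formal.modPow I (k + 1) F)
  let p : ∀ k, Coh.toAb L ⟶ P I F k := fun k =>
    (SheafOfModules.toSheaf _).map (q k)
  have hp : ∀ k, p (k + 1) ≫ τ I F k = p k := fun k =>
    ((SheafOfModules.toSheaf _).map_comp _ _).symm.trans (congrArg _ (hq₀ k))
  have hinj : ∀ {m : ℕ} (x : Fin (m + 1) → 𝒰.ι)
      (t : (Coh.toAb L).obj.obj (op (CohAff.inter (X := X.toPresheafedSpace.carrier) 𝒰.U x))),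
      (∀ k, ((p k).hom.app (op (CohAff.inter (X := X.toPresheafedSpace.carrier) 𝒰.U x))).hom t = 0) → t = 0 :=
    fun {m} x t ht => hqi _ t ht
  have hex : ∀ {m : ℕ} (x : Fin (m + 1) → 𝒰.ι)
      (y : ∀ k, (P I F k).obj.obj (op (CohAff.inter (X := X.toPresheafedSpace.carrier) 𝒰.U x))),
      (∀ k, ((τ I F k).hom.app (op (CohAff.inter (X := X.toPresheafedSpace.carrier) 𝒰.U x))).hom (y (k + 1)) = y k) →
      ∃ t, ∀ k, ((p k).hom.app (op (CohAff.inter (X := X.toPresheafedSpace.carrier) 𝒰.U x))).hom t = y k :=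
    fun {m} x y hy => hqe _ y hy
  have hsurj : ∀ k {m : ℕ} (x : Fin (m + 1) → 𝒰.ι)
      (t : (P I F k).obj.obj (op (CohAff.inter (X := X.toPresheafedSpace.carrier) 𝒰.U x))),
      ∃ s, ((τ I F k).hom.app (op (CohAff.inter (X := X.toPresheafedSpace.carrier) 𝒰.U x))).hom s = t :=
    fun k {m} x t => by
      haveI := hq k
      haveI := hq (k + 1)
      haveI : Epi (Formal.modPowπ I (k + 1) F) := (Formal61.Sys.isModQuot_modPowπ I (k + 1) F).epi
      haveI : Epi (Formal.modPowTrans I (k + 1) F) :=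
        epi_of_epi_fac (Formal.modPowπ_trans I (k + 1) F)
      exact QCoh.app_surjective_of_epi (Formal.modPowTrans I (k + 1) F) (hmem x) t
  have hU : ⨆ i, 𝒰.U i = ⊤ := top_unique 𝒰.covers
  let ψ : Sheaf.H (Coh.toAb L) n →+ Formal.HHlim I F n :=
    { toFun := fun z => ⟨fun k => Sheaf.H.map (p k) n z, fun k => by
        show Sheaf.H.map (τ I F k) n (Sheaf.H.map (p (k + 1)) n z) = _
        rw [← Sheaf.H.map_comp_apply, hp]⟩
      map_zero' := Subtype.ext (funext fun k => map_zero _)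
      map_add' := fun z w => Subtype.ext (funext fun k => map_add _ z w) }
  refine ⟨AddEquiv.ofBijective ψ ⟨(injective_iff_map_eq_zero ψ).2 fun z hz => ?_, fun y => ?_⟩⟩
  · exact TowerLim.eq_zero hU hmem (τ I F) p hp hL hP hsurj hinj hex n z
      (fun k => congrFun (congrArg Subtype.val hz) k) fun m _ => stat F hF m
  · obtain ⟨z, hz⟩ := exists_class hU hmem (τ I F) p hL hP hsurj hinj hex n y.1 y.2
    exact ⟨z, Subtype.ext (funext hz)⟩

include h𝓚 hF in
theorem nonempty_equiv (n : ℕ) :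
    Nonempty (Sheaf.H (Coh.toAb (pushLim (𝓚 := 𝓚) h F)) n ≃+ Formal.HHlim I F n) :=
  nonempty_equiv_of_limit F hF (pr' h F h𝓚 hF) (pr'_trans h F h𝓚 hF) (good_pushLim h F h𝓚 hF)
    (pr'_joint_injective h F h𝓚 hF) (exists_pr'_eq h F h𝓚 hF) n

include h𝓚 hF in
/-- The cohomology of the completion is the limit of the cohomology of the quotients. -/
theorem nonempty_hF_equiv (n : ℕ) :
    Nonempty (FSch.HF 𝔛 h ((FFormal.tsm h pX hpX).pull.obj F) n ≃+ Formal.HHlim I F n) := by
  haveI : IsLocallyNoetherian X := FormalFun.isLocallyNoetherian_of_proper A X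
  haveI := FFormal.isIso_toCompleted h pX hpX (Adic.ComplAlong.isLocNoethFormal 𝓚) hF
  let e := (SheafOfModules.toSheaf _).mapIso (asIso (FFormal.toCompleted h pX hpX F))
  let e₁ : FSch.HF 𝔛 h ((FFormal.tsm h pX hpX).pull.obj F) n ≃+
      FSch.HF 𝔛 h ((cM (𝓚 := 𝓚) F).realMod h) n :=
    { toFun := Sheaf.H.map e.hom n
      invFun := Sheaf.H.map e.inv n
      left_inv := fun z => by rw [← Sheaf.H.map_comp_apply, e.hom_inv_id, Sheaf.H.map_id_apply]
      right_inv := fun z => by rw [← Sheaf.H.map_comp_apply, e.inv_hom_id, Sheaf.H.map_id_apply]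
      map_add' := map_add _ }
  obtain ⟨e₂⟩ := CohTop.Push.H_push_of_vanishing (FSch.completionToX X 𝓚 0).base
    (ModSite.toAb ((cM (𝓚 := 𝓚) F).realMod h))
    (CohTop.Push.higherVanish_of_isClosedEmbedding _ (FSch.completionToX X 𝓚 0).isClosedEmbedding _) n
  obtain ⟨e₃⟩ := nonempty_equiv h F h𝓚 hF n
  exact ⟨(e₁.trans e₂).trans e₃⟩

end Groth.Agent.FFormal.HFCompl
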