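import Groth.Agent.CohAff.CechH

/-!
# Cohomology of a limit of sheaves with surjective transitions on a good covering
-/

set_option autoImplicit false

universe u

open CategoryTheory Limits Opposite TopologicalSpace

namespace Groth.Agent.FFormal.TowerLim

section Group

variable {H : ℕ → Type u} [∀ k, AddCommGroup (H k)] (τ : ∀ k, H (k + 1) →+ H k)

/-- The images from higher levels. -/
def im : ℕ → ∀ k, AddSubgroup (H k)
  | 0, _ => ⊤
  | j + 1, k => (im j (k + 1)).map (τ k)

/-- The images are eventually stationary. -/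
def Stat : Prop := ∀ k, ∃ N, ∀ j, im τ N k ≤ im τ j k

theorem im_succ_le : ∀ j k, im τ (j + 1) k ≤ im τ j k
  | 0, _ => le_top
  | j + 1, k => AddSubgroup.map_mono (im_succ_le j (k + 1))

theorem im_anti {i j : ℕ} (h : i ≤ j) (k : ℕ) : im τ j k ≤ im τ i k := by
  induction j, h using Nat.le_induction with
  | base => exact le_rfl
  | succ j _ ih => exact (im_succ_le τ j k).trans ih

/-- Partial sums. -/
def psum (a : ∀ k, H k) : ℕ → ∀ k, H k
  | 0, _ => 0
  | j + 1, k => a k + τ k (psum a j (k + 1))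

theorem psum_sub (a : ∀ k, H k) : ∀ j k, psum τ a (j + 1) k - psum τ a j k ∈ im τ j k
  | 0, _ => AddSubgroup.mem_top _
  | j + 1, k => by
    refine ⟨_, psum_sub a j (k + 1), ?_⟩
    simp only [psum, map_sub, add_sub_add_left_eq_sub]

theorem psum_sub_le (a : ∀ k, H k) {i j : ℕ} (h : i ≤ j) (k : ℕ) : psum τ a j k - psum τ a i k ∈ im τ i k := by
  induction j, h using Nat.le_induction with
  | base => rw [sub_self]; exact zero_mem _
  | succ j hj ih =>
    have := add_mem (im_anti τ hj k (psum_sub τ a j k)) ih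
    rwa [sub_add_sub_cancel] at this

/-- The derived limit of a tower with stationary images vanishes. -/
theorem exists_sub_eq (h : Stat τ) (a : ∀ k, H k) : ∃ e : ∀ k, H k, ∀ k, e k - τ k (e (k + 1)) = a k := by
  choose N₀ hN₀ using h
  let N : ℕ → ℕ := fun k => Nat.rec (motive := fun _ => ℕ) (N₀ 0) (fun m n => max (N₀ (m + 1)) n) k
  have hN : ∀ k, N₀ k ≤ N k := fun k => by
    cases k with
    | zero => exact le_rfl
    | succ k => exact le_max_left _ _
  have hmono : ∀ k, N k ≤ N (k + 1) := fun k => le_max_right _ _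
  have hS : ∀ k j, im τ (N k) k ≤ im τ j k := fun k j => (im_anti τ (hN k) k).trans (hN₀ k j)
  let t : ∀ k, H k := fun k => psum τ a (N (k + 1) + 1) k - psum τ a (N k) k
  have ht : ∀ k, t k ∈ im τ (N k) k := fun k => psum_sub_le τ a ((hmono k).trans (Nat.le_succ _)) k
  have hlift : ∀ k, ∀ s ∈ im τ (N k) k, ∃ s' ∈ im τ (N (k + 1)) (k + 1), τ k s' = s := fun k s hs =>
    hS k (N (k + 1) + 1) hs
  choose g hg₁ hg₂ using hlift
  let s : ∀ k, {x : H k // x ∈ im τ (N k) k} := fun k => Nat.rec (motive := fun k => {x : H k // x ∈ im τ (N k) k})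
    ⟨0, zero_mem _⟩ (fun m x => ⟨g m (x.1 - t m) (sub_mem x.2 (ht m)), hg₁ m _ _⟩) k
  refine ⟨fun k => psum τ a (N k) k + (s k).1, fun k => ?_⟩
  have hs : τ k (s (k + 1)).1 = (s k).1 - t k := hg₂ k _ _
  rw [map_add, hs]
  simp only [t, psum]
  abel

end Group

open Groth.Agent.CohAff

variable {X : TopCat.{u}} {ι : Type u} {U : ι → Opens X} (hU : ⨆ i, U i = ⊤) {C : CovSys X}
  (hmem : ∀ {n : ℕ} (x : Fin (n + 1) → ι), C.mem (inter U x))
  {L : AbSh X} {P : ℕ → AbSh X} (τ : ∀ k, P (k + 1) ⟶ P k) (p : ∀ k, L ⟶ P k)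
  (hp : ∀ k, p (k + 1) ≫ τ k = p k) (hL : C.Good L) (hP : ∀ k, C.Good (P k))
  (hsurj : ∀ k {m : ℕ} (x : Fin (m + 1) → ι) (t : (P k).obj.obj (op (inter U x))),
    ∃ s, ((τ k).hom.app (op (inter U x))).hom s = t)
  (hinj : ∀ {m : ℕ} (x : Fin (m + 1) → ι) (t : L.obj.obj (op (inter U x))),
    (∀ k, ((p k).hom.app (op (inter U x))).hom t = 0) → t = 0)
  (hex : ∀ {m : ℕ} (x : Fin (m + 1) → ι) (y : ∀ k, (P k).obj.obj (op (inter U x))),
    (∀ k, ((τ k).hom.app (op (inter U x))).hom (y (k + 1)) = y k) →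
      ∃ t, ∀ k, ((p k).hom.app (op (inter U x))).hom t = y k)

include hsurj in
theorem exists_cmap {m : ℕ} (k : ℕ) (c : Cochain (P k).obj U m) : ∃ c', cmap (τ k).hom U m c' = c := by
  choose c' hc' using fun x => hsurj k x (c x)
  exact ⟨c', funext hc'⟩

include hsurj in
/-- Solving `τ w' = w - b` downwards. -/
theorem exists_solve {m : ℕ} (b : ∀ k, Cochain (P k).obj U m) :
    ∃ w : ∀ k, Cochain (P k).obj U m, ∀ k, cmap (τ k).hom U m (w (k + 1)) = w k - b k := by
  choose r hr using fun k (c : Cochain (P k).obj U m) => exists_cmap τ hsurj k c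
  exact ⟨fun k => Nat.rec (motive := fun k => Cochain (P k).obj U m) 0 (fun n x => r n (x - b n)) k,
    fun k => hr k _⟩

include hinj hex in
theorem exists_lim {m : ℕ} (y : ∀ k, Cochain (P k).obj U m) (hy : ∀ k, cmap (τ k).hom U m (y (k + 1)) = y k) :
    ∃ t : Cochain L.obj U m, (∀ k, cmap (p k).hom U m t = y k) ∧
      ((∀ k, cd (P k).obj U m (y k) = 0) → cd L.obj U m t = 0) := by
  choose t ht using fun x => hex x (fun k => y k x) fun k => congrFun (hy k) x
  have h1 : ∀ k, cmap (p k).hom U m t = y k := fun k => funext fun x => ht x k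
  refine ⟨t, h1, fun hcd => funext fun x => hinj x _ fun k => ?_⟩
  have h2 := congrFun ((cd_cmap (p k).hom U m t).symm.trans ((congrArg _ (h1 k)).trans (hcd k))) x
  exact h2

theorem toH_sub {n : ℕ} (F : AbSh X) (c c' : Cochain F.obj U n) (hc : cd F.obj U n c = 0)
    (hc' : cd F.obj U n c' = 0) : toH hU n F (c - c') (by rw [map_sub, hc, hc', sub_zero]) =
      toH hU n F c hc - toH hU n F c' hc' :=
  map_sub (toHHom hU n F) ⟨c, hc⟩ ⟨c', hc'⟩

theorem eq_zero_of_toH_eq_zero {F : AbSh X} {c : Cochain F.obj U 0} (hc : cd F.obj U 0 c = 0)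
    (h : toH hU 0 F c hc = 0) : c = 0 := by
  obtain ⟨s, hs⟩ := exists_aug_eq F hU hc
  rw [toH_zero_eq hU F hc hs] at h
  rw [← hs, (Sheaf.H.equiv₀ F isTerminalTop).symm.injective (h.trans (map_zero _).symm), map_zero]

include hU hmem hP hsurj hL hinj hex in
/-- Compatible classes come from the limit. -/
theorem exists_class (n : ℕ) (y : ∀ k, Sheaf.H (P k) n) (hy : ∀ k, Sheaf.H.map (τ k) n (y (k + 1)) = y k) :
    ∃ x : Sheaf.H L n, ∀ k, Sheaf.H.map (p k) n x = y k := by
  choose z hz hzy using fun k => exists_toH_eq hU hmem (hP k) (y k)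
  have hd : ∀ k, cd (P k).obj U n (cmap (τ k).hom U n (z (k + 1))) = 0 := fun k => by
    rw [cd_cmap, hz, map_zero]
  have h0 : ∀ k, toH hU n (P k) (cmap (τ k).hom U n (z (k + 1)) - z k) (by rw [map_sub, hd, hz, sub_zero]) = 0 :=
    fun k => by rw [toH_sub hU _ _ _ (hd k) (hz k), toH_map hU (τ k) _ (hz _), hzy, hzy, hy, sub_self]
  suffices key : ∃ z' : ∀ k, Cochain (P k).obj U n, (∀ k, cmap (τ k).hom U n (z' (k + 1)) = z' k) ∧
      ∀ k, ∃ hc : cd (P k).obj U n (z' k) = 0, toH hU n (P k) (z' k) hc = y k by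
    obtain ⟨z', hz', hy'⟩ := key
    choose hc hcy using hy'
    obtain ⟨t, ht, htc⟩ := exists_lim τ p hinj hex z' hz'
    refine ⟨toH hU n L t (htc hc), fun k => ?_⟩
    rw [← toH_map hU (p k) t (htc hc)]
    exact (toH_congr hU (ht k) _ (hc k)).trans (hcy k)
  cases n with
  | zero =>
    exact ⟨z, fun k => sub_eq_zero.1 (eq_zero_of_toH_eq_zero hU _ (h0 k)), fun k => ⟨hz k, hzy k⟩⟩
  | succ n =>
    choose b hb using fun k => exists_cd_eq_of_toH_eq_zero hU hmem (hP k) _ (h0 k)
    obtain ⟨w, hw⟩ := exists_solve τ hsurj b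
    refine ⟨fun k => z k + cd (P k).obj U n (w k), fun k => ?_, fun k => ⟨by rw [map_add, hz, cd_cd, add_zero], ?_⟩⟩
    · rw [map_add, ← cd_cmap, hw, map_sub, hb]
      abel
    · exact (toH_add hU (P k) _ _ (hz k) (cd_cd _ _ _ _)).trans (by rw [toH_cd, add_zero, hzy])

include hU hmem hP hsurj hL hinj hex hp in
/-- A class of the limit vanishing at every stage vanishes when the lower degree has stationary images. -/
theorem eq_zero (n : ℕ) (x : Sheaf.H L n) (hx : ∀ k, Sheaf.H.map (p k) n x = 0)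
    (hML : ∀ m, m + 1 = n → Stat (H := fun k => Sheaf.H (P k) m) (fun k => Sheaf.H.map (τ k) m)) : x = 0 := by
  obtain ⟨c, hc, rfl⟩ := exists_toH_eq hU hmem hL x
  have hpc : ∀ k, cd (P k).obj U n (cmap (p k).hom U n c) = 0 := fun k => by rw [cd_cmap, hc, map_zero]
  have h0 : ∀ k, toH hU n (P k) (cmap (p k).hom U n c) (hpc k) = 0 := fun k =>
    (toH_map hU (p k) c hc).trans (hx k)
  cases n with
  | zero =>
    have hc0 : c = 0 := funext fun y => hinj y _ fun k => congrFun (eq_zero_of_toH_eq_zero hU _ (h0 k)) y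
    subst hc0
    exact map_zero (toHHom hU 0 L)
  | succ n =>
    choose b hb using fun k => exists_cd_eq_of_toH_eq_zero hU hmem (hP k) _ (h0 k)
    have hτp : ∀ k {m : ℕ} (d : Cochain L.obj U m),
        cmap (τ k).hom U m (cmap (p (k + 1)).hom U m d) = cmap (p k).hom U m d := fun k {m} d =>
      funext fun y => congrArg (fun q : L ⟶ P k => (q.hom.app (op (inter U y))).hom (d y)) (hp k)
    have he : ∀ k, cd (P k).obj U n (b k - cmap (τ k).hom U n (b (k + 1))) = 0 := fun k => by
      rw [map_sub, cd_cmap, hb, hb, hτp, sub_self]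
    obtain ⟨g, hg⟩ := exists_sub_eq _ (hML n rfl) fun k => toH hU n (P k) _ (he k)
    choose w hw hwg using fun k => exists_toH_eq hU hmem (hP k) (g k)
    have hwd : ∀ k, cd (P k).obj U n (cmap (τ k).hom U n (w (k + 1))) = 0 := fun k => by
      rw [cd_cmap, hw, map_zero]
    let v : ∀ k, Cochain (P k).obj U n := fun k =>
      (b k - cmap (τ k).hom U n (b (k + 1))) - (w k - cmap (τ k).hom U n (w (k + 1)))
    have hvd : ∀ k, cd (P k).obj U n (v k) = 0 := fun k => by
      simp only [v, map_sub, he k, hw k, hwd k, sub_zero]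
    have hv : ∀ k, toH hU n (P k) (v k) (hvd k) = 0 := fun k => by
      rw [toH_sub hU _ _ _ (he k) (by rw [map_sub, hw, hwd, sub_zero]), toH_sub hU _ _ _ (hw k) (hwd k),
        toH_map hU (τ k) _ (hw _), hwg, hwg]
      exact sub_eq_zero.2 (hg k).symm
    suffices key : ∃ b' : ∀ k, Cochain (P k).obj U n, (∀ k, cmap (τ k).hom U n (b' (k + 1)) = b' k) ∧
        ∀ k, cd (P k).obj U n (b' k) = cmap (p k).hom U (n + 1) c by
      obtain ⟨b', hb', hb''⟩ := key
      obtain ⟨t, ht, -⟩ := exists_lim τ p hinj hex b' hb'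
      refine (toH_congr hU (c' := cd L.obj U n t) (funext fun y => sub_eq_zero.1 (hinj y _ fun k => ?_))
        hc (cd_cd _ _ _ _)).trans (toH_cd hU L t)
      have h1 : cmap (p k).hom U (n + 1) (c - cd L.obj U n t) = 0 := by
        rw [map_sub, ← cd_cmap, ht, hb'', sub_self]
      exact congrFun h1 y
    cases n with
    | zero =>
      refine ⟨fun k => b k - w k, fun k => ?_, fun k => by rw [map_sub, hb, hw, sub_zero]⟩
      rw [map_sub]
      have := eq_zero_of_toH_eq_zero hU (hvd k) (hv k)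
      refine (sub_eq_zero.1 (Eq.trans ?_ this)).symm
      simp only [v]
      abel
    | succ m =>
      choose u hu using fun k => exists_cd_eq_of_toH_eq_zero hU hmem (hP k) (hvd k) (hv k)
      obtain ⟨r, hr⟩ := exists_solve τ hsurj u
      refine ⟨fun k => b k - w k - cd (P k).obj U m (r k), fun k => ?_,
        fun k => by rw [map_sub, map_sub, hb, hw, cd_cd, sub_zero, sub_zero]⟩
      rw [map_sub, map_sub, ← cd_cmap, hr, map_sub, hu]
      simp only [v]
      abel

end Groth.Agent.FFormal.TowerLim
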