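import Groth.Agent.FFormal.AffVanish
import Groth.Agent.FFormal.TowerLim
import Groth.Agent.FFormal.Algebraize
import Groth.Agent.CohTop.Push
import Groth.Agent.FormalFun.Main
import Groth.Agent.FormalFun.Finite
import Groth.Agent.CohColim.Basic
import Groth.Prelude.Def_FSch5

/-!
# The levels of the completion of a coherent module, pushed to the scheme
-/

set_option autoImplicit false
set_option linter.style.haveILetI false
set_option linter.dupNamespace false

universe u

open CategoryTheory CategoryTheory.Limits AlgebraicGeometry Opposite TopologicalSpace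

namespace Groth.Agent.FFormal.HFCompl

open Groth.Agent
open Groth.Agent.FFormal.TowerLim (im Stat exists_class)

variable {A : Type u} [CommRing A] {I : Ideal A} {X : Scheme.{u}} [X.Over (Spec (CommRingCat.of A))]
  {𝓚 : X.IdealSheafData} (h : (FSch.completionAlong X 𝓚).IsFormal) (F : X.Modules)

local notation "𝔛" => FSch.completionAlong X 𝓚
local notation "pX" => FSch.completionToX X 𝓚
local notation "hpX" => FSch.completionToX_comm X 𝓚

/-- The completed module. -/
noncomputable abbrev cM : FSch.ModSys (FSch.completionAlong X 𝓚) := FFormal.cmp pX hpX F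

/-- The completed module, pushed to the scheme. -/
noncomputable abbrev pushLim : X.Modules := (FFormal.tsm h pX hpX).push.obj ((cM (𝓚 := 𝓚) F).realMod h)

/-- A level, pushed to the scheme. -/
noncomputable abbrev lev (k : ℕ) : X.Modules :=
  (FFormal.tsm h pX hpX).push.obj ((FSch.levelMor (FSch.completionAlong X 𝓚) h k).push.obj ((cM (𝓚 := 𝓚) F).F k))

/-- The projection of the scheme to a level. -/
noncomputable abbrev aLev (k : ℕ) : F ⟶ lev (𝓚 := 𝓚) h F k :=
  (Scheme.Modules.pullbackPushforwardAdjunction (FSch.completionToX X 𝓚 k)).unit.app F ≫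
    (FSch.schPushCompare 𝔛 h pX hpX k).app _

theorem isIso_schPushCompare (k : ℕ) (N : ((FSch.completionAlong X 𝓚).X k).Modules) :
    IsIso ((FSch.schPushCompare 𝔛 h pX hpX k).app N) := by
  rw [Scheme.Modules.Hom.isIso_iff_isIso_app]
  intro U
  exact inferInstanceAs (IsIso (N.presheaf.map (eqToHom (FSch.lvU_p 𝔛 h pX hpX k U).symm).op))

variable [IsNoetherianRing A] [IsProper (X ↘ Spec (CommRingCat.of A))]
variable (h𝓚 : 𝓚 = FormalExist.IdealQuot.baseIdeal X I) (hF : Coh.IsCoh F)

include h𝓚 hF in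
theorem exists_levIso (k : ℕ) :
    ∃ e : Formal.modPow I (k + 1) F ≅ lev (𝓚 := 𝓚) h F k, Formal.modPowπ I (k + 1) F ≫ e.hom = aLev h F k := by
  haveI := hF.1
  haveI := isIso_schPushCompare h k ((Scheme.Modules.pullback (FSch.completionToX X 𝓚 k)).obj F)
  have hq : Formal61.Sys.IsModQuot (I ^ (k + 1)) (aLev h F k) :=
    FormalExist.QuotLem.comp_iso (Algebraize.isModQuot_unit 𝓚 h𝓚 k F)
      (asIso ((FSch.schPushCompare 𝔛 h pX hpX k).app _))
  obtain ⟨e, he⟩ := (Formal61.Sys.isModQuot_modPowπ I (k + 1) F).existsUnique_iso hq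
  exact ⟨e, he⟩

/-- A level is the quotient by the power of the ideal. -/
noncomputable def θ (k : ℕ) : Formal.modPow I (k + 1) F ≅ lev (𝓚 := 𝓚) h F k :=
  (exists_levIso h F h𝓚 hF k).choose

theorem π_θ (k : ℕ) : Formal.modPowπ I (k + 1) F ≫ (θ h F h𝓚 hF k).hom = aLev h F k :=
  (exists_levIso h F h𝓚 hF k).choose_spec

/-- The projection to a quotient. -/
noncomputable def pr' (k : ℕ) : pushLim (𝓚 := 𝓚) h F ⟶ Formal.modPow I (k + 1) F :=
  (FFormal.tsm h pX hpX).push.map (FSch.realProj 𝔛 h (cM (𝓚 := 𝓚) F).F (cM (𝓚 := 𝓚) F).toPush k) ≫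
    (θ h F h𝓚 hF k).inv

/-- The transition of levels. -/
noncomputable abbrev trLev (k : ℕ) : lev (𝓚 := 𝓚) h F (k + 1) ⟶ lev (𝓚 := 𝓚) h F k :=
  (FFormal.tsm h pX hpX).push.map
    ((FSch.levelMor 𝔛 h (k + 1)).push.map ((cM (𝓚 := 𝓚) F).toPush k) ≫
      (FSch.pushCompare 𝔛 h k).app ((cM (𝓚 := 𝓚) F).F k))

theorem aLev_tr (k : ℕ) : aLev h F (k + 1) ≫ trLev h F k = aLev (𝓚 := 𝓚) h F k := by
  have h1 := (FFormal.schUnitCone h pX hpX F).w (homOfLE (Nat.le_succ k)).op
  rw [Functor.comp_map, FSch.levelSysOf_map_succ] at h1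
  exact h1

theorem θ_tr (k : ℕ) : (θ h F h𝓚 hF (k + 1)).hom ≫ trLev h F k =
    Formal.modPowTrans I (k + 1) F ≫ (θ h F h𝓚 hF k).hom := by
  haveI : Epi (Formal.modPowπ I (k + 1 + 1) F) := (Formal61.Sys.isModQuot_modPowπ I (k + 1 + 1) F).epi
  rw [← cancel_epi (Formal.modPowπ I (k + 1 + 1) F), ← Category.assoc, π_θ, aLev_tr, ← Category.assoc,
    Formal.modPowπ_trans, π_θ]

theorem pr'_trans (k : ℕ) :
    pr' h F h𝓚 hF (k + 1) ≫ Formal.modPowTrans I (k + 1) F = pr' h F h𝓚 hF k := by
  have h1 : Formal.modPowTrans I (k + 1) F =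
      (θ h F h𝓚 hF (k + 1)).hom ≫ trLev h F k ≫ (θ h F h𝓚 hF k).inv := by
    rw [← Category.assoc, θ_tr, Category.assoc, Iso.hom_inv_id, Category.comp_id]
  rw [h1, pr', pr', Category.assoc, Iso.inv_hom_id_assoc, ← Category.assoc]
  refine congrArg (· ≫ _) ?_
  refine ((FFormal.tsm h pX hpX).push.map_comp _ _).symm.trans (congrArg _ ?_)
  exact FSch.realProj_map 𝔛 h (cM (𝓚 := 𝓚) F).F (cM (𝓚 := 𝓚) F).toPush k

/-- The tower of quotients. -/
noncomputable abbrev P (I : Ideal A) (F : X.Modules) (k : ℕ) := Coh.toAb (Formal.modPow I (k + 1) F)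

/-- The transitions. -/
noncomputable abbrev τ (I : Ideal A) (F : X.Modules) (k : ℕ) : P I F (k + 1) ⟶ P I F k :=
  (SheafOfModules.toSheaf _).map (Formal.modPowTrans I (k + 1) F)

theorem completion_map_succ (m : ℕ) :
    (Formal.completion I F).map (homOfLE (Nat.le_succ m)).op = Formal.modPowTrans I (m + 1) F :=
  Functor.ofOpSequence_map_homOfLE_succ _ m

theorem range_toHH_le (n : ℕ) : ∀ (j k : ℕ),
    ∀ z : Coh.HH X F n, Formal.toHHmodPow I F n k z ∈ im (H := fun k => Sheaf.H (P I F k) n)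
      (fun k => Sheaf.H.map (τ I F k) n) j k
  | 0, _, _ => AddSubgroup.mem_top _
  | j + 1, k, z => ⟨_, range_toHH_le n j (k + 1) z, ((Formal.toHHlim I F n z).2 k)⟩

theorem im_le_range (n : ℕ) : ∀ (j k m : ℕ) (hkm : k ≤ m), k + j = m →
    ∀ y ∈ im (H := fun k => Sheaf.H (P I F k) n) (fun k => Sheaf.H.map (τ I F k) n) j k,
      y ∈ Set.range (Sheaf.H.map ((SheafOfModules.toSheaf X.ringCatSheaf).map
        ((Formal.completion I F).map (homOfLE hkm).op)) n)
  | 0, k, m, hkm, e, y, _ => by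
    obtain rfl : k = m := by omega
    refine ⟨y, ?_⟩
    rw [show (homOfLE hkm).op = 𝟙 _ from Subsingleton.elim _ _]
    exact (congrArg (fun φ => Sheaf.H.map φ n y)
      ((congrArg _ ((Formal.completion I F).map_id _)).trans ((SheafOfModules.toSheaf _).map_id _))).trans
        (Sheaf.H.map_id_apply _)
  | j + 1, k, m, hkm, e, y, hy => by
    obtain ⟨z, hz, rfl⟩ := hy
    obtain ⟨w, rfl⟩ := im_le_range n j (k + 1) m (by omega) (by omega) z hz
    refine ⟨w, ?_⟩
    rw [show (homOfLE hkm).op = (homOfLE (show k + 1 ≤ m by omega)).op ≫ (homOfLE (Nat.le_succ k)).op from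
      Subsingleton.elim _ _]
    refine (congrArg (fun φ => Sheaf.H.map φ n w)
      ((congrArg _ ((Formal.completion I F).map_comp _ _)).trans ((SheafOfModules.toSheaf _).map_comp _ _))).trans
        ((Sheaf.H.map_comp_apply _ _ _).trans ?_)
    exact congrArg (fun φ => Sheaf.H.map ((SheafOfModules.toSheaf _).map φ) n _) (completion_map_succ F k)

include hF in
theorem stat (n : ℕ) :
    Stat (H := fun k => Sheaf.H (P I F k) n) (fun k => Sheaf.H.map (τ I F k) n) := by
  haveI : IsLocallyNoetherian X := FormalFun.isLocallyNoetherian_of_proper A X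
  haveI : CompactSpace X := FormalFun.compactSpace_of_proper A X
  obtain ⟨c, hc⟩ := FormalFun.mittag_leffler I (FormalFun.finiteCoh_of_proper A X) hF n
  refine fun k => ⟨c, fun j y hy => ?_⟩
  have h1 := (hc k (k + c) (by omega) le_rfl).le (im_le_range F n c k (k + c) (by omega) rfl y hy)
  obtain ⟨z, rfl⟩ := h1
  exact range_toHH_le F n j k z

end Groth.Agent.FFormal.HFCompl
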