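import Groth.Agent.FFormal.Coh
import Groth.Agent.PullFlat.Unit

/-!
# The ideals of definition of a locally Noetherian formal scheme are of finite type
-/

set_option autoImplicit false
set_option linter.style.haveILetI false
set_option linter.dupNamespace false

universe u

open CategoryTheory CategoryTheory.Limits AlgebraicGeometry Opposite TopologicalSpace ModSite

namespace Groth.Agent.FFormal

open Groth.Agent.ModFlat (rs map_val_smul map_val_comp map_ring_comp)
open Groth.Agent.PullFlat (appS appS_res appS_comp appS_injective exists_cover_bind etaS κ κ_etaS)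
open Groth.Agent.LocPres

variable {𝔛 : FSch.Sys.{u}} {h : 𝔛.IsFormal}

/-- Vanishing of the unit on a section of the structure sheaf. -/
theorem unit_app_eq_zero_iff (n : ℕ) (U : (𝔛.X 0).Opens) (y : Rg h U) :
    appS ((FSch.levelMor 𝔛 h n).adj.unit.app (FSch.unitF 𝔛 h)) U y = 0 ↔ pr h n U y = 0 := by
  have e := κ_etaS (FSch.levelMor 𝔛 h n) U y
  constructor
  · intro hy
    refine Eq.trans e.symm ?_
    exact (congrArg (appS (κ (FSch.levelMor 𝔛 h n)) _) hy).trans
      (map_zero (appS (κ (FSch.levelMor 𝔛 h n)) _))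
  · intro hy
    refine appS_injective (κ (FSch.levelMor 𝔛 h n)) ((FSch.levelMor 𝔛 h n).fn.obj U) ?_
    exact (e.trans hy).trans (map_zero (appS (κ (FSch.levelMor 𝔛 h n)) _)).symm

theorem isFiniteType_kernel_unit (hN : 𝔛.IsLocNoethFormal) (n : ℕ) :
    SheafOfModules.IsFiniteType (R := ModSite.ringSh (𝔛.Osh h))
      (kernel ((FSch.levelMor 𝔛 h n).adj.unit.app (FSch.unitF 𝔛 h))) := by
  let η := (FSch.levelMor 𝔛 h n).adj.unit.app (FSch.unitF 𝔛 h)
  refine isFiniteType_of_cover fun U => ?_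
  obtain ⟨S, hS, hS'⟩ := exists_cover_affine (𝔛 := 𝔛) U
  refine ⟨S, hS, fun V g hg => ?_⟩
  obtain ⟨W, hVW, hWU, hW⟩ := hS' g hg
  haveI := isNoetherianRing h hN hW
  obtain ⟨q, e, he⟩ := Submodule.fg_iff_exists_fin_generating_family.1 (IsNoetherian.noetherian (I h W ^ (n + 1)))
  have hz : ∀ l, appS η W (e l) = 0 := fun l => (unit_app_eq_zero_iff n W (e l)).2 (by
    rw [← RingHom.mem_ker, ker_pr h hN hW n, ← he]
    exact Submodule.subset_span ⟨l, rfl⟩)
  choose z hzv using fun l => exists_kernel_el η _ (hz l)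
  refine ⟨LocGen.restrict ({ n := q, s := z, gen := fun {T} t x => ?_ } : LocGen (kernel η) W) (homOfLE hVW)⟩
  let y : Rg h T := appS (kernel.ι η) T x
  have hy : pr h n T y = 0 := (unit_app_eq_zero_iff n T y).1 (by
    show appS η T (appS (kernel.ι η) T x) = 0
    rw [← appS_comp, kernel.condition]
    rfl)
  obtain ⟨S₂, hS₂, hS₂'⟩ := exists_cover_affine (𝔛 := 𝔛) T
  refine ⟨S₂, hS₂, fun V₂ g₂ hg₂ => ?_⟩
  obtain ⟨T', hV₂, hT'T, hT'⟩ := hS₂' g₂ hg₂
  have hT'W := hT'T.trans t.le
  have h1 : rsR h hT'T y ∈ (I h W ^ (n + 1)).map (rsR h hT'W) := by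
    rw [← ker_pr_eq_map h hN hT' hW hT'W n, RingHom.mem_ker, pr_rsR, hy, map_zero]
  rw [← he, Ideal.map_span, ← Set.range_comp] at h1
  obtain ⟨d, hd⟩ := Submodule.mem_span_range_iff_exists_fun _ |>.1 h1
  refine ⟨fun l => rsR h hV₂ (d l), appS_injective (kernel.ι η) V₂ ?_⟩
  rw [appS_sum_smul, appS_res]
  simp only [appS_res, hzv]
  have h2 := congrArg (rsR h hV₂) hd
  simp only [map_sum, smul_eq_mul, map_mul, Function.comp_apply, rsR_rsR] at h2
  exact h2

end Groth.Agent.FFormal
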