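import Groth.Agent.FFormal.Coprod
import Groth.Agent.FFormal.DerivedPerfect
import Groth.Agent.IndCoh.Grothendieck
import Groth.Agent.IndCoh.Small
import Groth.Agent.IndCoh.FP
import Groth.Agent.IndCoh.Derived
import Groth.Agent.KFlat.MapHomology
import Groth.Agent.SitePull.Derived

/-!
# The derived direct image out of the derived category of ind-coherent modules has a right adjoint
-/

set_option autoImplicit false
set_option synthInstance.maxSize 4096
set_option linter.style.haveILetI false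

universe u

open CategoryTheory CategoryTheory.Limits DerivedCategory Pretriangulated

attribute [local instance] HasDerivedCategory.standard

namespace Groth.Agent.FFormal.IndAdjoint

section Generic

variable {B : Type (u + 1)} [Category.{u} B] [Abelian B] [IsGrothendieckAbelian.{u} B] {Q : ObjectProperty B}
  [(ObjectProperty.ind.{u} Q).ContainsZero] [(ObjectProperty.ind.{u} Q).IsClosedUnderKernels]
  [(ObjectProperty.ind.{u} Q).IsClosedUnderCokernels] [(ObjectProperty.ind.{u} Q).IsClosedUnderFiniteProducts]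
  [PreservesFiniteLimits (ObjectProperty.ind.{u} Q).ι] [PreservesFiniteColimits (ObjectProperty.ind.{u} Q).ι]

theorem isGrothendieckAbelian_ind
    (hQ : ∀ (T : Type u) [Finite T] (Y : T → B), (∀ i, Q (Y i)) → Q (∐ Y))
    {K : Type u} (k : K → B) (hk : ∀ i, Q (k i)) (hk' : ∀ M, Q M → ∃ i, Nonempty (k i ≅ M)) :
    IsGrothendieckAbelian.{u} (ObjectProperty.ind.{u} Q).FullSubcategory := by
  let P := ObjectProperty.ind.{u} Q
  haveI : ∀ T : Type u, P.IsClosedUnderColimitsOfShape (Discrete T) :=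
    IndCoh.isClosedUnderColimitsOfShape_ind hQ
  haveI : HasCoproducts.{u} P.FullSubcategory := fun T => inferInstance
  haveI hp : ∀ T : Type u, PreservesColimitsOfShape (Discrete T) P.ι := fun T => inferInstance
  haveI : HasCoequalizers P.FullSubcategory := inferInstance
  haveI : HasColimitsOfSize.{u, u} P.FullSubcategory := has_colimits_of_hasCoequalizers_and_coproducts
  haveI : PreservesColimitsOfSize.{u, u} P.ι := preservesColimits_of_preservesCoequalizers_and_coproducts _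
  let k' : K → P.FullSubcategory := fun i => ⟨k i, Q.le_ind _ (hk i)⟩
  have hsep : (ObjectProperty.ofObj k').IsSeparating := IndCoh.isSeparating_ind k' hk'
  haveI : HasSeparator P.FullSubcategory := ⟨⟨∐ k', (isSeparator_sigma _).2 hsep⟩⟩
  exact
    { hasFilteredColimitsOfSize := ⟨fun _ _ _ => inferInstance⟩
      ab5OfSize := ⟨fun J _ _ => HasExactColimitsOfShape.domain_of_functor J P.ι⟩ }

end Generic

variable {𝔛 𝔜 : FSch.Sys.{u}} (h𝔛 : 𝔛.IsLocNoethFormal) [CompactSpace (𝔛.X 0)] (h𝔜 : 𝔜.IsFormal)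
  [CompactSpace (𝔜.X 0)] (f : 𝔛 ⟶ 𝔜)
  [(IndP 𝔛 h𝔛.1).ContainsZero] [(IndP 𝔛 h𝔛.1).IsClosedUnderKernels] [(IndP 𝔛 h𝔛.1).IsClosedUnderCokernels]
  [(IndP 𝔛 h𝔛.1).IsClosedUnderFiniteProducts]
  [PreservesFiniteLimits (IndP 𝔛 h𝔛.1).ι] [PreservesFiniteColimits (IndP 𝔛 h𝔛.1).ι]

variable [SiteCmp.HasRpushD (FSch.homMor f h𝔛.1 h𝔜)]

include h𝔛 in
theorem isLeftAdjoint :
    ((IndP 𝔛 h𝔛.1).ι.mapDerivedCategory ⋙ SiteCmp.RpushD (FSch.homMor f h𝔛.1 h𝔜)).IsLeftAdjoint := by
  let P := IndP 𝔛 h𝔛.1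
  let L := P.ι.mapDerivedCategory
  let R := SiteCmp.RpushD (FSch.homMor f h𝔛.1 h𝔜)
  haveI : IsGrothendieckAbelian.{u} (FSch.ModF 𝔛 h𝔛.1) := ModShf.isGrothendieckAbelian _
  haveI : IsGrothendieckAbelian.{u} (FSch.ModF 𝔜 h𝔜) := ModShf.isGrothendieckAbelian _
  obtain ⟨K, k, hk, hk'⟩ := IndCoh.exists_small_family (O := 𝔛.Osh h𝔛.1)
  haveI : IsGrothendieckAbelian.{u} P.FullSubcategory := isGrothendieckAbelian_ind
    (Q := fun 𝔊 => FSch.IsCohF 𝔛 h𝔛.1 𝔊) (fun T _ Y hY => IndCoh.isFinitePresentation_sigma T Y hY) k hk hk'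
  haveI : P.ι.IsLeftAdjoint := IndCoh.isLeftAdjoint_ι (B := FSch.ModF 𝔛 h𝔛.1)
    (Q := fun 𝔊 => FSch.IsCohF 𝔛 h𝔛.1 𝔊) (fun T _ Y hY => IndCoh.isFinitePresentation_sigma T Y hY) k hk hk'
  haveI : L.IsLeftAdjoint := IndCoh.isLeftAdjoint_mapDerivedCategory _
  haveI : R.IsRightAdjoint := SitePull.isRightAdjoint_rpushD _
  haveI : R.Additive := Functor.additive_of_preserves_binary_products R
  haveI : LocallySmall.{u} (DerivedCategory (FSch.ModF 𝔜 h𝔜)) := QCohD.locallySmall_derived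
  haveI : HasColimitsOfShape (Discrete ℕ) (DerivedCategory P.FullSubcategory) :=
    QCohD.hasCoproducts_derived_nat'
  haveI hJ : ∀ J : Type u, PreservesColimitsOfShape (Discrete J) (L ⋙ R) := fun J => ⟨fun {M} => by
    have hm : ∀ (j : J) (q : ℤ), P (SiteCmp.HMod (L.obj (M.obj ⟨j⟩)) q) := fun j q =>
      P.prop_of_iso ((KFlat.MapHomology.iso P.ι q).app (M.obj ⟨j⟩)).symm
        ((homologyFunctor P.FullSubcategory q).obj (M.obj ⟨j⟩)).property
    haveI := Coprod.preservesColimit_RpushD h𝔛 h𝔜 f (fun j => L.obj (M.obj ⟨j⟩)) hm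
    haveI : PreservesColimit (M ⋙ L) R :=
      preservesColimit_of_iso_diagram (K₁ := Discrete.functor fun j => L.obj (M.obj ⟨j⟩)) R
        (Discrete.natIso fun j => Iso.refl _)
    haveI : PreservesColimit M L := inferInstance
    infer_instance⟩
  refine DerivedPerfect.isLeftAdjoint (L ⋙ R) fun T hT => ?_
  exact CohDerLib.RFLim.distinguished_RF (FSch.homMor f h𝔛.1 h𝔜).push (L.mapTriangle.obj T)
    (L.map_distinguished T hT)

end Groth.Agent.FFormal.IndAdjoint
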