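import Groth.Agent.FFormal.Sub
import Groth.Agent.LocPres.Colim
import Groth.Agent.IndCoh.FP

/-!
# Ind-coherent modules: coherent images in filtered colimits of coherent modules
-/

set_option autoImplicit false
set_option linter.style.haveILetI false
set_option linter.dupNamespace false

universe u

open CategoryTheory CategoryTheory.Limits AlgebraicGeometry Opposite TopologicalSpace ModSite

namespace Groth.Agent.FFormal

open Groth.Agent.ModFlat (rs map_val_smul map_val_comp map_ring_comp)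
open Groth.Agent.PullFlat (appS appS_res appS_comp appS_injective exists_cover_bind eq_of_locally eq_zero_of_locally
  exists_local_lift mono_of_appS_injective)
open Groth.Agent.LocPres

variable {𝔛 : FSch.Sys.{u}} {h : 𝔛.IsFormal} (hN : 𝔛.IsLocNoethFormal)

include hN in
/-- A coherent module has a presentation on an affine open whose generators span the sections. -/
theorem exists_pres_spanning {F : FSch.ModF 𝔛 h} (hF : FSch.IsCohF 𝔛 h F) {W : (𝔛.X 0).Opens}
    (hW : IsAffineOpen W) :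
    ∃ P : LocPres F W, ∀ x : sect F W, ∃ c : Fin P.n → Rg h W, ∑ i, c i • P.s i = x := by
  haveI := isIso_toReal hN hF
  let e := inv (toReal F)
  obtain ⟨n, m, s, r, hrel, hV, -⟩ := exists_realPres (h := h) (𝔐 := sysOf F) hN (isCoh_sysOf hF) hW
  have hinv : ∀ {T : (𝔛.X 0).Opens} (x : sect F T), appS e T (appS (toReal F) T x) = x := fun {T} x => by
    rw [← appS_comp, IsIso.hom_inv_id]
    rfl
  have hspan : ∀ {V : (𝔛.X 0).Opens}, IsAffineOpen V → ∀ (hVW : V ≤ W) (x : sect F V),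
      ∃ c : Fin n → Rg h V, ∑ i, c i • rs F (homOfLE hVW) (appS e W (s i)) = x := fun {V} hV' hVW x => by
    obtain ⟨c, hc⟩ := Submodule.mem_span_range_iff_exists_fun _ |>.1 ((hV hV' hVW).1 (appS (toReal F) V x))
    refine ⟨c, ?_⟩
    simp only [← appS_res, ← appS_sum_smul, hc]
    exact hinv x
  refine ⟨{ n := n, m := m, s := fun i => appS e W (s i), r := r
            rel := fun k => ?_, gen := fun {T} a x => ?_, relgen := fun {T} a c hc => ?_ }, fun x => ?_⟩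
  · rw [← appS_sum_smul, hrel, map_zero]
  · obtain ⟨S, hS, hS'⟩ := exists_cover_affine (𝔛 := 𝔛) T
    refine ⟨S, hS, fun V g hg => ?_⟩
    obtain ⟨V', hVV', hV'T, hV'⟩ := hS' g hg
    obtain ⟨d, hd⟩ := hspan hV' (hV'T.trans a.le) (rs F (homOfLE hV'T) x)
    refine ⟨fun i => rsR h hVV' (d i), ?_⟩
    have h1 := congrArg (rs F (homOfLE hVV')) hd
    rw [rs_sum_smul] at h1
    simp only [← map_val_comp] at h1
    exact h1
  · obtain ⟨S, hS, hS'⟩ := exists_cover_affine (𝔛 := 𝔛) T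
    refine ⟨S, hS, fun V g hg => ?_⟩
    obtain ⟨V', hVV', hV'T, hV'⟩ := hS' g hg
    have h1 := congrArg (rs F (homOfLE hV'T)) hc
    rw [rs_sum_smul, map_zero] at h1
    simp only [← map_val_comp, ← appS_res, ← appS_sum_smul] at h1
    have h2 := appS_injective e _ (h1.trans (map_zero _).symm)
    obtain ⟨d, hd⟩ := Submodule.mem_span_range_iff_exists_fun _ |>.1 ((hV hV' (hV'T.trans a.le)).2 _ h2)
    refine ⟨fun j => rsR h hVV' (d j), fun i => ?_⟩
    have := congrArg (rsR h hVV') (congrFun hd i)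
    simp only [Finset.sum_apply, Pi.smul_apply, smul_eq_mul, map_sum, map_mul, rsR_rsR] at this
    exact (rsR_rsR hVV' hV'T (c i)).symm.trans this.symm
  · obtain ⟨c, hc⟩ := hspan hW le_rfl x
    refine ⟨c, Eq.trans (Finset.sum_congr rfl fun i _ => congrArg (c i • ·) ?_) hc⟩
    exact (PullFlat.rs_id _ _ _).symm

include hN in
/-- The relations between sections of a coherent module on an affine open are generated by finitely many. -/
theorem exists_rel_gens {F : FSch.ModF 𝔛 h} (hF : FSch.IsCohF 𝔛 h F) {W : (𝔛.X 0).Opens} (hW : IsAffineOpen W)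
    {n : ℕ} (t : Fin n → sect F W) :
    ∃ (q : ℕ) (e : Fin q → Fin n → Rg h W), (∀ l, ∑ i, e l i • t i = 0) ∧
      ∀ {T : (𝔛.X 0).Opens} (a : T ⟶ W) (c : Fin n → Rg h T), ∑ i, c i • rs F a (t i) = 0 →
        ∃ S ∈ Opens.grothendieckTopology (𝔛.X 0) T, ∀ ⦃V : (𝔛.X 0).Opens⦄ (g : V ⟶ T), S g →
          ∃ d : Fin q → Rg h V, ∀ i, rsR h g.le (c i) = ∑ l, d l * rsR h (g ≫ a).le (e l i) := by
  obtain ⟨P, hP⟩ := exists_pres_spanning hN hF hW
  choose k hk using fun i => hP (t i)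
  obtain ⟨q, e, he, hsol⟩ := exists_system_gens hN hW k P.r
  refine ⟨q, e, fun l => ?_, fun {T} a c hc => ?_⟩
  · obtain ⟨b0, hb0⟩ := he l
    simp only [← hk, Finset.smul_sum, smul_smul]
    rw [Finset.sum_comm]
    simp only [← Finset.sum_smul, hb0]
    simp only [Finset.sum_smul, ← smul_smul]
    rw [Finset.sum_comm]
    simp only [← Finset.smul_sum, P.rel, smul_zero, Finset.sum_const_zero]
  · have h0 : ∑ i, (∑ j, c j * rsR h a.le (k j i)) • rs F a (P.s i) = 0 := by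
      rw [← hc]
      simp only [← hk, rs_sum_smul, Finset.smul_sum, smul_smul, Finset.sum_smul]
      rw [Finset.sum_comm]
      rfl
    obtain ⟨S, hS, hS'⟩ := P.relgen a _ h0
    refine exists_cover_bind (fun V g => ∃ d : Fin q → Rg h V,
      ∀ i, rsR h g.le (c i) = ∑ l, d l * rsR h (g ≫ a).le (e l i)) hS fun V g hg => ?_
    obtain ⟨b, hb⟩ := hS' g hg
    obtain ⟨S₂, hS₂, hS₂'⟩ := hsol (g ≫ a).le (fun j => rsR h g.le (c j)) b fun i => by
      have := hb i
      rw [map_sum] at this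
      simp only [map_mul] at this
      refine Eq.trans ?_ this
      refine Finset.sum_congr rfl fun j _ => congrArg (_ * ·) ?_
      exact map_ring_comp (O := 𝔛.Osh h) g a (k j i)
    refine ⟨S₂, hS₂, fun V₂ g₂ hg₂ => ?_⟩
    obtain ⟨d, hd⟩ := hS₂' g₂ hg₂
    refine ⟨d, fun i => ?_⟩
    have h3 := hd i
    rw [rsR_rsR] at h3
    exact h3

section Colim

variable {Λ : Type u} [SmallCategory Λ] [IsFiltered Λ] {D : Λ ⥤ FSch.ModF 𝔛 h} {c : Cocone D} (hc : IsColimit c)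
  (hD : ∀ l, FSch.IsCohF 𝔛 h (D.obj l))

include hN hc hD in
/-- The relations between sections of a filtered colimit of coherent modules coming from a stage on an affine
open are generated by finitely many. -/
theorem exists_rel_gens_colim {W : (𝔛.X 0).Opens} (hW : IsAffineOpen W) {n : ℕ} {l : Λ}
    (y : Fin n → sect (D.obj l) W) :
    ∃ (q : ℕ) (e : Fin q → Fin n → Rg h W), (∀ j, ∑ i, e j i • appS (c.ι.app l) W (y i) = 0) ∧
      ∀ {T : (𝔛.X 0).Opens} (a : T ⟶ W) (d : Fin n → Rg h T),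
        ∑ i, d i • rs c.pt a (appS (c.ι.app l) W (y i)) = 0 →
        ∃ S ∈ Opens.grothendieckTopology (𝔛.X 0) T, ∀ ⦃V : (𝔛.X 0).Opens⦄ (g : V ⟶ T), S g →
          ∃ b : Fin q → Rg h V, ∀ i, rsR h g.le (d i) = ∑ j, b j * rsR h (g ≫ a).le (e j i) := by
  haveI := isNoetherianRing h hN hW
  let R : (Σ m : Λ, l ⟶ m) → Submodule (Rg h W) (Fin n → Rg h W) := fun p =>
    { carrier := {v | ∑ i, v i • appS (D.map p.2) W (y i) = 0}
      zero_mem' := by simp
      add_mem' := fun {v v'} hv hv' => by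
        simp only [Set.mem_ofPred_eq, Pi.add_apply, add_smul, Finset.sum_add_distrib] at hv hv' ⊢
        rw [hv, hv', add_zero]
      smul_mem' := fun r {v} hv => by
        simp only [Set.mem_ofPred_eq, Pi.smul_apply, smul_eq_mul, ← smul_smul, ← Finset.smul_sum] at hv ⊢
        rw [hv, smul_zero] }
  have hmono : ∀ {m m' : Λ} (f : l ⟶ m) (a : m ⟶ m'), R ⟨m, f⟩ ≤ R ⟨m', f ≫ a⟩ := fun {m m'} f a v hv => by
    show ∑ i, v i • appS (D.map (f ≫ a)) W (y i) = 0
    simp only [Functor.map_comp, appS_comp, ← appS_sum_smul]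
    have h1 : ∑ i, v i • appS (D.map f) W (y i) = 0 := hv
    rw [← appS_sum_smul] at h1
    exact (congrArg (appS (D.map a) W) h1).trans (map_zero _)
  obtain ⟨_, ⟨⟨m₀, f₀⟩, rfl⟩, hmax⟩ := set_has_maximal_iff_noetherian.2 (inferInstance : IsNoetherian (Rg h W)
    (Fin n → Rg h W)) (Set.range R) ⟨_, ⟨⟨l, 𝟙 l⟩, rfl⟩⟩
  have hall : ∀ {m : Λ} (f : l ⟶ m), R ⟨m, f⟩ ≤ R ⟨m₀, f₀⟩ := fun {m} f => by
    let a := IsFiltered.leftToMax m m₀
    let b := IsFiltered.rightToMax m m₀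
    let k := IsFiltered.coeqHom (f ≫ a) (f₀ ≫ b)
    have e1 : f ≫ a ≫ k = f₀ ≫ b ≫ k := by
      simpa only [Category.assoc] using IsFiltered.coeq_condition (f ≫ a) (f₀ ≫ b)
    have h0 := hmono f₀ (b ≫ k)
    have h1 := hmono f (a ≫ k)
    rw [e1] at h1
    have h2 := hmax _ ⟨⟨_, f₀ ≫ b ≫ k⟩, rfl⟩
    rw [h0.eq_of_not_lt h2]
    exact h1
  obtain ⟨q, e, he⟩ := Submodule.fg_iff_exists_fin_generating_family.1 (IsNoetherian.noetherian (R ⟨m₀, f₀⟩))
  refine ⟨q, e, fun j => ?_, fun {T} a d hd => ?_⟩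
  · have h1 : ∑ i, e j i • appS (D.map f₀) W (y i) = 0 :=
      (show e j ∈ R ⟨m₀, f₀⟩ from he ▸ Submodule.subset_span ⟨j, rfl⟩)
    have h2 := congrArg (appS (c.ι.app m₀) W) h1
    rw [appS_sum_smul, map_zero] at h2
    simp only [← appS_comp, c.w] at h2
    exact h2
  · have h0 : appS (c.ι.app l) T (∑ i, d i • rs (D.obj l) a (y i)) = 0 := by
      rw [appS_sum_smul]
      simp only [appS_res]
      exact hd
    obtain ⟨S, hS, hS'⟩ := exists_zero_stage hc _ h0
    refine exists_cover_bind (fun V g => ∃ b : Fin q → Rg h V,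
      ∀ i, rsR h g.le (d i) = ∑ j, b j * rsR h (g ≫ a).le (e j i)) hS fun V g hg => ?_
    obtain ⟨m, f, hf⟩ := hS' g hg
    rw [rs_sum_smul, appS_sum_smul] at hf
    simp only [← map_val_comp, appS_res] at hf
    obtain ⟨q', e', he', hsol⟩ := exists_rel_gens hN (hD m) hW fun i => appS (D.map f) W (y i)
    obtain ⟨S₂, hS₂, hS₂'⟩ := hsol (g ≫ a) (fun i => rsR h g.le (d i)) hf
    refine ⟨S₂, hS₂, fun V₂ g₂ hg₂ => ?_⟩
    obtain ⟨b', hb'⟩ := hS₂' g₂ hg₂
    choose w hw using fun j => Submodule.mem_span_range_iff_exists_fun _ |>.1 (he.symm ▸ hall f (he' j))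
    refine ⟨fun p => ∑ j, b' j * rsR h (g₂ ≫ g ≫ a).le (w j p), fun i => ?_⟩
    have h3 := hb' i
    rw [rsR_rsR] at h3
    refine h3.trans ?_
    simp only [← hw, Finset.sum_apply, Pi.smul_apply, smul_eq_mul, map_sum, map_mul, Finset.mul_sum, Finset.sum_mul,
      mul_assoc]
    rw [Finset.sum_comm]

set_option maxHeartbeats 4000000 in
include hN hc hD in
theorem nonempty_locGen_kernel_colim {M : FSch.ModF 𝔛 h} (φ : M ⟶ c.pt) {V W : (𝔛.X 0).Opens}
    (hW : IsAffineOpen W) (P : LocPres M V) (r : W ⟶ V) {l : Λ} (y : Fin P.n → sect (D.obj l) W)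
    (hs : ∀ i, appS φ W (rs M r (P.s i)) = appS (c.ι.app l) W (y i)) : Nonempty (LocGen (kernel φ) W) := by
  obtain ⟨q, e, he, hsol⟩ := exists_rel_gens_colim hN hc hD hW y
  have hz : ∀ j, appS φ W (∑ i, e j i • rs M r (P.s i)) = 0 := fun j => by
    rw [appS_sum_smul]
    simp only [hs]
    exact he j
  choose z hzv using fun j => exists_kernel_el φ _ (hz j)
  refine ⟨{ n := q, s := z, gen := fun {T} a x => ?_ }⟩
  obtain ⟨S₄, hS₄, hS₄'⟩ := (P.restrict r).gen a (appS (kernel.ι φ) T x)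
  refine exists_cover_bind (fun V' g' => ∃ d : Fin q → Rg h V',
    ∑ j, d j • rs (kernel φ) (g' ≫ a) (z j) = rs (kernel φ) g' x) hS₄ fun V₄ g₄ hg₄ => ?_
  obtain ⟨d, hd⟩ : ∃ d : Fin P.n → Rg h V₄, ∑ i, d i • rs M (g₄ ≫ a) (rs M r (P.s i)) =
      rs M g₄ (appS (kernel.ι φ) T x) := hS₄' g₄ hg₄
  obtain ⟨S₅, hS₅, hS₅'⟩ := hsol (g₄ ≫ a) d (by
    have h1 := congrArg (appS φ V₄) hd
    have hk0 : appS φ T (appS (kernel.ι φ) T x) = 0 :=
      (appS_comp _ _ _).symm.trans (congrArg (fun t => appS t T x) (kernel.condition φ))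
    refine Eq.trans ?_ (h1.trans ((appS_res φ g₄ _).trans ((congrArg (rs c.pt g₄) hk0).trans (map_zero _))))
    refine Eq.trans (Finset.sum_congr rfl fun i _ => ?_) (appS_sum_smul φ d fun i => rs M (g₄ ≫ a) (rs M r (P.s i))).symm
    exact congrArg (d i • ·) ((congrArg (rs c.pt (g₄ ≫ a)) (hs i).symm).trans (appS_res φ _ _).symm))
  refine ⟨S₅, hS₅, fun V₅ g₅ hg₅ => ?_⟩
  obtain ⟨b, hb⟩ := hS₅' g₅ hg₅
  refine ⟨b, appS_injective (kernel.ι φ) _ ?_⟩
  refine (appS_sum_smul _ _ _).trans (Eq.trans ?_ (appS_res _ _ _).symm)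
  have hz' : ∀ j, appS (kernel.ι φ) V₅ (rs (kernel φ) ((g₅ ≫ g₄) ≫ a) (z j)) =
      ∑ i, rsR h ((g₅ ≫ g₄) ≫ a).le (e j i) • rs M ((g₅ ≫ g₄) ≫ a) (rs M r (P.s i)) := fun j =>
    ((appS_res _ _ _).trans (congrArg (rs M _) (hzv j))).trans (rs_sum_smul _ _ _)
  simp only [hz', Finset.smul_sum, smul_smul]
  rw [Finset.sum_comm]
  simp only [← Finset.sum_smul]
  rw [map_val_comp g₅ g₄, ← hd, rs_sum_smul]
  refine Finset.sum_congr rfl fun i _ => ?_
  refine congrArg₂ (fun (t : Rg h V₅) (m : sect M V₅) => t • m) (hb i).symm ?_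
  exact (congrArg (fun t => rs M t (rs M r (P.s i))) (Category.assoc g₅ g₄ a)).trans (map_val_comp g₅ (g₄ ≫ a) _)

include hN hc hD in
/-- Kernels of maps from coherent modules to filtered colimits of coherent modules are coherent. -/
theorem isCohF_kernel_to_colim {M : FSch.ModF 𝔛 h} (hM : FSch.IsCohF 𝔛 h M) (φ : M ⟶ c.pt) :
    FSch.IsCohF 𝔛 h (kernel φ) := by
  haveI : SheafOfModules.IsFinitePresentation (R := ModSite.ringSh (𝔛.Osh h)) M := hM
  haveI : SheafOfModules.IsFiniteType (R := ModSite.ringSh (𝔛.Osh h)) (kernel φ) := by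
    refine isFiniteType_of_cover fun U => ?_
    obtain ⟨S, hS, hS'⟩ := exists_cover_locPres M U
    refine exists_cover_bind (fun V _ => Nonempty (LocGen (kernel φ) V)) hS fun V g hg => ?_
    obtain ⟨P⟩ := hS' g hg
    obtain ⟨S₂, hS₂, hS₂'⟩ := exists_stages hc fun i => appS φ V (P.s i)
    refine exists_cover_bind (fun V' _ => Nonempty (LocGen (kernel φ) V')) hS₂ fun V₂ g₂ hg₂ => ?_
    obtain ⟨l, y, hy⟩ := hS₂' g₂ hg₂
    obtain ⟨S₃, hS₃, hS₃'⟩ := exists_cover_affine (𝔛 := 𝔛) V₂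
    refine ⟨S₃, hS₃, fun V₃ g₃ hg₃ => ?_⟩
    obtain ⟨W, hV₃W, hWV, hW⟩ := hS₃' g₃ hg₃
    let r := homOfLE hWV ≫ g₂
    obtain ⟨L⟩ := nonempty_locGen_kernel_colim hN hc hD φ hW P r (fun i => rs (D.obj l) (homOfLE hWV) (y i)) fun i => by
      refine (appS_res φ r _).trans (Eq.trans ?_ (appS_res (c.ι.app l) _ _).symm)
      exact (map_val_comp _ _ _).trans (congrArg (rs c.pt (homOfLE hWV)) (hy i)).symm
    exact ⟨L.restrict (homOfLE hV₃W)⟩
  exact isCohF_of_mono hN (kernel.ι φ) hM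

end Colim

include hN in
/-- A directed union of coherent images in a coherent module is coherent. -/
theorem isCohF_of_directed_images {Λ : Type u} [Nonempty Λ] {K F : FSch.ModF 𝔛 h} (ι : K ⟶ F) [Mono ι]
    (hF : FSch.IsCohF 𝔛 h F) (Q : Λ → FSch.ModF 𝔛 h) (hQ : ∀ k, FSch.IsCohF 𝔛 h (Q k)) (g : ∀ k, Q k ⟶ K)
    (hdir : ∀ k k', ∃ (k'' : Λ) (a : Q k ⟶ Q k'') (b : Q k' ⟶ Q k''), a ≫ g k'' = g k ∧ b ≫ g k'' = g k')
    (hsurj : ∀ (T : (𝔛.X 0).Opens) (x : sect K T), ∃ S ∈ Opens.grothendieckTopology (𝔛.X 0) T,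
      ∀ ⦃V : (𝔛.X 0).Opens⦄ (j : V ⟶ T), S j → ∃ (k : Λ) (y : sect (Q k) V), appS (g k) V y = rs K j x) :
    FSch.IsCohF 𝔛 h K := by
  haveI : SheafOfModules.IsFiniteType (R := ModSite.ringSh (𝔛.Osh h)) K := by
    refine isFiniteType_of_cover fun U => ?_
    obtain ⟨S, hS, hS'⟩ := exists_cover_affine (𝔛 := 𝔛) U
    refine ⟨S, hS, fun V j hj => ?_⟩
    obtain ⟨W, hVW, hWU, hW⟩ := hS' j hj
    haveI := isNoetherianRing h hN hW
    haveI : Module.Finite (Rg h W) (sect F W) := (sect_spec hN hF hW).1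
    let N : Λ → Submodule (Rg h W) (sect F W) := fun k => LinearMap.range (appS (g k ≫ ι) W)
    obtain ⟨_, ⟨k₀, rfl⟩, hmax⟩ := set_has_maximal_iff_noetherian.2
      (inferInstance : IsNoetherian (Rg h W) (sect F W)) (Set.range N) (Set.range_nonempty N)
    have hmono : ∀ {k k' : Λ} (a : Q k ⟶ Q k'), a ≫ g k' = g k → N k ≤ N k' := fun {k k'} a ha => by
      rintro _ ⟨y, rfl⟩
      exact ⟨appS a W y, by rw [← appS_comp, reassoc_of% ha]⟩
    have hall : ∀ k, N k ≤ N k₀ := fun k => by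
      obtain ⟨k'', a, b, ha, hb⟩ := hdir k k₀
      rw [(hmono b hb).eq_of_not_lt (hmax _ ⟨k'', rfl⟩)]
      exact hmono a ha
    obtain ⟨P, hP⟩ := exists_pres_spanning hN (hQ k₀) hW
    have L : LocGen K W := by
      refine { n := P.n, s := fun i => appS (g k₀) W (P.s i), gen := fun {T} a x => ?_ }
      obtain ⟨S₁, hS₁, hS₁'⟩ := hsurj T x
      refine exists_cover_bind (fun V' g' => ∃ d : Fin P.n → Rg h V',
        ∑ i, d i • rs K (g' ≫ a) (appS (g k₀) W (P.s i)) = rs K g' x) hS₁ fun V₁ j₁ hj₁ => ?_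
      obtain ⟨k, y, hy⟩ := hS₁' j₁ hj₁
      obtain ⟨Pk, hPk⟩ := exists_pres_spanning hN (hQ k) hW
      have hw : ∀ i, ∃ w : Fin P.n → Rg h W,
          ∑ p, w p • appS (g k₀) W (P.s p) = appS (g k) W (Pk.s i) := fun i => by
        obtain ⟨u', hu⟩ := hall k ⟨Pk.s i, rfl⟩
        obtain ⟨w, rfl⟩ := hP u'
        refine ⟨w, appS_injective ι W ?_⟩
        rw [appS_sum_smul] at hu
        rw [appS_sum_smul]
        simp only [← appS_comp]
        exact hu
      choose w hw' using hw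
      obtain ⟨S₂, hS₂, hS₂'⟩ := Pk.gen (j₁ ≫ a) y
      refine ⟨S₂, hS₂, fun V₂ j₂ hj₂ => ?_⟩
      obtain ⟨d, hd⟩ := hS₂' j₂ hj₂
      refine ⟨fun p => ∑ i, d i * rsR h (j₂ ≫ j₁ ≫ a).le (w i p), ?_⟩
      rw [map_val_comp j₂ j₁, ← hy, ← appS_res, ← hd, appS_sum_smul]
      simp only [appS_res, ← hw', rs_sum_smul, Finset.smul_sum, smul_smul, Finset.sum_smul, Category.assoc]
      rw [Finset.sum_comm]
      rfl
    exact ⟨L.restrict (homOfLE hVW)⟩
  exact isCohF_of_mono hN ι hF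

end Groth.Agent.FFormal
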