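import Groth.Agent.FFormal.IndCat
import Groth.Agent.LocPres.GPres
import Groth.Agent.LocPres.TensorGen

/-!
# Ind-coherent modules are quasi-coherent
-/

set_option autoImplicit false
set_option linter.style.haveILetI false
set_option linter.dupNamespace false

universe u

open CategoryTheory CategoryTheory.Limits AlgebraicGeometry Opposite TopologicalSpace ModSite

namespace Groth.Agent.FFormal

open Groth.Agent.ModFlat (rs map_val_smul map_val_comp map_ring_comp)
open Groth.Agent.PullFlat (appS appS_res appS_comp exists_cover_bind eq_zero_of_locally)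
open Groth.Agent.LocPres

variable {𝔛 : FSch.Sys.{u}} {h : 𝔛.IsFormal} (hN : 𝔛.IsLocNoethFormal)

include hN in
/-- A filtered colimit of coherent modules has a presentation on every affine open. -/
theorem nonempty_gPres_colim {Λ : Type u} [SmallCategory Λ] [IsFiltered Λ] {D : Λ ⥤ FSch.ModF 𝔛 h}
    {c : Cocone D} (hc : IsColimit c) (hD : ∀ l, FSch.IsCohF 𝔛 h (D.obj l)) {W : (𝔛.X 0).Opens}
    (hW : IsAffineOpen W) : Nonempty (GPres (O := 𝔛.Osh h) c.pt W) := by
  classical
  choose P hP using fun l => exists_pres_spanning hN (hD l) hW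
  let ι₀ := Σ l : Λ, Fin (P l).n
  let s : ι₀ → sect c.pt W := fun p => appS (c.ι.app p.1) W ((P p.1).s p.2)
  let t := freeT (𝔛.Osh h) W ι₀
  let κ₀ := {k : ι₀ →₀ Rg h W // combS s (𝟙 W) k = 0}
  let z : κ₀ → sect (SheafOfModules.free (R := ringSh (𝔛.Osh h)) ι₀ : Mod (𝔛.Osh h)) W :=
    fun k => combS t (𝟙 W) k.1
  have hz : ∀ ⦃T : (𝔛.X 0).Opens⦄ (a : T ⟶ W) (k : κ₀),
      rs _ a (z k) = combS t a (k.1.mapRange ((𝔛.Osh h).obj.map a.op).hom (map_zero _)) := fun T a k => by
    refine (combS_res t a (𝟙 W) k.1).trans ?_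
    rw [Category.comp_id]
  refine ⟨{ G := _, I := ι₀, K := κ₀, t := t, s := s, z := z, tgen := isGen_freeT, tindep := isIndep_freeT,
            sgen := fun T a x => ?_, vanish := fun T a d k hd => ?_, gen := fun T a d hd => ?_ }⟩
  · refine (exists_stage hc x).elim fun S hS => ?_
    refine exists_cover_bind (fun V g => ∃ d : ι₀ →₀ Rg h V, combS s (g ≫ a) d = rs c.pt g x) hS.1
      fun V g hg => ?_
    refine (hS.2 g hg).elim fun l hl => hl.elim fun y hy => ?_
    refine ((P l).gen (g ≫ a) y).imp fun S₂ h2 => ⟨h2.1, fun V₂ g₂ hg₂ => ?_⟩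
    refine (h2.2 g₂ hg₂).elim fun d hd => ?_
    refine ⟨∑ i, Finsupp.single ⟨l, i⟩ (d i), ?_⟩
    rw [map_sum]
    refine Eq.trans (Finset.sum_congr rfl fun i _ => (combS_single s _ _ _).trans ?_)
      ((appS_sum_smul (c.ι.app l) d fun i => rs (D.obj l) (g₂ ≫ g ≫ a) ((P l).s i)).symm.trans ?_)
    · rw [Category.assoc]
      exact congrArg (d i • ·) (appS_res (c.ι.app l) _ _).symm
    · exact (congrArg (appS (c.ι.app l) V₂) hd).trans
        ((appS_res (c.ι.app l) g₂ y).trans ((congrArg (rs c.pt g₂) hy).trans (map_val_comp _ _ _).symm))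
  · have h1 : combS t a (d - k.1.mapRange ((𝔛.Osh h).obj.map a.op).hom (map_zero _)) = 0 := by
      rw [map_sub, hd, ← hz, sub_self]
    have h2 : combS s a (k.1.mapRange ((𝔛.Osh h).obj.map a.op).hom (map_zero _)) = 0 := by
      have h3 := combS_res s a (𝟙 W) k.1
      rw [Category.comp_id, k.2, map_zero] at h3
      exact h3.symm
    refine (isIndep_freeT a _ h1).elim fun S hS => ?_
    refine eq_zero_of_locally c.pt hS.1 _ fun V g hg => ?_
    have h4 : rs c.pt g (combS s a (d - k.1.mapRange ((𝔛.Osh h).obj.map a.op).hom (map_zero _))) = 0 := by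
      rw [combS_res]
      rw [show Finsupp.mapRange ((𝔛.Osh h).obj.map g.op).hom (map_zero _)
          (d - k.1.mapRange ((𝔛.Osh h).obj.map a.op).hom (map_zero _)) = 0 from
        Finsupp.ext fun i => Finsupp.mapRange_apply.trans (hS.2 g hg i), map_zero]
    rw [map_sub, h2, sub_zero] at h4
    exact h4
  · let n := d.support.card
    let e : Fin n ≃ d.support := d.support.equivFin.symm
    let emb : Fin n → ι₀ := fun i => (e i).1
    have hemb : Function.Injective emb := Subtype.val_injective.comp e.injective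
    let d' : Fin n → Rg h T := fun i => d (emb i)
    have hdd : d = ∑ i, Finsupp.single (emb i) (d' i) := by
      refine d.sum_single.symm.trans ?_
      rw [Finsupp.sum, ← Finset.sum_coe_sort, ← e.sum_comp]
    refine (IsFiltered.sup_objs_exists (d.support.image Sigma.fst)).elim fun l₀ hl₀ => ?_
    let f : ∀ i, (emb i).1 ⟶ l₀ := fun i => (hl₀ (Finset.mem_image_of_mem Sigma.fst (e i).2)).some
    let y : Fin n → sect (D.obj l₀) W := fun i => appS (D.map (f i)) W ((P (emb i).1).s (emb i).2)
    have hy : ∀ i, appS (c.ι.app l₀) W (y i) = s (emb i) := fun i =>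
      (appS_comp _ _ _).symm.trans (congrArg (fun q => appS q W ((P (emb i).1).s (emb i).2)) (c.w (f i)))
    refine (exists_rel_gens_colim hN hc hD hW y).elim fun q hq => hq.elim fun r hr => ?_
    have hk : ∀ j, combS s (𝟙 W) (∑ i, Finsupp.single (emb i) (r j i)) = 0 := fun j => by
      refine (map_sum _ _ _).trans (Eq.trans (Finset.sum_congr rfl fun i _ => ?_) (hr.1 j))
      refine (combS_single s _ _ _).trans (congrArg (r j i • ·) ?_)
      exact (PullFlat.rs_id _ _ _).trans (hy i).symm
    have hd0 : ∑ i, d' i • rs c.pt a (appS (c.ι.app l₀) W (y i)) = 0 := by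
      refine Eq.trans ?_ hd
      rw [hdd, map_sum]
      exact Finset.sum_congr rfl fun i _ =>
        ((congrArg (fun u => d' i • rs c.pt a u) (hy i))).trans (combS_single s _ _ _).symm
    refine (hr.2 a d' hd0).imp fun S hS => ⟨hS.1, fun V g hg => ?_⟩
    refine (hS.2 g hg).elim fun b hb => ?_
    refine ⟨∑ j, Finsupp.single (⟨_, hk j⟩ : κ₀) (b j), ?_⟩
    rw [map_sum, combS_res]
    refine Eq.trans (Finset.sum_congr rfl fun j _ => (combS_single z _ _ _).trans
      ((congrArg (b j • ·) (hz _ _)).trans (map_smul _ _ _).symm)) ?_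
    rw [← map_sum]
    refine congrArg (combS t (g ≫ a)) ?_
    conv_rhs => rw [hdd]
    ext p
    simp only [Finsupp.finsetSum_apply, Finsupp.smul_apply, Finsupp.mapRange_apply, Finsupp.single_apply, map_sum,
      apply_ite ((𝔛.Osh h).obj.map (g ≫ a).op).hom, apply_ite ((𝔛.Osh h).obj.map g.op).hom, map_zero, smul_eq_mul,
      Finset.mul_sum, mul_ite, mul_zero]
    rw [Finset.sum_comm]
    refine Finset.sum_congr rfl fun i _ => ?_
    split_ifs with hp
    · exact (hb i).symm
    · exact Finset.sum_const_zero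

include hN in
/-- Ind-coherent modules are quasi-coherent. -/
theorem isQuasicoherent_of_indP {X : FSch.ModF 𝔛 h} (hX : IndP 𝔛 h X) :
    SheafOfModules.IsQuasicoherent (R := ringSh (𝔛.Osh h)) X := by
  obtain ⟨J, _, _, P, hP⟩ := hX
  refine isQuasicoherent_of_cover fun U => ?_
  refine (exists_cover_affine (𝔛 := 𝔛) U).imp fun S hS => ⟨hS.1, fun V g hg => ?_⟩
  obtain ⟨W, hVW, -, hW⟩ := hS.2 g hg
  exact (nonempty_gPres_colim hN P.isColimit hP hW).map fun G => G.restrict (homOfLE hVW)

end Groth.Agent.FFormal
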