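import Groth.Agent.FFormal.Real
import Groth.Agent.CohOps.FP
import Mathlib.CategoryTheory.Adjunction.Unique

/-!
# Coherent modules on a locally Noetherian formal scheme are limits of coherent systems
-/

set_option autoImplicit false
set_option linter.style.haveILetI false
set_option linter.dupNamespace false

universe u

open CategoryTheory CategoryTheory.Limits AlgebraicGeometry Opposite TopologicalSpace ModSite

namespace Groth.Agent.FFormal

open Groth.Agent.QCoh (res rres res_res res_smul)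
open Groth.Agent.ModFlat (rs map_val_smul map_val_comp map_ring_comp)
open Groth.Agent.PullFlat (appS appS_res appS_comp appS_zero etaS pl mono_of_appS_injective exists_cover_bind
  eq_of_locally eq_zero_of_locally rs_id)
open Groth.Agent.LocPres

section Site

variable {C : Type u} [SmallCategory C] {J : GrothendieckTopology C} {O : Sheaf J CommRingCat.{u}}

/-- A morphism carrying a generating family to a presentation is an isomorphism. -/
theorem isIso_of_pres {F G : Mod O} (φ : F ⟶ G)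
    (hloc : ∀ U : C, ∃ S ∈ J U, ∀ ⦃V : C⦄ (g : V ⟶ U), S g → ∃ (P : LocGen F V) (Q : LocPres G V) (e : Fin Q.n = Fin P.n),
      (∀ i, appS φ V (P.s (cast e i)) = Q.s i) ∧
        ∀ k, ∑ i, Q.r k i • P.s (cast e i) = 0) : IsIso φ := by
  have : Mono φ := mono_of_appS_injective φ fun U x hx => by
    obtain ⟨S, hS, hS'⟩ := hloc U
    refine eq_zero_of_locally F hS x fun V g hg => ?_
    obtain ⟨P, Q, e, hPQ, hrel⟩ := hS' g hg
    obtain ⟨S₂, hS₂, hS₂'⟩ := P.gen (𝟙 V) (rs F g x)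
    refine eq_zero_of_locally F hS₂ _ fun W g₂ hg₂ => ?_
    obtain ⟨c, hc⟩ := hS₂' g₂ hg₂
    have hc' : ∑ i, c (cast e i) • rs F (g₂ ≫ 𝟙 V) (P.s (cast e i)) = rs F g₂ (rs F g x) := by
      rw [← hc]
      exact Fintype.sum_equiv (Equiv.cast e) _ _ fun _ => rfl
    have h0 : ∑ i, c (cast e i) • rs G (g₂ ≫ 𝟙 V) (Q.s i) = 0 := by
      have := congrArg (appS φ W) hc'
      rw [appS_sum_smul, appS_res, appS_res, hx, map_zero, map_zero] at this
      simp only [appS_res, hPQ] at this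
      exact this
    obtain ⟨S₃, hS₃, hS₃'⟩ := Q.relgen (g₂ ≫ 𝟙 V) _ h0
    refine eq_zero_of_locally F hS₃ _ fun W' g₃ hg₃ => ?_
    obtain ⟨b, hb⟩ := hS₃' g₃ hg₃
    rw [← hc', rs_sum_smul]
    simp only [hb, ← map_val_comp, Finset.sum_smul, ← smul_smul]
    rw [Finset.sum_comm]
    refine Finset.sum_eq_zero fun k _ => ?_
    rw [← Finset.smul_sum]
    refine Eq.trans (congrArg (b k • ·) ?_) (smul_zero (b k))
    refine Eq.trans ?_ ((congrArg (rs F (g₃ ≫ g₂ ≫ 𝟙 V)) (hrel k)).trans (map_zero _))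
    rw [rs_sum_smul]
  have : Epi φ := Preadditive.epi_of_cancel_zero _ fun {N} t ht =>
    SheafOfModules.hom_ext (PresheafOfModules.hom_ext fun U => ModuleCat.hom_ext (LinearMap.ext fun y => by
      obtain ⟨S, hS, hS'⟩ := hloc U.unop
      refine eq_zero_of_locally N hS (appS t U.unop y) fun V g hg => ?_
      obtain ⟨P, Q, e, hPQ, -⟩ := hS' g hg
      rw [← appS_res]
      obtain ⟨S₂, hS₂, hS₂'⟩ := Q.gen (𝟙 V) (rs G g y)
      refine eq_zero_of_locally N hS₂ _ fun W g₂ hg₂ => ?_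
      obtain ⟨c, hc⟩ := hS₂' g₂ hg₂
      rw [← appS_res, ← hc, appS_sum_smul]
      refine Finset.sum_eq_zero fun i _ => ?_
      rw [← hPQ i, ← appS_res φ, ← appS_comp, ht, appS_zero, smul_zero]))
  exact isIso_of_mono_of_epi φ

variable {D : Type u} [SmallCategory D] {K : GrothendieckTopology D} {O_D : Sheaf K CommRingCat.{u}}

theorem appS_homEquiv_symm (f : RMor O O_D) {M : Mod O_D} {G : Mod O} (θ : M ⟶ f.push.obj G) (U : D)
    (m : sect M U) :
    appS ((f.adj.homEquiv M G).symm θ) (f.fn.obj U) (etaS f M U m) = (θ.val.app (op U)).hom m := by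
  conv_rhs => rw [← (f.adj.homEquiv M G).apply_symm_apply θ, Adjunction.homEquiv_unit]
  rfl

end Site

variable {𝔛 : FSch.Sys.{u}} {h : 𝔛.IsFormal}

theorem rres_rsR (k : ℕ) {V U : (𝔛.X 0).Opens} (hVU : V ≤ U) (a : B h k U) :
    rres (lvU_mono h k hVU) a = rsB h k hVU a := rfl

/-- Opens of a level are covered by the opens over affine opens of the common space. -/
theorem exists_cover_lvU (k : ℕ) (T : (𝔛.X k).Opens) :
    ∃ S ∈ Opens.grothendieckTopology (𝔛.X k) T, ∀ ⦃V : (𝔛.X k).Opens⦄ (g : V ⟶ T), S g →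
      ∃ U : (𝔛.X 0).Opens, IsAffineOpen U ∧ V ≤ 𝔛.lvU h k U := by
  refine ⟨{ arrows := fun V _ => ∃ U : (𝔛.X 0).Opens, IsAffineOpen U ∧ V ≤ 𝔛.lvU h k U
            downward_closed := fun {Y Z} {f} ⟨U, h1, h2⟩ g => ⟨U, h1, g.le.trans h2⟩ }, fun y hy => ?_,
    fun V g hg => hg⟩
  obtain ⟨_, ⟨U, hU, rfl⟩, hyU, -⟩ := (𝔛.X 0).isBasis_affineOpens.exists_subset_of_mem_open
    (show 𝔛.gInv h k y ∈ ((⊤ : (𝔛.X 0).Opens) : Set (𝔛.X 0)) from trivial) isOpen_univ
  exact ⟨T ⊓ 𝔛.lvU h k U, homOfLE inf_le_left, ⟨U, hU, inf_le_right⟩, hy, hyU⟩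

/-- A presentation of the sheaf-theoretic kind from one on the sections over an affine open. -/
theorem PresOn.exists_toLocPres {X : Scheme.{u}} {F : X.Modules} [F.IsQuasicoherent] {U : X.Opens}
    (hU : IsAffineOpen U) {n m : ℕ} {s : Fin n → Γ(F, U)} {r : Fin m → Fin n → Γ(X, U)} (P : PresOn F U s r) :
    ∃ Q : LocPres (O := X.sheaf) F U, ∃ (e : Fin Q.n = Fin n) (e' : Fin Q.m = Fin m),
      (∀ i, Q.s i = s (cast e i)) ∧ ∀ k i, Q.r k i = r (cast e' k) (cast e i) := by
  obtain ⟨hrel, hgen, hrelgen⟩ := P.exists_locPres hU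
  exact ⟨{ n := n, m := m, s := s, r := r, rel := hrel, gen := hgen, relgen := hrelgen }, rfl, rfl,
    fun i => rfl, fun k i => rfl⟩

/-- The inverse image of the limit to a level is the module of the level. -/
theorem isIso_pull_realProj (hN : 𝔛.IsLocNoethFormal) {𝔐 : FSch.ModSys 𝔛} (hM : 𝔐.IsCoh) (k : ℕ) :
    IsIso (((FSch.levelMor 𝔛 h k).adj.homEquiv _ _).symm (FSch.realProj 𝔛 h 𝔐.F 𝔐.toPush k)) := by
  let f := FSch.levelMor 𝔛 h k
  haveI := (hM k).1
  refine isIso_of_pres (O := (𝔛.X k).sheaf)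
    (F := f.pull.obj (𝔐.realMod h)) (G := 𝔐.F k) _ fun T => ?_
  obtain ⟨S, hS, hS'⟩ := exists_cover_lvU (h := h) k T
  refine ⟨S, hS, fun V g hg => ?_⟩
  obtain ⟨U, hU, hVU⟩ := hS' g hg
  obtain ⟨P, hP⟩ := exists_locPres_real (h := h) hN hM hU
  obtain ⟨hrel, hgen, hrelgen⟩ := (hP k).exists_locPres (isAffineOpen_lvU h k hU)
  let Q : LocPres (O := (𝔛.X k).sheaf) (𝔐.F k) (𝔛.lvU h k U) :=
    { n := P.n, m := P.m, s := fun i => prj h 𝔐 k U (P.s i), r := fun j i => pr h k U (P.r j i)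
      rel := hrel, gen := hgen, relgen := hrelgen }
  let b : V ⟶ f.fn.obj U := homOfLE hVU
  let L := pullPres f P b
  refine ⟨L.toGen, Q.restrict (homOfLE hVU), rfl, fun i => ?_, fun j => ?_⟩
  · show appS _ V (rs (f.pull.obj (𝔐.realMod h)) b (etaS f _ U (P.s i))) = _
    rw [appS_res]
    exact congrArg (rs (O := (𝔛.X k).sheaf) (𝔐.F k) b)
      (appS_homEquiv_symm f (FSch.realProj 𝔛 h 𝔐.F 𝔐.toPush k) U (P.s i))
  · exact L.rel j

/-- The system of inverse images of a module to the levels: transition isomorphisms. -/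
noncomputable def sysTrans (k : ℕ) :
    (FSch.levelMor 𝔛 h (k + 1)).pull ⋙ Scheme.Modules.pullback (𝔛.ι k) ≅ (FSch.levelMor 𝔛 h k).pull :=
  Adjunction.leftAdjointUniq
    (Adjunction.ofNatIsoRight
      ((FSch.levelMor 𝔛 h (k + 1)).adj.comp (Scheme.Modules.pullbackPushforwardAdjunction (𝔛.ι k)))
      { hom := FSch.pushCompare 𝔛 h k
        inv := FSch.pushCompareInv 𝔛 h k
        hom_inv_id := NatTrans.ext (funext fun G => FSch.pushCompare_pushCompareInv 𝔛 h k G)
        inv_hom_id := NatTrans.ext (funext fun G => FSch.pushCompareInv_pushCompare 𝔛 h k G) })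
    (FSch.levelMor 𝔛 h k).adj

/-- The system of inverse images of a module to the levels. -/
noncomputable def sysOf (F : FSch.ModF 𝔛 h) : FSch.ModSys 𝔛 where
  F k := (FSch.levelMor 𝔛 h k).pull.obj F
  e k := (sysTrans k).app F

theorem isCoh_sysOf {F : FSch.ModF 𝔛 h} (hF : FSch.IsCohF 𝔛 h F) : (sysOf F).IsCoh := fun k => by
  haveI : SheafOfModules.IsFinitePresentation (R := ModSite.ringSh (𝔛.Osh h)) F := hF
  haveI : SheafOfModules.IsFinitePresentation.{u} ((sysOf F).F k) :=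
    isFinitePresentation_pull (FSch.levelMor 𝔛 h k) F
  exact CohOps.FP.isCoh_of_isFP _

theorem unit_toPush (F : FSch.ModF 𝔛 h) (k : ℕ) :
    (FSch.levelMor 𝔛 h (k + 1)).adj.unit.app F ≫
        (FSch.levelMor 𝔛 h (k + 1)).push.map ((sysOf F).toPush k) ≫ (FSch.pushCompare 𝔛 h k).app _ =
      (FSch.levelMor 𝔛 h k).adj.unit.app F := by
  have hu := Adjunction.unit_leftAdjointUniq_hom_app
    (Adjunction.ofNatIsoRight
      ((FSch.levelMor 𝔛 h (k + 1)).adj.comp (Scheme.Modules.pullbackPushforwardAdjunction (𝔛.ι k)))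
      { hom := FSch.pushCompare 𝔛 h k
        inv := FSch.pushCompareInv 𝔛 h k
        hom_inv_id := NatTrans.ext (funext fun G => FSch.pushCompare_pushCompareInv 𝔛 h k G)
        inv_hom_id := NatTrans.ext (funext fun G => FSch.pushCompareInv_pushCompare 𝔛 h k G) })
    (FSch.levelMor 𝔛 h k).adj F
  refine Eq.trans ?_ hu
  have hnat := (FSch.pushCompare 𝔛 h k).naturality ((sysTrans k).hom.app F)
  simp only [Functor.comp_map] at hnat
  rw [FSch.ModSys.toPush, Adjunction.homEquiv_unit]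
  refine (congrArg (fun z => (FSch.levelMor 𝔛 h (k + 1)).adj.unit.app F ≫ z ≫ (FSch.pushCompare 𝔛 h k).app _)
    ((FSch.levelMor 𝔛 h (k + 1)).push.map_comp _ _)).trans ?_
  refine (congrArg ((FSch.levelMor 𝔛 h (k + 1)).adj.unit.app F ≫ ·)
    ((Category.assoc _ _ _).trans (congrArg (_ ≫ ·) hnat))).trans ?_
  refine ((Category.assoc _ _ _).symm.trans (Category.assoc _ _ _).symm).trans ?_
  refine congrArg (· ≫ _) ?_
  simp [Adjunction.ofNatIsoRight, Adjunction.comp]
  rfl

/-- The cone of the units. -/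
noncomputable def unitCone (F : FSch.ModF 𝔛 h) : Cone (FSch.levelSysOf 𝔛 h (sysOf F).F (sysOf F).toPush) where
  pt := F
  π := NatTrans.ofOpSequence (fun k => (FSch.levelMor 𝔛 h k).adj.unit.app F) fun k => by
    simp only [Functor.const_obj_obj, Functor.const_obj_map, Category.id_comp]
    rw [FSch.levelSysOf_map_succ]
    exact (unit_toPush F k).symm

/-- The comparison with the limit of the inverse images. -/
noncomputable def toReal (F : FSch.ModF 𝔛 h) : F ⟶ (sysOf F).realMod h := limit.lift _ (unitCone F)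

theorem toReal_proj (F : FSch.ModF 𝔛 h) (k : ℕ) :
    toReal F ≫ FSch.realProj 𝔛 h (sysOf F).F (sysOf F).toPush k = (FSch.levelMor 𝔛 h k).adj.unit.app F :=
  limit.lift_π (unitCone F) (op k)

theorem prj_toReal (F : FSch.ModF 𝔛 h) (k : ℕ) (U : (𝔛.X 0).Opens) (x : sect F U) :
    prj h (sysOf F) k U (appS (toReal F) U x) = etaS (FSch.levelMor 𝔛 h k) F U x :=
  congrArg (fun φ => φ.val.app (op U) x) (toReal_proj F k)

/-- The levels of a presentation of a coherent module. -/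
theorem presOn_level {F : FSch.ModF 𝔛 h} (hF : FSch.IsCohF 𝔛 h F) {V : (𝔛.X 0).Opens} (hV : IsAffineOpen V)
    (P : LocPres F V) (k : ℕ) :
    PresOn ((sysOf F).F k) (𝔛.lvU h k V) (fun i => etaS (FSch.levelMor 𝔛 h k) F V (P.s i))
      (fun j i => pr h k V (P.r j i)) := by
  haveI := (isCoh_sysOf hF k).1
  let f := FSch.levelMor 𝔛 h k
  let Q := pullPres f P (𝟙 (f.fn.obj V))
  have hs : ∀ i, Q.s i = etaS f F V (P.s i) := fun i => rs_id _ _ _
  have hr : ∀ j i, Q.r j i = pr h k V (P.r j i) := fun j i => by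
    show ((𝔛.X k).sheaf.obj.map (𝟙 (𝔛.lvU h k V)).op).hom _ = _
    rw [op_id, CategoryTheory.Functor.map_id]
    rfl
  refine presOn_of_local _ (isAffineOpen_lvU h k hV) _ _ (fun j => ?_) (fun x y hy => ?_) (fun c hc y hy => ?_)
  · refine Eq.trans (Finset.sum_congr rfl fun i _ => ?_) (Q.rel j)
    rw [hr, hs]
    rfl
  · obtain ⟨S, hS, hS'⟩ := Q.gen (𝟙 _) x
    obtain ⟨W, g, hg, hyW⟩ := hS y hy
    obtain ⟨c, hc⟩ := hS' g hg
    refine ⟨W, g.le, hyW, c, Eq.trans (Finset.sum_congr rfl fun i _ => ?_) hc⟩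
    rw [Category.comp_id, hs]
    rfl
  · obtain ⟨S, hS, hS'⟩ := Q.relgen (𝟙 _) c (by
      refine Eq.trans (Finset.sum_congr rfl fun i _ => ?_) hc
      rw [rs_id, hs]
      rfl)
    obtain ⟨W, g, hg, hyW⟩ := hS y hy
    obtain ⟨d, hd⟩ := hS' g hg
    refine ⟨W, g.le, hyW, d, fun i => (hd i).trans (Finset.sum_congr rfl fun j _ => congrArg (d j * ·) ?_)⟩
    rw [Category.comp_id, hr]
    rfl

theorem mem_span_of_levels (hN : 𝔛.IsLocNoethFormal) {𝔐 : FSch.ModSys 𝔛} {V : (𝔛.X 0).Opens}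
    (hV : IsAffineOpen V) {n m : ℕ} (t : Fin n → sect (𝔐.realMod h) V) (r : Fin m → Fin n → Rg h V)
    (hlev : ∀ k, PresOn (𝔐.F k) (𝔛.lvU h k V) (fun i => prj h 𝔐 k V (t i)) (fun j i => pr h k V (r j i)))
    (c : Fin n → Rg h V) (hc : ∑ i, c i • t i = 0) : c ∈ Submodule.span (Rg h V) (Set.range r) := by
  haveI := isNoetherianRing h hN hV
  refine mem_of_forall_mem_sup_pow (I h V) (I_le_jacobson h hN hV) _ c fun k => ?_
  have h1 := congrArg (prj h 𝔐 k V) hc
  rw [map_sum, map_zero] at h1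
  simp only [prj_smul] at h1
  obtain ⟨b, hb⟩ := Submodule.mem_span_range_iff_exists_fun _ |>.1 ((hlev k).relgen _ h1)
  choose b' hb' using fun j => pr_surjective h hN hV k (b j)
  rw [show c = (∑ j, b' j • r j) + (c - ∑ j, b' j • r j) by rw [add_sub_cancel]]
  refine Submodule.add_mem_sup (Submodule.sum_mem _ fun j _ =>
    Submodule.smul_mem _ _ (Submodule.subset_span ⟨j, rfl⟩)) ?_
  refine Adic.mem_smul_pi _ _ fun i => ?_
  rw [smul_eq_mul, Ideal.mul_top, ← ker_pr h hN hV k, RingHom.mem_ker]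
  have h4 := congrFun hb i
  simp only [Finset.sum_apply, Pi.smul_apply, smul_eq_mul] at h4
  simp only [Pi.sub_apply, Finset.sum_apply, Pi.smul_apply, smul_eq_mul, map_sub, map_sum, map_mul, hb']
  rw [← h4, sub_self]

/-- The image of a presentation of a coherent module presents the limit of its levels. -/
theorem exists_locPres_toReal (hN : 𝔛.IsLocNoethFormal) {F : FSch.ModF 𝔛 h} (hF : FSch.IsCohF 𝔛 h F)
    {W : (𝔛.X 0).Opens} (P : LocPres F W) :
    ∃ Q : LocPres ((sysOf F).realMod h) W, ∃ (e : Fin Q.n = Fin P.n) (e' : Fin Q.m = Fin P.m),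
      (∀ i, Q.s i = appS (toReal F) W (P.s (cast e i))) ∧ ∀ j i, Q.r j i = P.r (cast e' j) (cast e i) := by
  have hM := isCoh_sysOf hF
  have hV : ∀ {V : (𝔛.X 0).Opens}, IsAffineOpen V → ∀ g : V ⟶ W,
      (∀ x, x ∈ Submodule.span (Rg h V)
        (Set.range fun i => rs ((sysOf F).realMod h) g (appS (toReal F) W (P.s i)))) ∧
      ∀ c : Fin P.n → Rg h V, ∑ i, c i • rs ((sysOf F).realMod h) g (appS (toReal F) W (P.s i)) = 0 →
        c ∈ Submodule.span (Rg h V) (Set.range fun j i => rsR h g.le (P.r j i)) := by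
    intro V hV g
    have hlev : ∀ k, PresOn ((sysOf F).F k) (𝔛.lvU h k V)
        (fun i => prj h (sysOf F) k V (rs ((sysOf F).realMod h) g (appS (toReal F) W (P.s i))))
        (fun j i => pr h k V (rsR h g.le (P.r j i))) := fun k => by
      have := presOn_level hF hV (P.restrict g) k
      simp only [← appS_res, prj_toReal]
      exact this
    obtain ⟨-, -, -, hgen⟩ := sections_spec (h := h) (𝔐 := sysOf F) hN hM hV
    exact ⟨hgen _ (hlev 0).gen, mem_span_of_levels hN hV _ _ hlev⟩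
  refine ⟨{ n := P.n, m := P.m, s := fun i => appS (toReal F) W (P.s i), r := P.r
            rel := fun j => ?_, gen := fun {T} a x => ?_, relgen := fun {T} a c hc => ?_ },
    rfl, rfl, fun i => rfl, fun j i => rfl⟩
  · rw [← appS_sum_smul, P.rel j, map_zero]
  all_goals
    obtain ⟨S, hS, hS'⟩ := exists_cover_affine (𝔛 := 𝔛) T
    refine ⟨S, hS, fun V g hg => ?_⟩
    obtain ⟨V', hVV', hV'T, hV'⟩ := hS' g hg
    obtain ⟨hgW, hrW⟩ := hV hV' (homOfLE hV'T ≫ a)
  · obtain ⟨d, hd⟩ := Submodule.mem_span_range_iff_exists_fun _ |>.1 (hgW (rs _ (homOfLE hV'T) x))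
    refine ⟨fun i => rsR h hVV' (d i), ?_⟩
    have := congrArg (rs ((sysOf F).realMod h) (homOfLE hVV')) hd
    rw [rs_sum_smul] at this
    simp only [← map_val_comp] at this
    exact this
  · have h1 := congrArg (rs ((sysOf F).realMod h) (homOfLE hV'T)) hc
    rw [rs_sum_smul, map_zero] at h1
    simp only [← map_val_comp] at h1
    obtain ⟨d, hd⟩ := Submodule.mem_span_range_iff_exists_fun _ |>.1 (hrW _ h1)
    refine ⟨fun j => rsR h hVV' (d j), fun i => ?_⟩
    have := congrArg (rsR h hVV') (congrFun hd i)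
    simp only [Finset.sum_apply, Pi.smul_apply, smul_eq_mul, map_sum, map_mul, rsR_rsR] at this
    exact (rsR_rsR hVV' hV'T (c i)).symm.trans this.symm

/-- A coherent module is the limit of its inverse images to the levels. -/
theorem isIso_toReal (hN : 𝔛.IsLocNoethFormal) {F : FSch.ModF 𝔛 h} (hF : FSch.IsCohF 𝔛 h F) :
    IsIso (toReal F) := by
  haveI : SheafOfModules.IsFinitePresentation (R := ModSite.ringSh (𝔛.Osh h)) F := hF
  refine isIso_of_pres (toReal F) fun U => ?_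
  obtain ⟨S, hS, hS'⟩ := exists_cover_locPres F U
  refine ⟨S, hS, fun V g hg => ?_⟩
  obtain ⟨P⟩ := hS' g hg
  obtain ⟨Q, e, e', hs, hr⟩ := exists_locPres_toReal hN hF P
  refine ⟨P.toGen, Q, e, fun i => (hs i).symm, fun j => ?_⟩
  refine Eq.trans ?_ (P.rel (cast e' j))
  refine Fintype.sum_equiv (Equiv.cast e) _ _ fun i => ?_
  rw [hr]
  rfl

end Groth.Agent.FFormal
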