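import Groth.Agent.FFormal.Iso
import Groth.Agent.FFormal.Sub
import Groth.Prelude.Def_FSch5

/-!
# The levels of a coherent module are coherent on the formal scheme
-/

set_option autoImplicit false
set_option linter.style.haveILetI false
set_option linter.dupNamespace false

universe u

open CategoryTheory CategoryTheory.Limits AlgebraicGeometry Opposite TopologicalSpace ModSite

namespace Groth.Agent.FFormal.LevelCoh

open Groth.Agent
open Groth.Agent.QCoh (res rres res_res res_smul)
open Groth.Agent.ModFlat (rs map_val_smul map_val_comp)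
open Groth.Agent.PullFlat (appS appS_res eq_zero_of_locally)
open Groth.Agent.LocPres

variable {𝔛 : FSch.Sys.{u}} {h : 𝔛.IsFormal} (hN : 𝔛.IsLocNoethFormal) {𝔐 : FSch.ModSys 𝔛}

include hN in
theorem isCohF_push_level (hM : 𝔐.IsCoh) (k : ℕ) :
    FSch.IsCohF 𝔛 h ((FSch.levelMor 𝔛 h k).push.obj (𝔐.F k)) := by
  let G : FSch.ModF 𝔛 h := (FSch.levelMor 𝔛 h k).push.obj (𝔐.F k)
  refine isFinitePresentation_of_cover fun U => ?_
  obtain ⟨S, hS, hS'⟩ := exists_cover_affine (𝔛 := 𝔛) U
  refine ⟨S, hS, fun V g hg => ?_⟩
  obtain ⟨W, hVW, hWU, hW⟩ := hS' g hg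
  haveI := isNoetherianRing h hN hW
  haveI := (hM k).1
  haveI := (hM k).2
  haveI := hN.2.2 k
  obtain ⟨n, m₀, s, r₀, P⟩ := exists_presOn (𝔐.F k) (isAffineOpen_lvU h k hW)
  choose r₁ hr₁ using fun j i => pr_surjective h hN hW k (r₀ j i)
  let N : Submodule (Rg h W) (Fin n → Rg h W) :=
    Submodule.span (Rg h W) (Set.range fun j i => r₁ j i) ⊔
      (RingHom.ker (pr h k W) • (⊤ : Submodule (Rg h W) (Fin n → Rg h W)))
  obtain ⟨m, r, hr⟩ := Submodule.fg_iff_exists_fin_generating_family.1 (IsNoetherian.noetherian N)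
  have hrN : ∀ c ∈ N, ∑ i, pr h k W (c i) • s i = 0 := fun c hc => by
    obtain ⟨x₁, hx₁, x₂, hx₂, rfl⟩ := Submodule.mem_sup.1 hc
    simp only [Pi.add_apply, map_add, add_smul, Finset.sum_add_distrib]
    rw [show ∑ i, pr h k W (x₁ i) • s i = 0 from ?_, show ∑ i, pr h k W (x₂ i) • s i = 0 from ?_, add_zero]
    rotate_left
    · clear hc hx₂
      revert hx₁
      generalize x₁ = x
      intro hx
      obtain ⟨b, rfl⟩ := Submodule.mem_span_range_iff_exists_fun _ |>.1 hx
      simp only [Finset.sum_apply, Pi.smul_apply, smul_eq_mul, map_sum, map_mul, hr₁, Finset.sum_smul, ← smul_smul]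
      rw [Finset.sum_comm]
      simp only [← Finset.smul_sum, P.rel, smul_zero, Finset.sum_const_zero]
    · clear hc hx₁
      revert hx₂
      generalize x₂ = x
      intro hx
      refine Submodule.smul_induction_on hx (fun b hb y _ => ?_) fun y z hy hz => ?_
      · simp only [Pi.smul_apply, smul_eq_mul, map_mul, RingHom.mem_ker.1 hb, zero_mul, zero_smul,
          Finset.sum_const_zero]
      · simp only [Pi.add_apply, map_add, add_smul, Finset.sum_add_distrib, hy, hz, add_zero]
  refine ⟨LocPres.restrict ({ n := n, m := m, s := fun i => (s i : sect G W), r := r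
                              rel := fun j => ?_, gen := fun {T} a x => ?_
                              relgen := fun {T} a c hc => ?_ } : LocPres G W) (homOfLE hVW)⟩
  · exact hrN _ (hr ▸ Submodule.subset_span ⟨j, rfl⟩)
  all_goals
    obtain ⟨S₂, hS₂, hS₂'⟩ := exists_cover_affine (𝔛 := 𝔛) T
    refine ⟨S₂, hS₂, fun V₂ g₂ hg₂ => ?_⟩
    obtain ⟨Z, hV₂Z, hZT, hZ⟩ := hS₂' g₂ hg₂
    have hZW : Z ≤ W := hZT.trans a.le
    have PZ := P.restrict (isAffineOpen_lvU h k hW) (isAffineOpen_lvU h k hZ) (lvU_mono h k hZW)
  · obtain ⟨d, hd⟩ := Submodule.mem_span_range_iff_exists_fun _ |>.1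
      (PZ.gen (rs G (homOfLE hZT) x : WS h 𝔐 k Z))
    choose d' hd' using fun i => pr_surjective h hN hZ k (d i)
    refine ⟨fun i => rsR h hV₂Z (d' i), ?_⟩
    have h1 : ∑ i, d' i • (rs G (homOfLE hZW) (s i : sect G W) : sect G Z) = rs G (homOfLE hZT) x := by
      refine Eq.trans (Finset.sum_congr rfl fun i _ => ?_) hd
      show pr h k Z (d' i) • res (𝔐.F k) (lvU_mono h k hZW) (s i) = _
      rw [hd']
    have := congrArg (rs G (homOfLE hV₂Z)) h1
    rw [rs_sum_smul] at this
    simp only [← map_val_comp] at this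
    exact this
  · have h1 := congrArg (rs G (homOfLE hZT)) hc
    rw [rs_sum_smul, map_zero] at h1
    simp only [← map_val_comp] at h1
    obtain ⟨b, hb⟩ := Submodule.mem_span_range_iff_exists_fun _ |>.1
      (PZ.relgen (fun i => pr h k Z (rsR h hZT (c i))) h1)
    choose b' hb' using fun j => pr_surjective h hN hZ k (b j)
    have h2 : (fun i => rsR h hZT (c i)) ∈ Submodule.span (Rg h Z) (Set.range fun j i => rsR h hZW (r j i)) := by
      have hle : ∀ x ∈ N, (fun i => rsR h hZW (x i)) ∈
          Submodule.span (Rg h Z) (Set.range fun j i => rsR h hZW (r j i)) := by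
        intro x hx
        rw [← hr] at hx
        obtain ⟨d, rfl⟩ := Submodule.mem_span_range_iff_exists_fun _ |>.1 hx
        refine Submodule.mem_span_range_iff_exists_fun _ |>.2 ⟨fun j => rsR h hZW (d j), funext fun i => ?_⟩
        simp only [Finset.sum_apply, Pi.smul_apply, smul_eq_mul, map_sum, map_mul]
      rw [show (fun i => rsR h hZT (c i)) = (∑ j, b' j • fun i => rsR h hZW (r₁ j i)) +
        ((fun i => rsR h hZT (c i)) - ∑ j, b' j • fun i => rsR h hZW (r₁ j i)) from (add_sub_cancel _ _).symm]
      refine Submodule.add_mem _ (Submodule.sum_mem _ fun j _ => Submodule.smul_mem _ _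
        (hle _ (Submodule.mem_sup_left (Submodule.subset_span ⟨j, rfl⟩)))) ?_
      set e := (fun i => rsR h hZT (c i)) - ∑ j, b' j • fun i => rsR h hZW (r₁ j i) with he
      have hk : ∀ i, e i ∈ (RingHom.ker (pr h k W)).map (rsR h hZW) := fun i => by
        rw [← show RingHom.ker (pr h k Z) = (RingHom.ker (pr h k W)).map (rsR h hZW) by
          rw [ker_pr_eq_map h hN hZ hW hZW k, ker_pr h hN hW k], RingHom.mem_ker, he]
        have h4 := congrFun hb i
        simp only [Finset.sum_apply, Pi.smul_apply, smul_eq_mul] at h4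
        simp only [Pi.sub_apply, Finset.sum_apply, Pi.smul_apply, smul_eq_mul, map_sub, map_sum, map_mul, hb',
          pr_rsR]
        rw [sub_eq_zero, ← pr_rsR, ← h4]
        refine Finset.sum_congr rfl fun j _ => congrArg (b j * ·) ?_
        rw [hr₁]
        rfl
      rw [show e = ∑ i, Pi.single i (e i) from (Finset.univ_sum_single e).symm]
      refine Submodule.sum_mem _ fun i _ => ?_
      have hi := hk i
      rw [Ideal.map] at hi
      revert hi
      generalize e i = w₀
      intro hi
      induction hi using Submodule.span_induction with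
      | mem w hw =>
        obtain ⟨v, hv, rfl⟩ := hw
        have h5 := hle (Pi.single i v) (Submodule.mem_sup_right (by
          rw [show (Pi.single i v : Fin n → Rg h W) = v • Pi.single i 1 from by
            rw [← Pi.single_smul]; simp]
          exact Submodule.smul_mem_smul hv trivial))
        have e5 : (fun l => rsR h hZW ((Pi.single i v : Fin n → Rg h W) l)) = Pi.single i (rsR h hZW v) :=
          funext fun l => by
            by_cases hl : l = i
            · subst hl; simp
            · simp [Pi.single_eq_of_ne hl]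
        rwa [e5] at h5
      | zero => rw [Pi.single_zero]; exact Submodule.zero_mem _
      | add w w' _ _ hw hw' => rw [Pi.single_add]; exact Submodule.add_mem _ hw hw'
      | smul d w _ hw => rw [Pi.single_smul]; exact Submodule.smul_mem _ d hw
    obtain ⟨d, hd⟩ := Submodule.mem_span_range_iff_exists_fun _ |>.1 h2
    refine ⟨fun j => rsR h hV₂Z (d j), fun i => ?_⟩
    have := congrArg (rsR h hV₂Z) (congrFun hd i)
    simp only [Finset.sum_apply, Pi.smul_apply, smul_eq_mul, map_sum, map_mul, rsR_rsR] at this
    exact this.symm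

end Groth.Agent.FFormal.LevelCoh
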