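import Groth.Agent.FFormal.LevelKer

/-!
# Decomposition of cohomology classes of the levels
-/

set_option autoImplicit false
set_option linter.style.haveILetI false
set_option linter.dupNamespace false

universe u

open CategoryTheory CategoryTheory.Limits AlgebraicGeometry Opposite TopologicalSpace ModSite

namespace Groth.Agent.FFormal.LevelTower

open Groth.Agent
open Groth.Agent.ModFlat (rs map_val_smul map_val_comp)
open Groth.Agent.PullFlat (appS appS_res appS_comp appS_injective eq_zero_of_locally mono_of_appS_injective)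
open Groth.Agent.FFormal.TowerLim (im Stat)

variable {A : Type u} [CommRing A] [IsNoetherianRing A] {J : Ideal A} {𝔛 : FSch.Sys.{u}} {h : 𝔛.IsFormal}
  {f : 𝔛 ⟶ FSch.spf A J}

variable (hN : 𝔛.IsLocNoethFormal) {F : FSch.ModF 𝔛 h} (hF : FSch.IsCohF 𝔛 h F) (hp : FSch.IsProperHom f)



variable (f) in
/-- The base acts on the smallest level. -/
noncomputable abbrev over0 : (𝔛.X 0).Over (Spec (CommRingCat.of A)) := ⟨q f 0⟩

include hp in
theorem isProper_q : IsProper (q f 0) := by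
  haveI : IsClosedImmersion (CohB1.specQuot J 0) :=
    IsClosedImmersion.spec_of_surjective _ Ideal.Quotient.mk_surjective
  haveI : IsFinite (CohB1.specQuot J 0) := inferInstance
  have h0 : IsProper (CohB1.specQuot J 0) := inferInstance
  exact MorphismProperty.comp_mem @IsProper _ (CohB1.specQuot J 0) hp.2 h0

theorem pull_σ (K : FSch.ModF 𝔛 h) (c : A) :
    letI := over0 f
    (FSch.levelMor 𝔛 h 0).pull.map (σ h f K c) = Formal.smulMod A ((FSch.levelMor 𝔛 h 0).pull.obj K) c := by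
  letI := over0 f
  have key : ∀ M : (𝔛.X 0).Modules,
      (FSch.levelMor 𝔛 h 0).push.map (Formal.smulMod A M c) = σ h f ((FSch.levelMor 𝔛 h 0).push.obj M) c :=
    fun M => SheafOfModules.hom_ext (PresheafOfModules.hom_ext fun U => ModuleCat.hom_ext (LinearMap.ext fun x =>
      congrArg (fun r : B h 0 U.unop => r • @id Γ(M, 𝔛.lvU h 0 U.unop) x) (gk_eq h f 0 U.unop c).symm))
  apply ((FSch.levelMor 𝔛 h 0).adj.homEquiv _ _).injective
  refine (Adjunction.homEquiv_unit _ _ _ _).trans (Eq.trans ?_ (Adjunction.homEquiv_unit _ _ _ _).symm)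
  exact ((FSch.levelMor 𝔛 h 0).adj.unit.naturality (σ h f K c)).symm.trans
    ((σ_natural h f _ c).symm.trans (congrArg (_ ≫ ·) (key _).symm))

/-- The comparison on cohomology. -/
noncomputable def ΨH (k n : ℕ) :
    FSch.HF 𝔛 h (Kr F k) n →+ Coh.HH (𝔛.X 0) ((FSch.levelMor 𝔛 h 0).pull.obj (Kr F k)) n :=
  Sheaf.H.map (Ψ h (Kr F k)) n

theorem ΨH_natural {k k' : ℕ} (φ : Kr F k ⟶ Kr F k') (n : ℕ) (x : FSch.HF 𝔛 h (Kr F k) n) :
    ΨH k' n (hm φ n x) = CohLin.hMap ((FSch.levelMor 𝔛 h 0).pull.map φ) n (ΨH k n x) := by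
  show Sheaf.H.map (Ψ h (Kr F k')) n (Sheaf.H.map ((SheafOfModules.toSheaf _).map φ) n x) = _
  rw [← Sheaf.H.map_comp_apply, Ψ_natural, Sheaf.H.map_comp_apply]
  rfl

include hN hF in
theorem ΨH_injective (k n : ℕ) : Function.Injective (ΨH (F := F) k n) := fun x y hxy => by
  haveI := isIso_Ψ hN hF k
  have e : ∀ z : FSch.HF 𝔛 h (Kr F k) n, Sheaf.H.map (inv (Ψ h (Kr F k))) n (ΨH k n z) = z := fun z => by
    show Sheaf.H.map (inv (Ψ h (Kr F k))) n (Sheaf.H.map (Ψ h (Kr F k)) n z) = z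
    rw [← Sheaf.H.map_comp_apply, IsIso.hom_inv_id, Sheaf.H.map_id_apply]
  rw [← e x, ← e y, hxy]

include hN hF hp in
/-- Above some level, classes come from higher levels up to multiples of the ideal. -/
theorem exists_decomp (n : ℕ) :
    ∃ d, ∀ k, d ≤ k → ∀ x : FSch.HF 𝔛 h (G h F (k + 1)) n,
      ∃ (r : ℕ) (a : Fin r → A) (ha : ∀ l, a l ∈ J) (x' : FSch.HF 𝔛 h (G h F (k + 1 + 1)) n)
        (y : Fin r → FSch.HF 𝔛 h (G h F k) n),
        x = hm (FSch.levelTrans 𝔛 h F (k + 1)) n x' + ∑ l, hm (μ (f := f) hN hF (ha l) k) n (y l) := by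
  letI := over0 f
  haveI : IsProper ((𝔛.X 0) ↘ Spec (CommRingCat.of A)) := isProper_q hp
  haveI : IsLocallyNoetherian (𝔛.X 0) := FormalFun.isLocallyNoetherian_of_proper A (𝔛.X 0)
  haveI : CompactSpace (𝔛.X 0) := FormalFun.compactSpace_of_proper A (𝔛.X 0)
  obtain ⟨r, a, hspan⟩ := Submodule.fg_iff_exists_fin_generating_family.mp (IsNoetherian.noetherian J)
  have hspan' : Ideal.span (Set.range a) = J := hspan
  have ha : ∀ l, a l ∈ J := fun l => hspan'.le (Ideal.subset_span ⟨l, rfl⟩)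
  obtain ⟨𝒰, h𝒰⟩ := FormalFun.exists_affCov (X := 𝔛.X 0)
  let S : FormalFun.GrSys 𝒰 r :=
    { M := fun k => (FSch.levelMor 𝔛 h 0).pull.obj (Kr F k)
      T := fun l k => (FSch.levelMor 𝔛 h 0).pull.map (T (f := f) hN hF (ha l) k)
      comm := fun i j k => ((FSch.levelMor 𝔛 h 0).pull.map_comp _ _).symm.trans
        ((congrArg _ (T_comm hN hF (ha i) (ha j) k)).trans ((FSch.levelMor 𝔛 h 0).pull.map_comp _ _))
      coh := isCoh_M hN hF
      gen := fun i => ⟨0, fun k _ x => by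
        haveI := isIso_Ψ hN hF (k + 1)
        haveI : IsIso (Ψ h (Kr F (k + 1))).hom := inferInstanceAs (IsIso ((sheafToPresheaf _ _).map (Ψ h (Kr F (k + 1)))))
        let U := 𝒰.U i
        obtain ⟨x', rfl⟩ := (ConcreteCategory.bijective_of_isIso
          ((Ψ h (Kr F (k + 1))).hom.app (op U))).2 x
        obtain ⟨z, hz, hxz⟩ := exists_gen_ker h f F hN hF hp.1 a hspan' k (𝒰.isAffine i)
          (x := appS (kernel.ι (FSch.levelTrans 𝔛 h F (k + 1))) U x') (by
            rw [← levelTrans_app, ← appS_comp, kernel.condition]; rfl)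
        have hzk : ∀ l, appS (FSch.levelTrans 𝔛 h F k) U
            (tr h (sysOf F) (k + 1) U (z l) : sect (G h F (k + 1)) U) = 0 := fun l => by
          rw [levelTrans_app]
          exact hz l
        choose w hw using fun l => LocPres.exists_kernel_el (FSch.levelTrans 𝔛 h F k) _ (hzk l)
        have e1 : x' = ∑ l, appS (T (f := f) hN hF (ha l) k) U (w l) := by
          refine appS_injective (kernel.ι (FSch.levelTrans 𝔛 h F (k + 1))) U ?_
          rw [map_sum]
          refine hxz.trans (Finset.sum_congr rfl fun l _ => ?_)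
          rw [← appS_comp, T_ι, appS_comp, hw, ← levelTrans_app, ← appS_comp, tr_μ, appS_σ]
          rfl
        refine ⟨fun l => ((Ψ h (Kr F k)).hom.app (op U)).hom (w l), ?_⟩
        refine (congrArg ((Ψ h (Kr F (k + 1))).hom.app (op U)).hom e1).trans ?_
        refine (map_sum ((Ψ h (Kr F (k + 1))).hom.app (op U)).hom _ _).trans
          (Finset.sum_congr rfl fun l _ => ?_)
        exact congrArg (fun ψ : _ ⟶ _ => (ψ.hom.app (op U)).hom (w l)) (Ψ_natural (T (f := f) hN hF (ha l) k))⟩ }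
  let N : ∀ k, Submodule A (Coh.HH (𝔛.X 0) (S.M k) (n + 1)) := fun k =>
    { carrier := Set.range fun z => ΨH k (n + 1) (δ hN hF n k z)
      zero_mem' := ⟨0, by simp⟩
      add_mem' := by
        rintro _ _ ⟨z, rfl⟩ ⟨z', rfl⟩
        exact ⟨z + z', by simp⟩
      smul_mem' := by
        rintro c _ ⟨z, rfl⟩
        refine ⟨hm (σ h f (G h F k) c) n z, ?_⟩
        show ΨH k (n + 1) (δ hN hF n k _) = c • ΨH k (n + 1) (δ hN hF n k z)
        rw [δ_natural hN hF (σ h f (Kr F k) c) (σ h f (G h F (k + 1)) c) (σ h f (G h F k) c)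
          (σ_natural h f _ c).symm (σ_natural h f _ c).symm, ΨH_natural, pull_σ]
        exact FormalFun.hMap_smulMod _ c (n + 1) _ }
  obtain ⟨d, hd⟩ := FormalFun.GrSys.cohomology_sub_gen ((FormalFun.finiteCoh_of_proper A (𝔛.X 0)).on Set.univ) S
    (fun _ => Set.subset_univ _) (n + 1) N (fun l k x hx => by
      obtain ⟨z, rfl⟩ := hx
      refine ⟨hm (μ (f := f) hN hF (ha l) k) n z, ?_⟩
      show ΨH (k + 1) (n + 1) (δ hN hF n (k + 1) _) = _
      rw [δ_natural hN hF (T (f := f) hN hF (ha l) k) (μ (f := f) hN hF (ha l) (k + 1))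
        (μ (f := f) hN hF (ha l) k) (T_ι hN hF (ha l) k) (μ_sq hN hF (ha l) k), ΨH_natural])
  refine ⟨d, fun k hk x => ?_⟩
  obtain ⟨y, hy, hxy⟩ := hd k hk _ ⟨x, rfl⟩
  choose w hw using hy
  obtain ⟨x', hx'⟩ := exists_of_δ_eq_zero hN hF n (k + 1) (x - ∑ l, hm (μ (f := f) hN hF (ha l) k) n (w l)) (by
    refine ΨH_injective hN hF (k + 1) (n + 1) ?_
    simp only [map_sub, map_sum, map_zero]
    rw [sub_eq_zero]
    refine hxy.trans (Finset.sum_congr rfl fun l _ => ?_)
    rw [δ_natural hN hF (T (f := f) hN hF (ha l) k) (μ (f := f) hN hF (ha l) (k + 1))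
      (μ (f := f) hN hF (ha l) k) (T_ι hN hF (ha l) k) (μ_sq hN hF (ha l) k), ΨH_natural, ← hw l])
  exact ⟨r, a, ha, x', w, by rw [hx', sub_add_cancel]⟩


end Groth.Agent.FFormal.LevelTower
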