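import Groth.Agent.FFormal.TowerLim
import Groth.Prelude.Def_ARSys
import Mathlib.Algebra.Category.Grp.Abelian
import Mathlib.CategoryTheory.Functor.OfSequence

/-!
# Stationary images give the Mittag-Leffler condition
-/

set_option autoImplicit false

universe u

open CategoryTheory CategoryTheory.Limits Opposite

namespace Groth.Agent.FFormal.LevelTower

open Groth.Agent.FFormal.TowerLim (im Stat im_anti)

variable {H : ℕ → Type u} [∀ k, AddCommGroup (H k)] {τ : ∀ k, H (k + 1) →+ H k}

/-- The tower, as a functor. -/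
noncomputable abbrev towerFun (τ : ∀ k, H (k + 1) →+ H k) : ℕᵒᵖ ⥤ AddCommGrpCat.{u} :=
  Functor.ofOpSequence (X := fun k => AddCommGrpCat.of (H k)) fun k => AddCommGrpCat.ofHom (τ k)

theorem range_tr : ∀ (j k m : ℕ) (hkm : k ≤ m), k + j = m →
    ((towerFun τ).map (homOfLE hkm).op).hom.range = im τ j k
  | 0, k, m, hkm, e => by
    obtain rfl : k = m := by omega
    rw [show (homOfLE hkm).op = 𝟙 _ from Subsingleton.elim _ _, CategoryTheory.Functor.map_id]
    exact AddMonoidHom.range_eq_top.2 fun x => ⟨x, rfl⟩
  | j + 1, k, m, hkm, e => by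
    rw [show (homOfLE hkm).op = (homOfLE (show k + 1 ≤ m by omega)).op ≫ (homOfLE (Nat.le_succ k)).op from
      Subsingleton.elim _ _, Functor.map_comp, Functor.ofOpSequence_map_homOfLE_succ]
    show ((τ k).comp ((towerFun τ).map (homOfLE (show k + 1 ≤ m by omega)).op).hom).range = (im τ j (k + 1)).map (τ k)
    exact (AddMonoidHom.range_comp _ _).trans (congrArg (AddSubgroup.map (τ k))
      (range_tr j (k + 1) m (by omega) (by omega)))

theorem imageSubobject_le_of_range_le {X X' Y : AddCommGrpCat.{u}} (f : X ⟶ Y) (g : X' ⟶ Y)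
    (h : f.hom.range ≤ g.hom.range) : imageSubobject f ≤ imageSubobject g := by
  have hf : f ≫ cokernel.π (imageSubobject g).arrow = 0 := by
    ext x
    obtain ⟨z, hz⟩ := h ⟨x, rfl⟩
    show cokernel.π (imageSubobject g).arrow (f x) = 0
    rw [← show g z = f x from hz]
    have e : g ≫ cokernel.π (imageSubobject g).arrow = 0 := by
      refine (congrArg (· ≫ cokernel.π (imageSubobject g).arrow) (imageSubobject_arrow_comp g).symm).trans ?_
      rw [Category.assoc, cokernel.condition, comp_zero]
    exact congrArg (fun φ => φ z) e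
  exact imageSubobject_le f (Abelian.monoLift (imageSubobject g).arrow f hf) (Abelian.monoLift_comp _ _ _)

theorem isML_of_stat (hS : Stat τ) : ARSys.IsML (towerFun τ) := fun k => by
  obtain ⟨N, hN⟩ := hS k
  refine ⟨N, fun s hs => ?_⟩
  have e1 := range_tr (τ := τ) s k (k + s) (Nat.le_add_right k s) rfl
  have e2 := range_tr (τ := τ) N k (k + N) (Nat.le_add_right k N) rfl
  exact le_antisymm (imageSubobject_le_of_range_le _ _ (e1.le.trans ((im_anti τ hs k).trans e2.ge)))
    (imageSubobject_le_of_range_le _ _ (e2.le.trans ((hN s).trans e1.ge)))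

end Groth.Agent.FFormal.LevelTower
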