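import Groth.Agent.FFormal.LevelTower
import Groth.Agent.FFormal.LevelCoh
import Groth.Agent.FFormal.TowerLim
import Groth.Agent.FFormal.AffVanish
import Groth.Agent.FormalFun.GrCoh
import Groth.Agent.FormalFun.Main
import Groth.Agent.FormalFun.Finite
import Groth.Agent.CohColim.Basic
import Groth.Prelude.Def_FSch4

/-!
# The kernels of the transitions between the levels of a coherent module
-/

set_option autoImplicit false
set_option linter.style.haveILetI false
set_option linter.dupNamespace false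

universe u

open CategoryTheory CategoryTheory.Limits AlgebraicGeometry Opposite TopologicalSpace ModSite

namespace Groth.Agent.FFormal.LevelTower

open Groth.Agent
open Groth.Agent.ModFlat (rs map_val_smul map_val_comp)
open Groth.Agent.PullFlat (appS appS_res appS_comp appS_injective eq_zero_of_locally mono_of_appS_injective)
open Groth.Agent.FFormal.TowerLim (im Stat)

variable {A : Type u} [CommRing A] [IsNoetherianRing A] {J : Ideal A} {𝔛 : FSch.Sys.{u}} {h : 𝔛.IsFormal}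
  {f : 𝔛 ⟶ FSch.spf A J}

variable (h) in
theorem lvU_zero (U : (𝔛.X 0).Opens) : 𝔛.lvU h 0 U = U := by
  have e : 𝔛.gInv h 0 = 𝟙 _ := by
    have h1 := FSch.Sys.toX_base_gInv 𝔛 h 0
    exact (Category.id_comp (𝔛.gInv h 0)).symm.trans h1
  show (Opens.map (𝔛.gInv h 0)).obj U = U
  rw [e]
  rfl

variable (h) in
/-- The direct image from the smallest level does nothing on abelian sheaves. -/
noncomputable def Φ (M : (𝔛.X 0).Modules) :
    ModSite.toAb ((FSch.levelMor 𝔛 h 0).push.obj M) ≅ Coh.toAb M :=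
  (fullyFaithfulSheafToPresheaf _ _).preimageIso
    (NatIso.ofComponents (fun U => M.presheaf.mapIso (eqToIso (congrArg op (lvU_zero h U.unop))))
      fun {U V} g => by
        show M.presheaf.map _ ≫ M.presheaf.map _ = M.presheaf.map _ ≫ M.presheaf.map g
        rw [← Functor.map_comp, ← Functor.map_comp]
        exact congrArg _ (Subsingleton.elim _ _))

theorem Φ_natural {M N : (𝔛.X 0).Modules} (φ : M ⟶ N) :
    (SheafOfModules.toSheaf _).map ((FSch.levelMor 𝔛 h 0).push.map φ) ≫ (Φ h N).hom =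
      (Φ h M).hom ≫ (SheafOfModules.toSheaf (𝔛.X 0).ringCatSheaf).map φ := by
  refine (sheafToPresheaf _ _).map_injective (NatTrans.ext (funext fun U => ?_))
  exact ((Scheme.Modules.Hom.mapPresheaf φ).naturality _).symm

variable (h) in
/-- The comparison of a module with its inverse image to the smallest level, on abelian sheaves. -/
noncomputable def Ψ (K : FSch.ModF 𝔛 h) : ModSite.toAb K ⟶ Coh.toAb ((FSch.levelMor 𝔛 h 0).pull.obj K) :=
  (SheafOfModules.toSheaf _).map ((FSch.levelMor 𝔛 h 0).adj.unit.app K) ≫ (Φ h _).hom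

theorem Ψ_natural {K K' : FSch.ModF 𝔛 h} (φ : K ⟶ K') :
    (SheafOfModules.toSheaf _).map φ ≫ Ψ h K' =
      Ψ h K ≫ (SheafOfModules.toSheaf (𝔛.X 0).ringCatSheaf).map ((FSch.levelMor 𝔛 h 0).pull.map φ) := by
  rw [Ψ, Ψ, Category.assoc, ← Φ_natural, ← Category.assoc, ← Category.assoc, ← Functor.map_comp,
    ← Functor.map_comp]
  exact congrArg (fun ψ => (SheafOfModules.toSheaf _).map ψ ≫ (Φ h _).hom)
    ((FSch.levelMor 𝔛 h 0).adj.unit.naturality φ)

variable (hN : 𝔛.IsLocNoethFormal) {F : FSch.ModF 𝔛 h} (hF : FSch.IsCohF 𝔛 h F) (hp : FSch.IsProperHom f)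

/-- The kernel of a transition. -/
noncomputable abbrev Kr (F : FSch.ModF 𝔛 h) (k : ℕ) : FSch.ModF 𝔛 h := kernel (FSch.levelTrans 𝔛 h F k)

include hN hF in
theorem isCohF_G (k : ℕ) : FSch.IsCohF 𝔛 h (G h F k) :=
  LevelCoh.isCohF_push_level (h := h) hN (isCoh_sysOf hF) k

include hN hF in
theorem isCohF_Kr (k : ℕ) : FSch.IsCohF 𝔛 h (Kr F k) :=
  isCohF_kernel hN _ (isCohF_G hN hF (k + 1)) (isCohF_G hN hF k)

include hN hF in
theorem smul_Kr (k : ℕ) {U : (𝔛.X 0).Opens} (hU : IsAffineOpen U) {r : Rg h U} (hr : r ∈ I h U)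
    (x : sect (Kr F k) U) : r • x = 0 := by
  refine appS_injective (kernel.ι (FSch.levelTrans 𝔛 h F k)) U ?_
  refine (map_smul _ r x).trans (Eq.trans ?_ (map_zero _).symm)
  refine smul_eq_zero_of_tr h F hN hF k hU hr ?_
  rw [← levelTrans_app, ← appS_comp, kernel.condition]
  rfl

include hN hF in
theorem isIso_unit_Kr (k : ℕ) : IsIso ((FSch.levelMor 𝔛 h 0).adj.unit.app (Kr F k)) := by
  have hK := isCohF_Kr hN hF k
  haveI := isIso_toReal hN hK
  let Q : FSch.ModF 𝔛 h := (FSch.levelMor 𝔛 h 0).push.obj ((FSch.levelMor 𝔛 h 0).pull.obj (Kr F k))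
  let u : Kr F k ⟶ Q := (FSch.levelMor 𝔛 h 0).adj.unit.app (Kr F k)
  have hsurjT : ∀ (W : (𝔛.X 0).Opens) (y : sect ((sysOf (Kr F k)).realMod h) W),
      ∃ x, appS (toReal (Kr F k)) W x = y := fun W y =>
    ⟨appS (inv (toReal (Kr F k))) W y, by
      rw [← appS_comp, IsIso.inv_hom_id]
      rfl⟩
  haveI : Mono u := mono_of_appS_injective u fun U x hx => by
    obtain ⟨S, hS, hS'⟩ := exists_cover_affine (𝔛 := 𝔛) U
    refine eq_zero_of_locally _ hS x fun V g hg => ?_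
    obtain ⟨W, hVW, hWU, hW⟩ := hS' g hg
    suffices rs (Kr F k) (homOfLE hWU) x = 0 by
      rw [show g = homOfLE hVW ≫ homOfLE hWU from rfl, map_val_comp, this, map_zero]
    obtain ⟨-, -, hker, -⟩ := sections_spec (h := h) (𝔐 := sysOf (Kr F k)) hN (isCoh_sysOf hK) hW
    have h1 : prj h (sysOf (Kr F k)) 0 W (appS (toReal (Kr F k)) W (rs (Kr F k) (homOfLE hWU) x)) = 0 := by
      rw [prj_toReal]
      show appS u W (rs (Kr F k) (homOfLE hWU) x) = 0
      rw [appS_res, hx, map_zero]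
    refine appS_injective (toReal (Kr F k)) W (Eq.trans ?_ (map_zero _).symm)
    refine Submodule.smul_induction_on ((hker 0 _).1 h1) (fun r hr y _ => ?_)
      fun a b ha hb => by rw [ha, hb, add_zero]
    obtain ⟨y', rfl⟩ := hsurjT W y
    rw [zero_add, pow_one] at hr
    exact (map_smul _ r y').symm.trans ((congrArg _ (smul_Kr hN hF k hW hr y')).trans (map_zero _))
  haveI : Epi u := SitePull.epi_of_locally_surjective u fun U x => by
    obtain ⟨S, hS, hS'⟩ := exists_cover_affine (𝔛 := 𝔛) U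
    refine ⟨S, hS, fun V g hg => ?_⟩
    obtain ⟨W, hVW, hWU, hW⟩ := hS' g hg
    obtain ⟨hsurj, -, -, -⟩ := sections_spec (h := h) (𝔐 := sysOf (Kr F k)) hN (isCoh_sysOf hK) hW
    obtain ⟨y, hy⟩ := hsurj 0 (rs Q (homOfLE hWU) x)
    obtain ⟨y', rfl⟩ := hsurjT W y
    rw [prj_toReal] at hy
    refine ⟨rs (Kr F k) (homOfLE hVW) y', ?_⟩
    rw [appS_res, show g = homOfLE hVW ≫ homOfLE hWU from rfl, map_val_comp]
    exact congrArg _ hy
  exact isIso_of_mono_of_epi u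

include hN hF in
theorem isIso_Ψ (k : ℕ) : IsIso (Ψ h (Kr F k)) := by
  haveI := isIso_unit_Kr hN hF k
  rw [Ψ]
  infer_instance

include hN hF in
theorem isCoh_M (k : ℕ) : Coh.IsCoh ((FSch.levelMor 𝔛 h 0).pull.obj (Kr F k)) :=
  isCoh_sysOf (isCohF_Kr hN hF k) 0

/-- Multiplication from one level to the next. -/
noncomputable def μ {a : A} (ha : a ∈ J) (k : ℕ) : G h F k ⟶ G h F (k + 1) :=
  haveI := epi_levelTrans h F hN hF k
  Abelian.epiDesc (FSch.levelTrans 𝔛 h F k) (σ h f (G h F (k + 1)) a) (kernel_σ h f F hN hF k ha)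

theorem tr_μ {a : A} (ha : a ∈ J) (k : ℕ) :
    FSch.levelTrans 𝔛 h F k ≫ μ (f := f) hN hF ha k = σ h f (G h F (k + 1)) a :=
  haveI := epi_levelTrans h F hN hF k
  Abelian.comp_epiDesc _ _ _

theorem μ_tr {a : A} (ha : a ∈ J) (k : ℕ) :
    μ (f := f) hN hF ha k ≫ FSch.levelTrans 𝔛 h F k = σ h f (G h F k) a := by
  haveI := epi_levelTrans h F hN hF k
  rw [← cancel_epi (FSch.levelTrans 𝔛 h F k), ← Category.assoc, tr_μ, σ_natural]

theorem μ_sq {a : A} (ha : a ∈ J) (k : ℕ) :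
    μ (f := f) hN hF ha (k + 1) ≫ FSch.levelTrans 𝔛 h F (k + 1) =
      FSch.levelTrans 𝔛 h F k ≫ μ (f := f) hN hF ha k := by
  rw [μ_tr, tr_μ]

theorem μ_μ {a b : A} (ha : a ∈ J) (hb : b ∈ J) (k : ℕ) :
    μ (f := f) hN hF ha k ≫ μ (f := f) hN hF hb (k + 1) = μ (f := f) hN hF hb k ≫ μ (f := f) hN hF ha (k + 1) := by
  haveI := epi_levelTrans h F hN hF k
  haveI := epi_levelTrans h F hN hF (k + 1)
  rw [← cancel_epi (FSch.levelTrans 𝔛 h F k), ← Category.assoc, ← Category.assoc, tr_μ, tr_μ,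
    ← σ_natural, ← σ_natural, ← cancel_epi (FSch.levelTrans 𝔛 h F (k + 1)), ← Category.assoc, ← Category.assoc,
    tr_μ, tr_μ, σ_comp, σ_comp, mul_comm]

/-- Multiplication on kernels. -/
noncomputable def T {a : A} (ha : a ∈ J) (k : ℕ) : Kr F k ⟶ Kr F (k + 1) :=
  kernel.lift _ (kernel.ι _ ≫ μ (f := f) hN hF ha (k + 1))
    (by rw [Category.assoc, μ_sq, kernel.condition_assoc, zero_comp])

theorem T_ι {a : A} (ha : a ∈ J) (k : ℕ) :
    T (f := f) hN hF ha k ≫ kernel.ι (FSch.levelTrans 𝔛 h F (k + 1)) =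
      kernel.ι (FSch.levelTrans 𝔛 h F k) ≫ μ (f := f) hN hF ha (k + 1) := kernel.lift_ι _ _ _

theorem T_comm {a b : A} (ha : a ∈ J) (hb : b ∈ J) (k : ℕ) :
    T (f := f) hN hF ha k ≫ T (f := f) hN hF hb (k + 1) = T (f := f) hN hF hb k ≫ T (f := f) hN hF ha (k + 1) := by
  rw [← cancel_mono (kernel.ι (FSch.levelTrans 𝔛 h F (k + 1 + 1))), Category.assoc, Category.assoc, T_ι, T_ι,
    ← Category.assoc, ← Category.assoc, T_ι, T_ι, Category.assoc, Category.assoc, μ_μ]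

/-- The map on cohomology. -/
noncomputable abbrev hm {P Q : FSch.ModF 𝔛 h} (φ : P ⟶ Q) (n : ℕ) : FSch.HF 𝔛 h P n →+ FSch.HF 𝔛 h Q n :=
  Sheaf.H.map ((SheafOfModules.toSheaf _).map φ) n

theorem hm_comp {P Q R : FSch.ModF 𝔛 h} (φ : P ⟶ Q) (ψ : Q ⟶ R) (n : ℕ) (x : FSch.HF 𝔛 h P n) :
    hm (φ ≫ ψ) n x = hm ψ n (hm φ n x) := by
  rw [hm, Functor.map_comp, Sheaf.H.map_comp_apply]

theorem σ_add (P : FSch.ModF 𝔛 h) (a b : A) : σ h f P (a + b) = σ h f P a + σ h f P b :=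
  SheafOfModules.hom_ext (PresheafOfModules.hom_ext fun U => ModuleCat.hom_ext (LinearMap.ext fun x => by
    show (gs h f U.unop (a + b) • (x : sect P U.unop) : sect P U.unop) = gs h f U.unop a • x + gs h f U.unop b • x
    rw [map_add, add_smul]))

theorem σ_one (P : FSch.ModF 𝔛 h) : σ h f P 1 = 𝟙 P :=
  SheafOfModules.hom_ext (PresheafOfModules.hom_ext fun U => ModuleCat.hom_ext (LinearMap.ext fun x => by
    show (gs h f U.unop 1 • (x : sect P U.unop) : sect P U.unop) = x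
    rw [map_one, one_smul]))

theorem hm_σ_add (P : FSch.ModF 𝔛 h) (a b : A) (n : ℕ) (x : FSch.HF 𝔛 h P n) :
    hm (σ h f P (a + b)) n x = hm (σ h f P a) n x + hm (σ h f P b) n x := by
  rw [σ_add, hm, Functor.map_add, Sheaf.H.map_add_apply]

theorem hm_σ_one (P : FSch.ModF 𝔛 h) (n : ℕ) (x : FSch.HF 𝔛 h P n) : hm (σ h f P 1) n x = x := by
  rw [σ_one, hm, CategoryTheory.Functor.map_id, Sheaf.H.map_id_apply]

theorem σ_G_eq_zero (k : ℕ) {c : A} (hc : c ∈ J ^ (k + 1)) : σ h f (G h F k) c = 0 :=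
  SheafOfModules.hom_ext (PresheafOfModules.hom_ext fun U => ModuleCat.hom_ext (LinearMap.ext fun x =>
    (congrArg (fun r : B h k U.unop => r • @id (WS h (sysOf F) k U.unop) x) (gk_eq_zero h f k U.unop hc)).trans
      (zero_smul _ _)))

theorem hm_σ_G_eq_zero (k : ℕ) {c : A} (hc : c ∈ J ^ (k + 1)) (n : ℕ) (z : FSch.HF 𝔛 h (G h F k) n) :
    hm (σ h f (G h F k) c) n z = 0 := by
  have h2 := hm_σ_add (f := f) (G h F k) c c n z
  rw [σ_G_eq_zero (f := f) k hc, σ_G_eq_zero (f := f) k (add_mem hc hc)] at h2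
  rw [σ_G_eq_zero (f := f) k hc]
  exact left_eq_add.1 h2

/-- The transitions on cohomology. -/
noncomputable abbrev τH (F : FSch.ModF 𝔛 h) (n : ℕ) (k : ℕ) :
    FSch.HF 𝔛 h (G h F (k + 1)) n →+ FSch.HF 𝔛 h (G h F k) n :=
  hm (FSch.levelTrans 𝔛 h F k) n

/-- The images on cohomology. -/
noncomputable abbrev imH (F : FSch.ModF 𝔛 h) (n j k : ℕ) : AddSubgroup (FSch.HF 𝔛 h (G h F k) n) :=
  im (H := fun k => FSch.HF 𝔛 h (G h F k) n) (τH F n) j k

theorem μ_mem_im {a : A} (ha : a ∈ J) (n : ℕ) : ∀ (i k : ℕ), ∀ y ∈ imH F n i k,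
    hm (μ (f := f) hN hF ha k) n y ∈ imH F n i (k + 1)
  | 0, _, _, _ => AddSubgroup.mem_top _
  | i + 1, k, y, hy => by
    obtain ⟨z, hz, rfl⟩ := hy
    refine ⟨hm (μ (f := f) hN hF ha (k + 1)) n z, μ_mem_im ha n i (k + 1) z hz, ?_⟩
    show hm (FSch.levelTrans 𝔛 h F (k + 1)) n _ = hm (μ (f := f) hN hF ha k) n (hm (FSch.levelTrans 𝔛 h F k) n z)
    rw [← hm_comp, ← hm_comp, μ_sq]

include hN hF in
theorem σ_mem_im (n : ℕ) : ∀ (e : ℕ) {c : A}, c ∈ J ^ e → ∀ (i k : ℕ), ∀ y ∈ imH F n i k,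
    hm (σ h f (G h F k) c) n y ∈ imH F n (e + i) k := by
  intro e
  induction e with
  | zero =>
    intro c _ i k y hy
    rw [zero_add]
    induction i generalizing k with
    | zero => exact AddSubgroup.mem_top _
    | succ i ih =>
      obtain ⟨z, hz, rfl⟩ := hy
      refine ⟨hm (σ h f (G h F (k + 1)) c) n z, ih (k + 1) z hz, ?_⟩
      show hm (FSch.levelTrans 𝔛 h F k) n _ = hm (σ h f (G h F k) c) n (hm (FSch.levelTrans 𝔛 h F k) n z)
      rw [← hm_comp, ← hm_comp, σ_natural]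
  | succ e ih =>
    intro c hc
    rw [pow_succ'] at hc
    refine Submodule.mul_induction_on hc (fun a ha b hb i k y hy => ?_) fun x x' hx hx' i k y hy => ?_
    · rw [mul_comm a b, ← σ_comp, hm_comp, ← μ_tr (f := f) hN hF ha k, hm_comp,
        show e + 1 + i = (e + i) + 1 by omega]
      exact ⟨_, μ_mem_im hN hF ha n (e + i) k _ (ih hb i k y hy), rfl⟩
    · rw [hm_σ_add]
      exact add_mem (hx i k y hy) (hx' i k y hy)

/-- The kernels of the transitions, as a short exact sequence. -/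
noncomputable abbrev seqG (F : FSch.ModF 𝔛 h) (k : ℕ) : ShortComplex (FSch.ModF 𝔛 h) :=
  ShortComplex.mk (kernel.ι (FSch.levelTrans 𝔛 h F k)) (FSch.levelTrans 𝔛 h F k) (kernel.condition _)

include hN hF in
theorem shortExact_seqG (k : ℕ) : (seqG F k).ShortExact :=
  haveI := epi_levelTrans h F hN hF k
  { exact := ShortComplex.exact_of_f_is_kernel _ (kernelIsKernel _)
    mono_f := inferInstanceAs (Mono (kernel.ι _))
    epi_g := inferInstanceAs (Epi (FSch.levelTrans 𝔛 h F k)) }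

include hN hF in
theorem shortExact_ab (k : ℕ) : ((seqG F k).map (SheafOfModules.toSheaf _)).ShortExact :=
  (shortExact_seqG hN hF k).map_of_exact _

/-- The connecting map. -/
noncomputable def δ (n k : ℕ) : FSch.HF 𝔛 h (G h F k) n →+ FSch.HF 𝔛 h (Kr F k) (n + 1) :=
  (shortExact_ab hN hF k).extClass.postcomp _ rfl

theorem δ_natural {k k' : ℕ} (φ₁ : Kr F k ⟶ Kr F k') (φ₂ : G h F (k + 1) ⟶ G h F (k' + 1))
    (φ₃ : G h F k ⟶ G h F k') (h₁ : φ₁ ≫ kernel.ι _ = kernel.ι _ ≫ φ₂)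
    (h₂ : φ₂ ≫ FSch.levelTrans 𝔛 h F k' = FSch.levelTrans 𝔛 h F k ≫ φ₃) (n : ℕ) (x : FSch.HF 𝔛 h (G h F k) n) :
    δ hN hF n k' (hm φ₃ n x) = hm φ₁ (n + 1) (δ hN hF n k x) :=
  FormalFun.gen_natural (shortExact_ab hN hF k) (shortExact_ab hN hF k')
    ((SheafOfModules.toSheaf _).map φ₁) ((SheafOfModules.toSheaf _).map φ₂) ((SheafOfModules.toSheaf _).map φ₃)
    (((SheafOfModules.toSheaf _).map_comp _ _).symm.trans ((congrArg _ h₁).trans ((SheafOfModules.toSheaf _).map_comp _ _)))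
    (((SheafOfModules.toSheaf _).map_comp _ _).symm.trans ((congrArg _ h₂).trans ((SheafOfModules.toSheaf _).map_comp _ _))) x

theorem exists_of_δ_eq_zero (n k : ℕ) (x : FSch.HF 𝔛 h (G h F k) n) (hx : δ hN hF n k x = 0) :
    ∃ y, hm (FSch.levelTrans 𝔛 h F k) n y = x :=
  CohLin.gen_exact₃ (shortExact_ab hN hF k) x hx


end Groth.Agent.FFormal.LevelTower
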