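import Groth.Agent.FFormal.LevelStat

/-!
# Cohomology of a coherent module as the limit of that of its levels
-/

set_option autoImplicit false
set_option linter.style.haveILetI false
set_option linter.dupNamespace false

universe u

open CategoryTheory CategoryTheory.Limits AlgebraicGeometry Opposite TopologicalSpace ModSite

namespace Groth.Agent.FFormal.LevelTower

open Groth.Agent
open Groth.Agent.ModFlat (rs map_val_smul map_val_comp)
open Groth.Agent.PullFlat (appS appS_res appS_comp appS_injective eq_zero_of_locally mono_of_appS_injective)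
open Groth.Agent.FFormal.TowerLim (im Stat)

variable {A : Type u} [CommRing A] [IsNoetherianRing A] {J : Ideal A} {𝔛 : FSch.Sys.{u}} {h : 𝔛.IsFormal}
  {f : 𝔛 ⟶ FSch.spf A J}

variable (hN : 𝔛.IsLocNoethFormal) {F : FSch.ModF 𝔛 h} (hF : FSch.IsCohF 𝔛 h F) (hp : FSch.IsProperHom f)

include hN hF in
theorem exists_unit_eq (W : (𝔛.X 0).Opens) (y : ∀ k, WS h (sysOf F) k W)
    (hy : ∀ k, appS (FSch.levelTrans 𝔛 h F k) W (y (k + 1)) = (y k : sect (G h F k) W)) :
    ∃ t : sect F W, ∀ k, appS ((FSch.levelMor 𝔛 h k).adj.unit.app F) W t = (y k : sect (G h F k) W) := by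
  haveI := isIso_toReal hN hF
  obtain ⟨s, hs⟩ := (exists_isLimit_realMod h (sysOf F) W).2 y
    (fun k => (levelTrans_app h F k W (y (k + 1))).symm.trans (hy k))
  refine ⟨appS (inv (toReal F)) W s, fun k => ?_⟩
  refine (prj_toReal F k W _).symm.trans (Eq.trans (congrArg (prj h (sysOf F) k W) ?_) (hs k))
  rw [← appS_comp, IsIso.inv_hom_id]
  rfl

include hN hF in
theorem ab_inj (W : (𝔛.X 0).Opens) (t : (ModSite.toAb F).obj.obj (op W))
    (ht : ∀ k, (((SheafOfModules.toSheaf _).map ((FSch.levelMor 𝔛 h k).adj.unit.app F)).hom.app (op W)).hom t = 0) :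
    t = 0 := by
  haveI := isIso_toReal hN hF
  refine appS_injective (toReal F) W (a₁ := (t : sect F W)) (a₂ := (0 : sect F W)) (Eq.trans ?_ (map_zero _).symm)
  refine (exists_isLimit_realMod h (sysOf F) W).1 _ fun k => ?_
  exact (prj_toReal F k W t).trans (ht k)

include hN hF in
theorem ab_ex (W : (𝔛.X 0).Opens) (y : ∀ k, (ModSite.toAb (G h F k)).obj.obj (op W))
    (hy : ∀ k, (((SheafOfModules.toSheaf _).map (FSch.levelTrans 𝔛 h F k)).hom.app (op W)).hom (y (k + 1)) = y k) :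
    ∃ t, ∀ k, (((SheafOfModules.toSheaf _).map ((FSch.levelMor 𝔛 h k).adj.unit.app F)).hom.app (op W)).hom t = y k :=
  exists_unit_eq hN hF W (fun k => y k) hy

include hN hF hp in
theorem stat_ab (m : ℕ) : Stat (H := fun k => Sheaf.H (ModSite.toAb (G h F k)) m)
    (fun k => Sheaf.H.map ((SheafOfModules.toSheaf _).map (FSch.levelTrans 𝔛 h F k)) m) :=
  stat hN hF hp m

include hN hF hp in
/-- The cohomology of a coherent module is the limit of that of its levels. -/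
theorem bijective_to_levels (n : ℕ) :
    (∀ x : FSch.HF 𝔛 h F n, (∀ k, hm ((FSch.levelMor 𝔛 h k).adj.unit.app F) n x = 0) → x = 0) ∧
    (∀ y : ∀ k, FSch.HF 𝔛 h (G h F k) n, (∀ k, hm (FSch.levelTrans 𝔛 h F k) n (y (k + 1)) = y k) →
      ∃ x : FSch.HF 𝔛 h F n, ∀ k, hm ((FSch.levelMor 𝔛 h k).adj.unit.app F) n x = y k) := by
  letI := over0 f
  haveI : IsProper ((𝔛.X 0) ↘ Spec (CommRingCat.of A)) := isProper_q hp
  haveI : CompactSpace (𝔛.X 0) := FormalFun.compactSpace_of_proper A (𝔛.X 0)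
  haveI : (𝔛.X 0).IsSeparated := ⟨by
    rw [← terminal.comp_from ((𝔛.X 0) ↘ Spec (CommRingCat.of A))]
    infer_instance⟩
  haveI := isIso_toReal hN hF
  obtain ⟨𝒰, h𝒰⟩ := FormalFun.exists_affCov (X := 𝔛.X 0)
  let W : ∀ {m : ℕ}, (Fin (m + 1) → 𝒰.ι) → (𝔛.X 0).Opens := fun {m} x =>
    CohAff.inter (X := (𝔛.X 0).toPresheafedSpace.carrier) 𝒰.U x
  have hmem : ∀ {m : ℕ} (x : Fin (m + 1) → 𝒰.ι),
      (CohAff.affCov (𝔛.X 0)).mem (CohAff.inter (X := (𝔛.X 0).toPresheafedSpace.carrier) 𝒰.U x) :=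
    fun {m} x => CohColim.isAffineOpen_inter 𝒰.U 𝒰.isAffine x
  let τ : ∀ k, ModSite.toAb (G h F (k + 1)) ⟶ ModSite.toAb (G h F k) := fun k =>
    (SheafOfModules.toSheaf _).map (FSch.levelTrans 𝔛 h F k)
  let p : ∀ k, ModSite.toAb F ⟶ ModSite.toAb (G h F k) := fun k =>
    (SheafOfModules.toSheaf _).map ((FSch.levelMor 𝔛 h k).adj.unit.app F)
  have hτp : ∀ k, p (k + 1) ≫ τ k = p k := fun k => by
    refine ((SheafOfModules.toSheaf _).map_comp _ _).symm.trans (congrArg _ ?_)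
    refine Eq.trans ?_ (unit_toPush F k)
    rw [toPush_sysOf]
    rfl
  have hL : (CohAff.affCov (𝔛.X 0)).Good (ModSite.toAb F) := good_coh hN hF
  have hP : ∀ k, (CohAff.affCov (𝔛.X 0)).Good (ModSite.toAb (G h F k)) := fun k =>
    good_coh hN (isCohF_G hN hF k)
  have hU : ⨆ i, 𝒰.U i = ⊤ := top_unique 𝒰.covers
  have hsurj : ∀ k {m : ℕ} (x : Fin (m + 1) → 𝒰.ι) (t : (ModSite.toAb (G h F k)).obj.obj (op (W x))),
      ∃ s, ((τ k).hom.app (op (W x))).hom s = t := fun k {m} x t => by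
    obtain ⟨s, hs⟩ := tr_surjective (h := h) hN (isCoh_sysOf hF) (hmem x) k t
    exact ⟨s, (levelTrans_app h F k (W x) s).trans hs⟩
  have hinj : ∀ {m : ℕ} (x : Fin (m + 1) → 𝒰.ι) (t : (ModSite.toAb F).obj.obj (op (W x))),
      (∀ k, ((p k).hom.app (op (W x))).hom t = 0) → t = 0 := fun {m} x => ab_inj hN hF (W x)
  have hex : ∀ {m : ℕ} (x : Fin (m + 1) → 𝒰.ι) (y : ∀ k, (ModSite.toAb (G h F k)).obj.obj (op (W x))),
      (∀ k, ((τ k).hom.app (op (W x))).hom (y (k + 1)) = y k) →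
      ∃ t, ∀ k, ((p k).hom.app (op (W x))).hom t = y k := fun {m} x => ab_ex hN hF (W x)
  refine ⟨fun x hx => ?_, fun y hy => ?_⟩
  · refine TowerLim.eq_zero hU hmem τ p hτp hL hP hsurj hinj hex n x hx fun m _ => ?_
    exact stat_ab hN hF hp m
  · refine TowerLim.exists_class hU hmem τ p hL hP hsurj hinj hex n y ?_
    exact hy


end Groth.Agent.FFormal.LevelTower
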