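import Groth.Agent.FFormal.LevelDecomp

/-!
# Cohomology of the levels of a coherent module on a formal scheme proper over a formal spectrum
-/

set_option autoImplicit false
set_option linter.style.haveILetI false
set_option linter.dupNamespace false

universe u

open CategoryTheory CategoryTheory.Limits AlgebraicGeometry Opposite TopologicalSpace ModSite

namespace Groth.Agent.FFormal.LevelTower

open Groth.Agent
open Groth.Agent.ModFlat (rs map_val_smul map_val_comp)
open Groth.Agent.PullFlat (appS appS_res appS_comp appS_injective eq_zero_of_locally mono_of_appS_injective)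
open Groth.Agent.FFormal.TowerLim (im Stat)

variable {A : Type u} [CommRing A] [IsNoetherianRing A] {J : Ideal A} {𝔛 : FSch.Sys.{u}} {h : 𝔛.IsFormal}
  {f : 𝔛 ⟶ FSch.spf A J}

variable (hN : 𝔛.IsLocNoethFormal) {F : FSch.ModF 𝔛 h} (hF : FSch.IsCohF 𝔛 h F) (hp : FSch.IsProperHom f)

include hN hF hp in
/-- The images of the higher levels on cohomology are eventually stationary. -/
theorem stat (n : ℕ) : Stat (H := fun k => FSch.HF 𝔛 h (G h F k) n) (τH F n) := by
  obtain ⟨d, hd⟩ := exists_decomp hN hF hp n
  let V : ℕ → ∀ k, AddSubgroup (FSch.HF 𝔛 h (G h F k) n) := fun e k =>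
    AddSubgroup.closure {y | ∃ c ∈ J ^ e, ∃ z, hm (σ h f (G h F k) c) n z = y}
  have hstep : ∀ j k, d ≤ k → imH F n j k ≤ imH F n (j + 1) k ⊔ V j k := by
    intro j
    induction j with
    | zero =>
      exact fun k _ y _ => AddSubgroup.mem_sup_right
        (AddSubgroup.subset_closure ⟨1, by simp, y, hm_σ_one _ n y⟩)
    | succ j ih =>
      intro k hk
      show (imH F n j (k + 1)).map (τH F n k) ≤ _
      refine (AddSubgroup.map_mono (ih (k + 1) (by omega))).trans ?_
      rw [AddSubgroup.map_sup]
      refine sup_le (le_sup_left.trans' le_rfl) ?_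
      rw [AddMonoidHom.map_closure, AddSubgroup.closure_le]
      rintro _ ⟨_, ⟨c, hc, z, rfl⟩, rfl⟩
      obtain ⟨r, a, ha, x', y, rfl⟩ := hd k hk z
      have e : τH F n k (hm (σ h f (G h F (k + 1)) c) n
          (hm (FSch.levelTrans 𝔛 h F (k + 1)) n x' + ∑ l, hm (μ (f := f) hN hF (ha l) k) n (y l))) =
          hm (σ h f (G h F k) c) n (τH F n k (τH F n (k + 1) x')) +
            ∑ l, hm (σ h f (G h F k) (a l * c)) n (y l) := by
        show hm (FSch.levelTrans 𝔛 h F k) n _ = _
        rw [← hm_comp, ← σ_natural, hm_comp]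
        simp only [map_add, map_sum]
        refine congrArg (hm (σ h f (G h F k) c) n _ + ·) (Finset.sum_congr rfl fun l _ => ?_)
        rw [← hm_comp (μ (f := f) hN hF (ha l) k), μ_tr, ← hm_comp, σ_comp]
      rw [SetLike.mem_coe, e]
      refine add_mem (AddSubgroup.mem_sup_left ?_) (sum_mem fun l _ => AddSubgroup.mem_sup_right
        (AddSubgroup.subset_closure ⟨a l * c, ?_, y l, rfl⟩))
      · have h2 : τH F n k (τH F n (k + 1) x') ∈ imH F n 2 k :=
          ⟨_, ⟨x', AddSubgroup.mem_top _, rfl⟩, rfl⟩
        rw [show j + 1 + 1 = j + 2 by omega]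
        exact σ_mem_im hN hF n j hc 2 k _ h2
      · rw [pow_succ']
        exact Ideal.mul_mem_mul (ha l) hc
  have hstat : ∀ k, d ≤ k → ∀ j, imH F n (k + 1) k ≤ imH F n j k := by
    intro k hk j
    induction j with
    | zero => exact le_top
    | succ j ih =>
      rcases Nat.lt_or_ge j (k + 1) with hj | hj
      · exact TowerLim.im_anti _ hj k
      · refine ih.trans ((hstep j k hk).trans (sup_le le_rfl ?_))
        rw [AddSubgroup.closure_le]
        rintro _ ⟨c, hc, z, rfl⟩
        rw [hm_σ_G_eq_zero k (Ideal.pow_le_pow_right hj hc)]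
        exact zero_mem _
  intro k
  suffices key : ∀ i k, d ≤ k + i → ∃ N, ∀ j, imH F n N k ≤ imH F n j k from key d k (by omega)
  intro i
  induction i with
  | zero => exact fun k hk => ⟨k + 1, hstat k (by omega)⟩
  | succ i ih =>
    intro k hk
    obtain ⟨N, hN'⟩ := ih (k + 1) (by omega)
    refine ⟨N + 1, fun j => ?_⟩
    cases j with
    | zero => exact le_top
    | succ j => exact AddSubgroup.map_mono (hN' j)

end Groth.Agent.FFormal.LevelTower
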