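import Groth.Agent.FFormal.Iso
import Groth.Agent.FFormal.Sub
import Groth.Agent.FFormal.ComplPres
import Groth.Agent.SitePull.Stable
import Groth.Agent.FormalFun.ClosedCut
import Groth.Prelude.Def_FSch5

/-!
# The tower of levels of a coherent module over a formal spectrum: operators from the base
-/

set_option autoImplicit false
set_option linter.style.haveILetI false
set_option linter.dupNamespace false

universe u

open CategoryTheory CategoryTheory.Limits AlgebraicGeometry Opposite TopologicalSpace ModSite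

namespace Groth.Agent.FFormal.LevelTower

open Groth.Agent
open Groth.Agent.ModFlat (rs map_val_smul map_val_comp)
open Groth.Agent.PullFlat (appS appS_res appS_comp appS_injective eq_zero_of_locally mono_of_appS_injective)

variable {A : Type u} [CommRing A] {J : Ideal A} {𝔛 : FSch.Sys.{u}} (h : 𝔛.IsFormal) (f : 𝔛 ⟶ FSch.spf A J)

/-- The level map to the spectrum. -/
noncomputable abbrev q (n : ℕ) : 𝔛.X n ⟶ Spec (CommRingCat.of A) :=
  (f : FSch.Hom _ _).app n ≫ CohB1.specQuot J n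

theorem hq (n : ℕ) : 𝔛.ι n ≫ q f (n + 1) = q f n := by
  refine (Category.assoc _ _ _).symm.trans ((congrArg (· ≫ _) ((f : FSch.Hom _ _).comm n).symm).trans ?_)
  refine (Category.assoc _ _ _).trans (congrArg (_ ≫ ·) ?_)
  exact CohB1.specQuotTrans_specQuot J n

/-- The base acts on the sections of the structure sheaf. -/
noncomputable def gs (U : (𝔛.X 0).Opens) : A →+* Rg h U :=
  (rsR h (V := U) (U := (q f 0) ⁻¹ᵁ ⊤) (fun _ _ => trivial)).comp
    (((FSch.schSharp 𝔛 h (q f) (hq f)).hom.app (op ⊤)).hom.comp (Scheme.ΓSpecIso (CommRingCat.of A)).inv.hom)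

/-- The base acts on the sections of a level. -/
noncomputable def gk (k : ℕ) (U : (𝔛.X 0).Opens) : A →+* B h k U := (pr h k U).comp (gs h f U)

theorem rsR_gs {V U : (𝔛.X 0).Opens} (hVU : V ≤ U) (a : A) : rsR h hVU (gs h f U a) = gs h f V a :=
  rsR_rsR (h := h) hVU _ _

theorem gk_eq (k : ℕ) (U : (𝔛.X 0).Opens) (a : A) :
    gk h f k U a = (q f k).appLE ⊤ (𝔛.lvU h k U) (fun _ _ => trivial)
      ((Scheme.ΓSpecIso (CommRingCat.of A)).inv a) :=
  pr_schSharp h (q f) (hq f) k (U := ⊤) (V := U) (fun _ _ => trivial) _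

theorem gk_eq_zero (k : ℕ) (U : (𝔛.X 0).Opens) {a : A} (ha : a ∈ J ^ (k + 1)) : gk h f k U a = 0 := by
  rw [gk_eq]
  have h0 := S5742.specQuot_kills J k ha
  refine (ConcreteCategory.congr_hom (Scheme.Hom.comp_appLE ((f : FSch.Hom _ _).app k) (CohB1.specQuot J k)
    ⊤ (𝔛.lvU h k U) (fun _ _ => trivial)) _).trans ?_
  refine (congrArg (((f : FSch.Hom _ _).app k).appLE _ (𝔛.lvU h k U) _) h0).trans ?_
  exact map_zero _

theorem gs_mem_I (U : (𝔛.X 0).Opens) {a : A} (ha : a ∈ J) : gs h f U a ∈ I h U :=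
  gk_eq_zero h f 0 U (by rwa [pow_one])

/-- Multiplication by an element of the base on sections. -/
noncomputable def gsMul (F : FSch.ModF 𝔛 h) (a : A) (U : (𝔛.X 0).Opens) : sect F U →+ sect F U :=
  AddMonoidHom.mk' (fun x => gs h f U a • x) fun x y => smul_add _ x y

theorem gsMul_rs (F : FSch.ModF 𝔛 h) (a : A) {V U : (𝔛.X 0).Opens} (g : V ⟶ U) (x : sect F U) :
    gsMul h f F a V (rs F g x) = rs F g (gsMul h f F a U x) :=
  (congrArg (fun c : Rg h V => c • rs F g x) (rsR_gs h f g.le a).symm).trans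
    (map_val_smul g (gs h f U a) x).symm

theorem gsMul_smul (F : FSch.ModF 𝔛 h) (a : A) (U : (𝔛.X 0).Opens) (r : Rg h U) (x : sect F U) :
    gsMul h f F a U (r • x) = r • gsMul h f F a U x := smul_comm (gs h f U a) r x

/-- Multiplication by an element of the base. -/
noncomputable def σ (F : FSch.ModF 𝔛 h) (a : A) : F ⟶ F :=
  ⟨PresheafOfModules.homMk
    { app := fun U => AddCommGrpCat.ofHom (gsMul h f F a U.unop)
      naturality := fun U V g => AddCommGrpCat.hom_ext (AddMonoidHom.ext fun x => gsMul_rs h f F a g.unop x) }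
    fun U r x => gsMul_smul h f F a U.unop r x⟩

theorem appS_σ {F : FSch.ModF 𝔛 h} (a : A) (U : (𝔛.X 0).Opens) (x : sect F U) :
    appS (σ h f F a) U x = gs h f U a • x := rfl

theorem σ_natural {F G : FSch.ModF 𝔛 h} (φ : F ⟶ G) (a : A) : φ ≫ σ h f G a = σ h f F a ≫ φ :=
  SheafOfModules.hom_ext (PresheafOfModules.hom_ext fun U => ModuleCat.hom_ext (LinearMap.ext fun x =>
    ((φ.val.app U).hom.map_smul (gs h f U.unop a) x).symm))

theorem σ_comp (F : FSch.ModF 𝔛 h) (a b : A) : σ h f F a ≫ σ h f F b = σ h f F (a * b) :=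
  SheafOfModules.hom_ext (PresheafOfModules.hom_ext fun U => ModuleCat.hom_ext (LinearMap.ext fun x => by
    show (gs h f U.unop b • gs h f U.unop a • (x : sect F U.unop) : sect F U.unop) = gs h f U.unop (a * b) • x
    rw [smul_smul, ← map_mul, mul_comm]))

section Level

variable (F : FSch.ModF 𝔛 h)

/-- A level, on the formal scheme. -/
noncomputable abbrev G (k : ℕ) : FSch.ModF 𝔛 h :=
  (FSch.levelMor 𝔛 h k).push.obj ((FSch.levelMor 𝔛 h k).pull.obj F)

theorem toPush_sysOf (k : ℕ) : (sysOf F).toPush k = ((FSch.levelMor 𝔛 h (k + 1)).adj.homEquiv _ _).symm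
    ((FSch.levelMor 𝔛 h k).adj.unit.app F ≫ (FSch.pushCompareInv 𝔛 h k).app _) := by
  refine (((FSch.levelMor 𝔛 h (k + 1)).adj.homEquiv _ _).eq_symm_apply).2 ?_
  refine (Adjunction.homEquiv_unit _ F _ ((sysOf F).toPush k)).trans ?_
  refine Eq.trans ?_ (congrArg (· ≫ (FSch.pushCompareInv 𝔛 h k).app _) (unit_toPush F k))
  refine Eq.symm ((Category.assoc _ _ _).trans (congrArg (_ ≫ ·) ((Category.assoc _ _ _).trans ?_)))
  exact (congrArg (_ ≫ ·) (FSch.pushCompare_pushCompareInv 𝔛 h k _)).trans (Category.comp_id _)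

theorem levelTrans_app (k : ℕ) (U : (𝔛.X 0).Opens) (x : sect (G h F (k + 1)) U) :
    appS (FSch.levelTrans 𝔛 h F k) U x = tr h (sysOf F) k U x := by
  have e : FSch.levelTrans 𝔛 h F k = (FSch.levelMor 𝔛 h (k + 1)).push.map ((sysOf F).toPush k) ≫
      (FSch.pushCompare 𝔛 h k).app ((sysOf F).F k) := by rw [toPush_sysOf]; rfl
  rw [e]
  exact tr_eq h (sysOf F) k U x

variable (hN : 𝔛.IsLocNoethFormal) (hF : FSch.IsCohF 𝔛 h F)

include hN hF in
theorem epi_levelTrans (k : ℕ) : Epi (FSch.levelTrans 𝔛 h F k) := by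
  refine SitePull.epi_of_locally_surjective _ fun U x => ?_
  obtain ⟨S, hS, hS'⟩ := exists_cover_affine (𝔛 := 𝔛) U
  refine ⟨S, hS, fun V g hg => ?_⟩
  obtain ⟨V', hVV', hV'U, hV'⟩ := hS' g hg
  obtain ⟨y, hy⟩ := tr_surjective (h := h) hN (isCoh_sysOf hF) hV' k (rs (G h F k) (homOfLE hV'U) x)
  refine ⟨rs (G h F (k + 1)) (homOfLE hVV') y, ?_⟩
  rw [appS_res, levelTrans_app, hy, ← map_val_comp]
  rfl

include hN in
theorem ker_uk (k : ℕ) {U : (𝔛.X 0).Opens} (hU : IsAffineOpen U) :
    RingHom.ker (uk h k U) = (I h U ^ (k + 1)).map (pr h (k + 1) U) := by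
  rw [(ringSys h hN hU).ker_eq, (ringSys h hN hU).kerV_eq, Ideal.map_pow]
  rfl

include hN hF in
/-- The kernel of a transition is killed by the ideal of definition. -/
theorem smul_eq_zero_of_tr (k : ℕ) {U : (𝔛.X 0).Opens} (hU : IsAffineOpen U) {r : Rg h U} (hr : r ∈ I h U)
    {x : WS h (sysOf F) (k + 1) U} (hx : tr h (sysOf F) k U x = 0) : pr h (k + 1) U r • x = 0 := by
  have h1 := (ker_tr (h := h) hN (isCoh_sysOf hF) hU k x).1 hx
  refine Submodule.smul_induction_on h1 (fun b hb y _ => ?_) fun a b ha hb => by rw [smul_add, ha, hb, add_zero]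
  rw [ker_uk h hN k hU] at hb
  obtain ⟨c, hc, rfl⟩ := (Ideal.mem_map_iff_of_surjective _ (pr_surjective h hN hU (k + 1))).1 hb
  rw [smul_smul, ← map_mul, show pr h (k + 1) U (r * c) = 0 from ?_, zero_smul]
  rw [← RingHom.mem_ker, ker_pr h hN hU (k + 1), pow_succ']
  exact Ideal.mul_mem_mul hr hc

include hN hF in
theorem kernel_σ (k : ℕ) {a : A} (ha : a ∈ J) :
    kernel.ι (FSch.levelTrans 𝔛 h F k) ≫ σ h f (G h F (k + 1)) a = 0 := by
  refine SheafOfModules.hom_ext (PresheafOfModules.hom_ext fun U => ModuleCat.hom_ext (LinearMap.ext fun z => ?_))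
  show appS (σ h f (G h F (k + 1)) a) U.unop (appS (kernel.ι (FSch.levelTrans 𝔛 h F k)) U.unop z) = 0
  obtain ⟨S, hS, hS'⟩ := exists_cover_affine (𝔛 := 𝔛) U.unop
  refine eq_zero_of_locally _ hS _ fun V g hg => ?_
  obtain ⟨V', hVV', hV'U, hV'⟩ := hS' g hg
  rw [← appS_res, ← appS_res, show g = homOfLE hVV' ≫ homOfLE hV'U from rfl, map_val_comp, appS_res, appS_res]
  refine (congrArg (rs _ (homOfLE hVV')) ?_).trans (map_zero _)
  rw [appS_σ]
  refine smul_eq_zero_of_tr h F hN hF k hV' (gs_mem_I h f V' ha) ?_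
  rw [← levelTrans_app, ← appS_comp, kernel.condition]
  rfl

variable (hf : FSch.IsAdicHom f)

include hN hf in
/-- The kernel of a transition of rings is generated by the power of the ideal of the base. -/
theorem ker_uk_le (k : ℕ) {U : (𝔛.X 0).Opens} (hU : IsAffineOpen U) :
    RingHom.ker (uk h k U) ≤ (J ^ (k + 1)).map (gk h f (k + 1) U) := by
  letI : (𝔛.X (k + 1)).Over (Spec (CommRingCat.of A)) := ⟨q f (k + 1)⟩
  haveI : IsClosedImmersion (CohB1.specQuot J (k + 1)) :=
    IsClosedImmersion.spec_of_surjective _ Ideal.Quotient.mk_surjective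
  have hsq : IsPullback (CohB1.specQuotTrans J k) (𝟙 (Spec (CommRingCat.of (A ⧸ J ^ (k + 1)))))
      (CohB1.specQuot J (k + 1)) (CohB1.specQuot J k) :=
    IsPullback.of_isLimit' ⟨(CohB1.specQuotTrans_specQuot J k).trans (Category.id_comp _).symm⟩
      (PullbackCone.IsLimit.mk _ (fun s => s.snd)
        (fun s => (cancel_mono (CohB1.specQuot J (k + 1))).1
          ((Category.assoc _ _ _).trans ((congrArg (s.snd ≫ ·) (CohB1.specQuotTrans_specQuot J k)).trans
            s.condition.symm)))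
        (fun s => Category.comp_id _) (fun s m _ hm => (Category.comp_id m).symm.trans hm))
  have hP : IsPullback (𝔛.ι k) ((f : FSch.Hom _ _).app k) (q f (k + 1)) (CohB1.specQuot J k) := by
    have h1 := (hf k).paste_vert hsq
    have e : (f : FSch.Hom _ _).app k ≫ 𝟙 (Spec (CommRingCat.of (A ⧸ J ^ (k + 1)))) = (f : FSch.Hom _ _).app k :=
      Category.comp_id _
    exact e ▸ h1
  haveI : IsClosedImmersion (𝔛.ι k) := (h k).1
  have hc := (FormalFun.isCut_of_isPullback (A := A) (𝔛.ι k) J k hP).le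
    ⟨𝔛.lvU h (k + 1) U, isAffineOpen_lvU h (k + 1) hU⟩
  intro b hb
  have hb' : b ∈ (𝔛.ι k).ker.ideal ⟨𝔛.lvU h (k + 1) U, isAffineOpen_lvU h (k + 1) hU⟩ := by
    rw [Scheme.Hom.ker_apply, RingHom.mem_ker]
    have he : (𝔛.ι k) ⁻¹ᵁ 𝔛.lvU h (k + 1) U = 𝔛.lvU h k U := 𝔛.lvU_succ h k U
    refine (ConcreteCategory.bijective_of_isIso ((𝔛.X k).presheaf.map (eqToHom he.symm).op)).1 ?_
    exact (show uk h k U b = 0 from hb).trans (map_zero _).symm
  have hg : (J ^ (k + 1)).map (FormalFun.gA (A := A) (𝔛.lvU h (k + 1) U)) =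
      (J ^ (k + 1)).map (gk h f (k + 1) U) :=
    congrArg (fun φ => (J ^ (k + 1)).map φ) (RingHom.ext fun a => (gk_eq h f (k + 1) U a).symm)
  exact hg.le (hc hb')

include hN hF hf in
/-- Kernels of transitions are generated by the operators of the base. -/
theorem exists_gen_ker {r : ℕ} (a : Fin r → A) (hspan : Ideal.span (Set.range a) = J) (k : ℕ)
    {U : (𝔛.X 0).Opens} (hU : IsAffineOpen U) {x : WS h (sysOf F) (k + 1 + 1) U}
    (hx : tr h (sysOf F) (k + 1) U x = 0) :
    ∃ z : Fin r → WS h (sysOf F) (k + 1 + 1) U, (∀ l, tr h (sysOf F) k U (tr h (sysOf F) (k + 1) U (z l)) = 0) ∧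
      x = ∑ l, gk h f (k + 1 + 1) U (a l) • z l := by
  let M := WS h (sysOf F) (k + 1 + 1) U
  let g := gk h f (k + 1 + 1) U
  let N : Set M := {y | tr h (sysOf F) k U (tr h (sysOf F) (k + 1) U y) = 0}
  suffices key : ∀ y ∈ ((J ^ (k + 1 + 1)).map g • ⊤ : Submodule (B h (k + 1 + 1) U) M),
      ∃ z : Fin r → M, (∀ l, z l ∈ N) ∧ y = ∑ l, g (a l) • z l by
    refine key x ?_
    exact SetLike.le_def.1 (Submodule.smul_mono (ker_uk_le h f hN hf (k + 1) hU) le_rfl)
      ((ker_tr (h := h) hN (isCoh_sysOf hF) hU (k + 1) x).1 hx)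
  have h0 : ∀ c : B h (k + 1 + 1) U, ∀ y ∈ N, c • y ∈ N := fun c y hy => by
    show tr h (sysOf F) k U (tr h (sysOf F) (k + 1) U (c • y)) = 0
    rw [tr_smul, tr_smul, show tr h (sysOf F) k U (tr h (sysOf F) (k + 1) U y) = 0 from hy, smul_zero]
  intro y hy
  refine Submodule.smul_induction_on hy (fun c hc m _ => ?_) fun y y' hy hy' => ?_
  · rw [Ideal.map] at hc
    induction hc using Submodule.span_induction with
    | mem c hc =>
      obtain ⟨b, hb, rfl⟩ := hc
      rw [pow_succ', Submodule.mul_eq_map₂] at hb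
      have hb' : b ∈ J * J ^ (k + 1) := by rw [Submodule.mul_eq_map₂]; exact hb
      refine Submodule.mul_induction_on hb' (fun u hu v hv => ?_) fun b b' hb hb' => ?_
      · rw [← hspan] at hu
        obtain ⟨c, rfl⟩ := Submodule.mem_span_range_iff_exists_fun _ |>.1 hu
        refine ⟨fun l => (g (c l) * g v) • m, fun l => ?_, ?_⟩
        · show (g (c l) * g v) • m ∈ N
          rw [mul_smul]
          refine h0 _ _ ?_
          show tr h (sysOf F) k U (tr h (sysOf F) (k + 1) U (g v • m)) = 0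
          rw [tr_smul, tr_smul,
            show uk h k U (uk h (k + 1) U (g v)) = gk h f k U v from (congrArg _ (uk_pr h (k + 1) U _)).trans (uk_pr h k U _),
            gk_eq_zero h f k U hv, zero_smul]
        · rw [map_mul, map_sum, Finset.sum_mul, Finset.sum_smul]
          refine Finset.sum_congr rfl fun l _ => ?_
          rw [smul_eq_mul, map_mul, smul_smul]
          congr 1
          ring
      · obtain ⟨z, hz, e⟩ := hb
        obtain ⟨z', hz', e'⟩ := hb'
        refine ⟨z + z', fun l => ?_, ?_⟩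
        · show tr h (sysOf F) k U (tr h (sysOf F) (k + 1) U (z l + z' l)) = 0
          rw [map_add, map_add, show tr h (sysOf F) k U (tr h (sysOf F) (k + 1) U (z l)) = 0 from hz l,
            show tr h (sysOf F) k U (tr h (sysOf F) (k + 1) U (z' l)) = 0 from hz' l, add_zero]
        · rw [map_add, add_smul, e, e', ← Finset.sum_add_distrib]
          exact Finset.sum_congr rfl fun l _ => (smul_add _ _ _).symm
    | zero => exact ⟨0, fun l => by simp [N], by simp⟩
    | add c c' _ _ hc hc' =>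
      obtain ⟨z, hz, e⟩ := hc
      obtain ⟨z', hz', e'⟩ := hc'
      refine ⟨z + z', fun l => ?_, ?_⟩
      · show tr h (sysOf F) k U (tr h (sysOf F) (k + 1) U (z l + z' l)) = 0
        rw [map_add, map_add, show tr h (sysOf F) k U (tr h (sysOf F) (k + 1) U (z l)) = 0 from hz l,
          show tr h (sysOf F) k U (tr h (sysOf F) (k + 1) U (z' l)) = 0 from hz' l, add_zero]
      · rw [add_smul, e, e', ← Finset.sum_add_distrib]
        exact Finset.sum_congr rfl fun l _ => (smul_add _ _ _).symm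
    | smul d c _ hc =>
      obtain ⟨z, hz, e⟩ := hc
      refine ⟨fun l => d • z l, fun l => h0 d _ (hz l), ?_⟩
      rw [smul_assoc, e, Finset.smul_sum]
      exact Finset.sum_congr rfl fun l _ => smul_comm _ _ _
  · obtain ⟨z, hz, e⟩ := hy
    obtain ⟨z', hz', e'⟩ := hy'
    refine ⟨z + z', fun l => ?_, ?_⟩
    · show tr h (sysOf F) k U (tr h (sysOf F) (k + 1) U (z l + z' l)) = 0
      rw [map_add, map_add, show tr h (sysOf F) k U (tr h (sysOf F) (k + 1) U (z l)) = 0 from hz l,
        show tr h (sysOf F) k U (tr h (sysOf F) (k + 1) U (z' l)) = 0 from hz' l, add_zero]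
    · rw [e, e', ← Finset.sum_add_distrib]
      exact Finset.sum_congr rfl fun l _ => (smul_add _ _ _).symm

end Level

end Groth.Agent.FFormal.LevelTower
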