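import Groth.Agent.LocPres.Inverse

/-!
# The inverse image of a presentation, with its generators and relations
-/

set_option autoImplicit false
set_option linter.style.haveILetI false
set_option linter.dupNamespace false

universe u

open CategoryTheory CategoryTheory.Limits Opposite ModSite

namespace Groth.Agent.FFormal

open Groth.Agent.ModFlat (rs map_val_smul map_val_comp map_ring_comp)
open Groth.Agent.PullFlat
open Groth.Agent.LocPres

variable {C D : Type u} [SmallCategory C] [SmallCategory D] {J : GrothendieckTopology C}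
  {K : GrothendieckTopology D} {O_C : Sheaf J CommRingCat.{u}} {O_D : Sheaf K CommRingCat.{u}}
  (f : RMor O_C O_D) {M : Mod O_D}

/-- The inverse image of a presentation. -/
noncomputable def pullPres {X : D} (P : LocPres M X) {W : C} (b : W ⟶ f.fn.obj X) :
    LocPres (f.pull.obj M) W where
  n := P.n
  m := P.m
  s i := rs (f.pull.obj M) b (etaS f M X (P.s i))
  r k i := pl f b (P.r k i)
  rel k := by
    have h1 := genVal_sum (f := f) (M := M) b (P.r k) P.s
    rw [P.rel k] at h1
    refine h1.symm.trans ?_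
    exact (congrArg (rs (f.pull.obj M) b) (map_zero ((f.adj.unit.app M).val.app (op X)).hom)).trans (map_zero _)
  gen {T} a x := by
    obtain ⟨S, hS, hS'⟩ := isGen_pull' f P.toGen.isGen b a x
    refine ⟨S, hS, fun V g hg => ?_⟩
    obtain ⟨c, hc⟩ := hS' g hg
    refine ⟨fun i => c ⟨i⟩, Eq.trans ?_ hc⟩
    rw [combS_eq_sum]
    exact (sum_ulift (fun i => c i)
      (fun i => rs (f.pull.obj M) (g ≫ a) (rs (f.pull.obj M) b (etaS f M X (P.s i))))).symm
  relgen {T} a c hc := by
    let c' : ULift.{u} (Fin P.n) →₀ O_C.obj.obj (op T) := Finsupp.equivFunOnFinite.symm fun i => c i.down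
    have hc' : combS (fun i : ULift.{u} (Fin P.n) => rs (f.pull.obj M) b (etaS f M X (P.s i.down))) a c' = 0 := by
      rw [combS_eq_sum, ← hc]
      exact Fintype.sum_equiv Equiv.ulift _ _ fun i => rfl
    have hc'' := (rs_combS f b (fun i : ULift.{u} (Fin P.n) => P.s i.down) a c').symm.trans hc'
    obtain ⟨S, hS, hS'⟩ := exists_relation f P.toGen.isGen (a ≫ b) c' hc''
    refine exists_cover_bind _ hS fun T₁ g hg => ?_
    obtain ⟨V, q, b₁, N, β, e, hq, hβ, hce⟩ := hS' g hg
    obtain ⟨R, hR, hR'⟩ := exists_cover_forall (J := K)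
      (fun (l : Fin N) (Z : D) (z : Z ⟶ V) => ∃ d : Fin P.m → O_D.obj.obj (op Z), ∀ i,
        (O_D.obj.map z.op).hom (β l ⟨i⟩) = ∑ k, d k * (O_D.obj.map (z ≫ q).op).hom (P.r k i))
      (fun l => P.relgen q (fun i => β l ⟨i⟩) (by
        refine Eq.trans ?_ (hβ l)
        rw [combS_eq_sum]
        exact (sum_ulift (fun i => β l i) (fun i => rs M q (P.s i))).symm))
    obtain ⟨S₂, hS₂, hS₂'⟩ := (covFlat_rmor f).cover R hR b₁
    refine ⟨S₂, hS₂, fun T₂ g₂ hg₂ => ?_⟩
    obtain ⟨V', r, b₂, hr, hb₂⟩ := hS₂' g₂ hg₂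
    choose d hd using hR' r hr
    refine ⟨fun k => ∑ l, (O_C.obj.map g₂.op).hom (e l) * pl f b₂ (d l k), fun i => ?_⟩
    have h := congrArg (fun v => (O_C.obj.map g₂.op).hom (v ⟨i⟩)) hce
    simp only [Finsupp.mapRange_apply, Finsupp.finsetSum_apply, Finsupp.smul_apply, smul_eq_mul, map_sum,
      map_mul] at h
    rw [map_ring_comp]
    refine h.trans ?_
    have hk : ∀ k, (O_C.obj.map ((g₂ ≫ g) ≫ a).op).hom (pl f b (P.r k i)) =
        pl f b₂ ((O_D.obj.map (r ≫ q).op).hom (P.r k i)) := fun k => by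
      rw [pl_map, pl_res]
      refine congrArg (fun z => pl f z (P.r k i)) ?_
      rw [Category.assoc, Category.assoc, hq, reassoc_of% hb₂, f.fn.map_comp]
    simp only [hk, Finset.sum_mul]
    rw [Finset.sum_comm]
    refine Finset.sum_congr rfl fun l _ => ?_
    simp only [mul_assoc, ← Finset.mul_sum]
    refine congrArg (_ * ·) ?_
    rw [plV, Finsupp.mapRange_apply, pl_res, hb₂, ← pl_map, hd l i, map_sum]
    exact Finset.sum_congr rfl fun k _ => map_mul _ _ _

end Groth.Agent.FFormal
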