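import Groth.Agent.FFormal.Sect
import Groth.Agent.Adic.LimitSys
import Mathlib.RingTheory.AdicCompletion.Noetherian

/-!
# The module attached to a system of coherent modules on a locally Noetherian formal scheme is coherent
-/

set_option autoImplicit false
set_option linter.style.haveILetI false
set_option linter.dupNamespace false

universe u

open CategoryTheory CategoryTheory.Limits AlgebraicGeometry Opposite TopologicalSpace ModSite

namespace Groth.Agent.FFormal

open Groth.Agent.QCoh (res rres res_res res_smul)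
open Groth.Agent.ModFlat (rs map_val_smul map_val_comp)
open Groth.Agent.PullFlat (appS exists_cover_bind)
open Groth.Agent.LocPres

variable {𝔛 : FSch.Sys.{u}} {h : 𝔛.IsFormal} {𝔐 : FSch.ModSys 𝔛}

theorem mem_map_smul_iff {A B M : Type*} [CommRing A] [CommRing B] [AddCommGroup M] [Module A M] [Module B M]
    (p : A →+* B) (hp : Function.Surjective p) (hsmul : ∀ (a : A) (x : M), a • x = p a • x) (J : Ideal A) (x : M) :
    x ∈ (J.map p • ⊤ : Submodule B M) ↔ x ∈ (J • ⊤ : Submodule A M) := by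
  constructor
  · intro hx
    refine Submodule.smul_induction_on hx (fun b hb m _ => ?_) fun a b ha hb => add_mem ha hb
    obtain ⟨a, ha, rfl⟩ := (Ideal.mem_map_iff_of_surjective p hp).1 hb
    rw [← hsmul]
    exact Submodule.smul_mem_smul ha trivial
  · intro hx
    refine Submodule.smul_induction_on hx (fun a ha m _ => ?_) fun a b ha hb => add_mem ha hb
    rw [hsmul]
    exact Submodule.smul_mem_smul (Ideal.mem_map_of_mem _ ha) trivial

theorem tr_surjective (hN : 𝔛.IsLocNoethFormal) (hM : 𝔐.IsCoh) {U : (𝔛.X 0).Opens} (hU : IsAffineOpen U)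
    (k : ℕ) : Function.Surjective (tr h 𝔐 k U) := by
  haveI := (hM (k + 1)).1
  haveI := (hM (k + 1)).2
  haveI := (hM k).1
  haveI := hN.2.2 (k + 1)
  obtain ⟨n, m, s, r, P⟩ := exists_presOn (𝔐.F (k + 1)) (isAffineOpen_lvU h (k + 1) hU)
  intro y
  obtain ⟨c, hc⟩ := Submodule.mem_span_range_iff_exists_fun _ |>.1 ((presOn_tr h 𝔐 k hU P).gen y)
  choose c' hc' using fun i => (ringSys h hN hU).surj k (c i)
  refine ⟨∑ i, c' i • s i, ?_⟩
  rw [map_sum, ← hc]
  exact Finset.sum_congr rfl fun i _ => by rw [tr_smul, hc']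

theorem ker_tr (hN : 𝔛.IsLocNoethFormal) (hM : 𝔐.IsCoh) {U : (𝔛.X 0).Opens} (hU : IsAffineOpen U)
    (k : ℕ) (x : WS h 𝔐 (k + 1) U) :
    tr h 𝔐 k U x = 0 ↔ x ∈ (RingHom.ker (uk h k U) • ⊤ : Submodule (B h (k + 1) U) (WS h 𝔐 (k + 1) U)) := by
  haveI := (hM (k + 1)).1
  haveI := (hM (k + 1)).2
  haveI := (hM k).1
  haveI := hN.2.2 (k + 1)
  obtain ⟨n, m, s, r, P⟩ := exists_presOn (𝔐.F (k + 1)) (isAffineOpen_lvU h (k + 1) hU)
  constructor
  · intro hx
    obtain ⟨c, rfl⟩ := Submodule.mem_span_range_iff_exists_fun _ |>.1 (P.gen x)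
    rw [map_sum] at hx
    simp only [tr_smul] at hx
    obtain ⟨b, hb⟩ := Submodule.mem_span_range_iff_exists_fun _ |>.1 ((presOn_tr h 𝔐 k hU P).relgen _ hx)
    choose b' hb' using fun j => (ringSys h hN hU).surj k (b j)
    have e : ∑ i, c i • s i = ∑ i, (c i - ∑ j, b' j * r j i) • s i := by
      simp only [sub_smul, Finset.sum_sub_distrib, Finset.sum_smul, ← smul_smul]
      rw [Finset.sum_comm (f := fun i j => b' j • r j i • s i)]
      simp only [← Finset.smul_sum, P.rel, smul_zero, Finset.sum_const_zero, sub_zero]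
    rw [e]
    refine Submodule.sum_mem _ fun i _ => Submodule.smul_mem_smul ?_ trivial
    rw [RingHom.mem_ker, map_sub, map_sum, sub_eq_zero]
    have := congrFun hb i
    simp only [Finset.sum_apply, Pi.smul_apply, smul_eq_mul] at this
    simp only [map_mul, hb', this]
  · intro hx
    refine Submodule.smul_induction_on hx (fun b hb y _ => ?_) fun a b ha hb => ?_
    · rw [tr_smul, RingHom.mem_ker.1 hb, zero_smul]
    · rw [map_add, ha, hb, add_zero]

/-- The sections of the limit over an affine open are finite, with projections surjective and kernels given by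
the powers of the ideal of definition. -/
theorem sections_spec (hN : 𝔛.IsLocNoethFormal) (hM : 𝔐.IsCoh) {U : (𝔛.X 0).Opens} (hU : IsAffineOpen U) :
    (∀ k, Function.Surjective (prj h 𝔐 k U)) ∧
    Module.Finite (Rg h U) (sect (𝔐.realMod h) U) ∧
    (∀ k x, prj h 𝔐 k U x = 0 ↔ x ∈ (I h U ^ (k + 1) • ⊤ : Submodule (Rg h U) (sect (𝔐.realMod h) U))) ∧
    ∀ {n : ℕ} (t : Fin n → sect (𝔐.realMod h) U),
      (∀ y : WS h 𝔐 0 U, y ∈ Submodule.span (B h 0 U) (Set.range fun i => prj h 𝔐 0 U (t i))) →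
      ∀ x : sect (𝔐.realMod h) U, x ∈ Submodule.span (Rg h U) (Set.range t) := by
  letI : ∀ k, Module (Rg h U) (WS h 𝔐 k U) := fun k => Module.compHom _ (pr h k U)
  let π : ∀ k, sect (𝔐.realMod h) U →ₗ[Rg h U] WS h 𝔐 k U := fun k =>
    { toFun := prj h 𝔐 k U, map_add' := map_add _, map_smul' := prj_smul h 𝔐 k U }
  let f : ∀ k, WS h 𝔐 (k + 1) U →ₗ[Rg h U] WS h 𝔐 k U := fun k =>
    { toFun := tr h 𝔐 k U, map_add' := map_add _
      map_smul' := fun a x => by
        refine (tr_smul h 𝔐 k U (pr h (k + 1) U a) x).trans ?_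
        rw [uk_pr]
        rfl }
  have hker : ∀ k, RingHom.ker (uk h k U) = (I h U ^ (k + 1)).map (pr h (k + 1) U) := fun k => by
    rw [(ringSys h hN hU).ker_eq, (ringSys h hN hU).kerV_eq, Ideal.map_pow]
    rfl
  have hL : Adic.LimSys (Rg h U) (I h U) (fun k => WS h 𝔐 k U) f (sect (𝔐.realMod h) U) π :=
    { surj := tr_surjective hN hM hU
      ker_eq := fun k => by
        ext x
        rw [LinearMap.mem_ker]
        refine (ker_tr hN hM hU k x).trans ?_
        rw [hker k]
        exact mem_map_smul_iff (pr h (k + 1) U) (pr_surjective h hN hU (k + 1)) (fun _ _ => rfl) _ x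
      compat := fun k => LinearMap.ext (tr_prj h 𝔐 k U)
      inj := (exists_isLimit_realMod h 𝔐 U).1
      lift := (exists_isLimit_realMod h 𝔐 U).2 }
  haveI := isAdicComplete h hN hU
  have h0 : Module.Finite (Rg h U) (WS h 𝔐 0 U) := by
    haveI := (hM 0).1
    haveI := (hM 0).2
    haveI := hN.2.2 0
    obtain ⟨n, m, s, r, P⟩ := exists_presOn (𝔐.F 0) (isAffineOpen_lvU h 0 hU)
    refine ⟨Submodule.fg_iff_exists_fin_generating_family.2 ⟨n, s, eq_top_iff.2 fun y _ => ?_⟩⟩
    obtain ⟨c, hc⟩ := Submodule.mem_span_range_iff_exists_fun _ |>.1 (P.gen y)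
    choose c' hc' using fun i => pr_surjective h hN hU 0 (c i)
    refine Submodule.mem_span_range_iff_exists_fun _ |>.2 ⟨c', Eq.trans ?_ hc⟩
    exact Finset.sum_congr rfl fun i _ => by
      show pr h 0 U (c' i) • s i = _
      rw [hc']
  obtain ⟨r, φ, hφ, hkerπ⟩ := hL.exists_surjective_of_finite h0
  refine ⟨hL.surjective_proj, Module.Finite.of_surjective φ hφ, fun k x => ?_, fun {n} t ht x => ?_⟩
  · rw [← hkerπ k]
    exact Iff.rfl
  · let ψ : (Fin n → Rg h U) →ₗ[Rg h U] sect (𝔐.realMod h) U :=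
      Fintype.linearCombination (Rg h U) (fun i => t i)
    have hψ0 : Function.Surjective (π 0 ∘ₗ ψ) := fun y => by
      obtain ⟨c, hc⟩ := Submodule.mem_span_range_iff_exists_fun _ |>.1 (ht y)
      choose c' hc' using fun i => pr_surjective h hN hU 0 (c i)
      refine ⟨c', ?_⟩
      rw [LinearMap.comp_apply, Fintype.linearCombination_apply, map_sum, ← hc]
      exact Finset.sum_congr rfl fun i _ => by
        refine (prj_smul h 𝔐 0 U _ _).trans ?_
        rw [hc']
    have hψ := hL.surjective_comp_of_surjective_zero ψ hψ0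
    obtain ⟨c, hc⟩ := hψ0 (π 0 x)
    obtain ⟨a, -, ha⟩ := hL.exists_eq_of_ker ψ hψ (n := 0) (x := x - ψ c)
      (by rw [map_sub]; simp only [LinearMap.comp_apply] at hc; rw [hc, sub_self])
    refine Submodule.mem_span_range_iff_exists_fun _ |>.2 ⟨a + c, ?_⟩
    rw [← Fintype.linearCombination_apply (Rg h U)]
    show ψ (a + c) = x
    rw [map_add, ha, sub_add_cancel]

/-- A submodule of a finite free module over a complete Noetherian ring is closed. -/
theorem mem_of_forall_mem_sup_pow {A : Type u} [CommRing A] [IsNoetherianRing A] (J : Ideal A)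
    (hJ : J ≤ (⊥ : Ideal A).jacobson) {n : ℕ} (N : Submodule A (Fin n → A)) (c : Fin n → A)
    (hc : ∀ k, c ∈ N ⊔ J ^ (k + 1) • ⊤) : c ∈ N := by
  haveI : IsHausdorff J ((Fin n → A) ⧸ N) := IsHausdorff.of_le_jacobson _ _ hJ
  rw [← Submodule.Quotient.mk_eq_zero N]
  refine IsHausdorff.haus ‹_› _ fun k => SModEq.zero.2 ?_
  obtain ⟨a, ha, b, hb, rfl⟩ := Submodule.mem_sup.1 (hc k)
  rw [show (Submodule.Quotient.mk (a + b) : (Fin n → A) ⧸ N) = N.mkQ b by
    rw [Submodule.Quotient.mk_add, (Submodule.Quotient.mk_eq_zero N).2 ha, zero_add]; rfl]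
  have : N.mkQ b ∈ (J ^ (k + 1) • ⊤ : Submodule A (Fin n → A)).map N.mkQ := Submodule.mem_map_of_mem hb
  rw [Submodule.map_smul''] at this
  exact SetLike.le_def.1 (Submodule.smul_mono (Ideal.pow_le_pow_right (Nat.le_succ k)) le_top) this

/-- A presentation of the sections over an affine open presents the sections over all smaller affine opens and
over all levels. -/
theorem exists_realPres (hN : 𝔛.IsLocNoethFormal) (hM : 𝔐.IsCoh) {U : (𝔛.X 0).Opens} (hU : IsAffineOpen U) :
    ∃ (n m : ℕ) (s : Fin n → sect (𝔐.realMod h) U) (r : Fin m → Fin n → Rg h U),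
      (∀ j, ∑ i, r j i • s i = 0) ∧
      (∀ {V : (𝔛.X 0).Opens}, IsAffineOpen V → ∀ hVU : V ≤ U,
        (∀ x, x ∈ Submodule.span (Rg h V) (Set.range fun i => rs (𝔐.realMod h) (homOfLE hVU) (s i))) ∧
        ∀ c : Fin n → Rg h V, ∑ i, c i • rs (𝔐.realMod h) (homOfLE hVU) (s i) = 0 →
          c ∈ Submodule.span (Rg h V) (Set.range fun j i => rsR h hVU (r j i))) ∧
      ∀ k, PresOn (𝔐.F k) (𝔛.lvU h k U) (fun i => prj h 𝔐 k U (s i)) (fun j i => pr h k U (r j i)) := by
  obtain ⟨hsurj, hfin, hker, -⟩ := sections_spec (h := h) (𝔐 := 𝔐) hN hM hU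
  haveI := hfin
  haveI := isNoetherianRing h hN hU
  obtain ⟨n, s, hs⟩ := Submodule.fg_iff_exists_fin_generating_family.1
    (Module.Finite.fg_top (R := Rg h U) (M := sect (𝔐.realMod h) U))
  let K := LinearMap.ker (Fintype.linearCombination (Rg h U) s)
  obtain ⟨m, r, hr⟩ := Submodule.fg_iff_exists_fin_generating_family.1 (IsNoetherian.noetherian K)
  have hgen : ∀ x, ∃ c : Fin n → Rg h U, ∑ i, c i • s i = x := fun x =>
    Submodule.mem_span_range_iff_exists_fun _ |>.1 (hs ▸ trivial)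
  have hrel : ∀ j, ∑ i, r j i • s i = 0 := fun j => by
    have : r j ∈ K := hr ▸ Submodule.subset_span ⟨j, rfl⟩
    rwa [LinearMap.mem_ker, Fintype.linearCombination_apply] at this
  have hlev : ∀ k, PresOn (𝔐.F k) (𝔛.lvU h k U) (fun i => prj h 𝔐 k U (s i)) (fun j i => pr h k U (r j i)) := by
    intro k
    refine ⟨fun j => ?_, fun y => ?_, fun c hc => ?_⟩
    · refine Eq.trans ?_ ((congrArg (prj h 𝔐 k U) (hrel j)).trans (map_zero _))
      rw [map_sum]
      exact Finset.sum_congr rfl fun i _ => (prj_smul h 𝔐 k U _ _).symm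
    · obtain ⟨x, rfl⟩ := hsurj k y
      obtain ⟨c, rfl⟩ := hgen x
      rw [map_sum]
      exact Submodule.sum_mem _ fun i _ => by
        rw [prj_smul]
        exact Submodule.smul_mem _ _ (Submodule.subset_span ⟨i, rfl⟩)
    · choose c' hc' using fun i => pr_surjective h hN hU k (c i)
      have h1 : ∑ i, c' i • s i ∈ (I h U ^ (k + 1) • ⊤ : Submodule (Rg h U) _) := by
        rw [← hker, map_sum, ← hc]
        exact Finset.sum_congr rfl fun i _ => by rw [prj_smul, hc']
      rw [← hs, Submodule.mem_ideal_smul_span_iff_exists_sum] at h1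
      obtain ⟨d, hd, hde⟩ := h1
      have h2 : (fun i => c' i - d i) ∈ K := by
        rw [LinearMap.mem_ker, Fintype.linearCombination_apply]
        simp only [sub_smul, Finset.sum_sub_distrib]
        rw [← hde]
        simp [Finsupp.sum_fintype]
      rw [← hr] at h2
      obtain ⟨b, hb⟩ := Submodule.mem_span_range_iff_exists_fun _ |>.1 h2
      refine Submodule.mem_span_range_iff_exists_fun _ |>.2 ⟨fun j => pr h k U (b j), funext fun i => ?_⟩
      have h3 := congrArg (pr h k U) (congrFun hb i)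
      simp only [Finset.sum_apply, Pi.smul_apply, smul_eq_mul, map_sum, map_mul, map_sub] at h3 ⊢
      rw [h3, hc', show pr h k U (d i) = 0 from RingHom.mem_ker.1 (by rw [ker_pr h hN hU k]; exact hd i), sub_zero]
  refine ⟨n, m, s, r, hrel, fun {V} hV hVU => ?_, hlev⟩
  haveI := fun k => (hM k).1
  have hlevV := fun k => (hlev k).restrict (isAffineOpen_lvU h k hU) (isAffineOpen_lvU h k hV) (lvU_mono h k hVU)
  obtain ⟨-, -, -, hgenV⟩ := sections_spec (h := h) (𝔐 := 𝔐) hN hM hV
  refine ⟨hgenV _ fun y => ?_, fun c hc => ?_⟩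
  · simp only [prj_rs]
    exact (hlevV 0).gen y
  · haveI := isNoetherianRing h hN hV
    refine mem_of_forall_mem_sup_pow (I h V) (I_le_jacobson h hN hV) _ c fun k => ?_
    have h1 := congrArg (prj h 𝔐 k V) hc
    rw [map_sum, map_zero] at h1
    simp only [prj_smul, prj_rs] at h1
    obtain ⟨b, hb⟩ := Submodule.mem_span_range_iff_exists_fun _ |>.1 ((hlevV k).relgen _ h1)
    choose b' hb' using fun j => pr_surjective h hN hV k (b j)
    rw [show c = (∑ j, b' j • fun i => rsR h hVU (r j i)) + (c - ∑ j, b' j • fun i => rsR h hVU (r j i)) by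
      rw [add_sub_cancel]]
    refine Submodule.add_mem_sup (Submodule.sum_mem _ fun j _ =>
      Submodule.smul_mem _ _ (Submodule.subset_span ⟨j, rfl⟩)) ?_
    refine Adic.mem_smul_pi _ _ fun i => ?_
    rw [smul_eq_mul, Ideal.mul_top, ← ker_pr h hN hV k, RingHom.mem_ker]
    have h4 := congrFun hb i
    simp only [Finset.sum_apply, Pi.smul_apply, smul_eq_mul] at h4
    simp only [Pi.sub_apply, Finset.sum_apply, Pi.smul_apply, smul_eq_mul, map_sub, map_sum, map_mul, hb', pr_rsR]
    rw [← h4, sub_eq_zero]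
    rfl

theorem exists_locPres_real (hN : 𝔛.IsLocNoethFormal) (hM : 𝔐.IsCoh) {U : (𝔛.X 0).Opens} (hU : IsAffineOpen U) :
    ∃ P : LocPres (𝔐.realMod h) U,
      ∀ k, PresOn (𝔐.F k) (𝔛.lvU h k U) (fun i => prj h 𝔐 k U (P.s i)) (fun j i => pr h k U (P.r j i)) := by
  obtain ⟨n, m, s, r, hrel, hV, hlev⟩ := exists_realPres (h := h) hN hM hU
  refine ⟨{ n := n, m := m, s := s, r := r, rel := hrel
            gen := fun {T} a x => ?_, relgen := fun {T} a c hc => ?_ }, hlev⟩
  all_goals
    obtain ⟨S, hS, hS'⟩ := exists_cover_affine (𝔛 := 𝔛) T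
    refine ⟨S, hS, fun V g hg => ?_⟩
    obtain ⟨W, hVW, hWT, hW⟩ := hS' g hg
    obtain ⟨hgW, hrW⟩ := hV hW (hWT.trans a.le)
  · obtain ⟨d, hd⟩ := Submodule.mem_span_range_iff_exists_fun _ |>.1 (hgW (rs _ (homOfLE hWT) x))
    refine ⟨fun i => rsR h hVW (d i), ?_⟩
    have := congrArg (rs (𝔐.realMod h) (homOfLE hVW)) hd
    rw [rs_sum_smul] at this
    simp only [← map_val_comp] at this
    exact this
  · have h1 := congrArg (rs (𝔐.realMod h) (homOfLE hWT)) hc
    rw [rs_sum_smul, map_zero] at h1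
    simp only [← map_val_comp] at h1
    obtain ⟨d, hd⟩ := Submodule.mem_span_range_iff_exists_fun _ |>.1 (hrW _ h1)
    refine ⟨fun j => rsR h hVW (d j), fun i => ?_⟩
    have := congrArg (rsR h hVW) (congrFun hd i)
    simp only [Finset.sum_apply, Pi.smul_apply, smul_eq_mul, map_sum, map_mul, rsR_rsR] at this
    exact (rsR_rsR hVW hWT (c i)).symm.trans this.symm

theorem isCohF_realMod (hN : 𝔛.IsLocNoethFormal) (hM : 𝔐.IsCoh) : FSch.IsCohF 𝔛 h (𝔐.realMod h) := by
  refine isFinitePresentation_of_cover fun U => ?_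
  obtain ⟨S, hS, hS'⟩ := exists_cover_affine (𝔛 := 𝔛) U
  refine ⟨S, hS, fun V g hg => ?_⟩
  obtain ⟨W, hVW, hWU, hW⟩ := hS' g hg
  obtain ⟨P, -⟩ := exists_locPres_real (h := h) hN hM hW
  exact ⟨P.restrict (homOfLE hVW)⟩

end Groth.Agent.FFormal
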