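import Groth.Prelude.Def_FSch5
import Groth.Agent.Adic.RingSys
import Groth.Agent.Adic.RestrictOpen
import Groth.Agent.Adic.Rig.BaseChange
import Groth.Agent.RegLoc.AdicNoeth
import Groth.Agent.AffThick.Nil
import Mathlib.AlgebraicGeometry.Morphisms.Flat
import Mathlib.RingTheory.Nakayama

/-!
# Rings of sections of a locally Noetherian formal scheme over affine opens

Over an affine open `U` the ring `O_𝔛(U)` is Noetherian and adically complete with truncations the rings of
the levels, and restriction between affine opens is flat.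
-/

set_option autoImplicit false
set_option linter.style.haveILetI false

universe u

open CategoryTheory CategoryTheory.Limits AlgebraicGeometry Opposite TopologicalSpace

namespace Groth.Agent.FFormal

variable {𝔛 : FSch.Sys.{u}} (h : 𝔛.IsFormal)

/-- Sections of the structure sheaf. -/
noncomputable abbrev Rg (U : (𝔛.X 0).Opens) : CommRingCat.{u} := (𝔛.Osh h).obj.obj (op U)

/-- Sections of the structure sheaf of a level. -/
noncomputable abbrev B (k : ℕ) (U : (𝔛.X 0).Opens) : CommRingCat.{u} := Γ(𝔛.X k, 𝔛.lvU h k U)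

/-- The projection to a level. -/
noncomputable def pr (k : ℕ) (U : (𝔛.X 0).Opens) : Rg h U →+* B h k U :=
  ((𝔛.OshProj h k).hom.app (op U)).hom

/-- The transition map of the levels. -/
noncomputable def uk (k : ℕ) (U : (𝔛.X 0).Opens) : B h (k + 1) U →+* B h k U :=
  ((𝔛.ι k).appLE (𝔛.lvU h (k + 1) U) (𝔛.lvU h k U) (𝔛.lvU_le h k U)).hom

/-- The map to the smallest level. -/
noncomputable def vk (k : ℕ) (U : (𝔛.X 0).Opens) : B h k U →+* B h 0 U :=
  ((𝔛.toX k).appLE (𝔛.lvU h k U) (𝔛.lvU h 0 U) (Adic.RestrictOpen.lvU_toX 𝔛 h U k).ge).hom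

theorem lvU_mono (k : ℕ) {V U : (𝔛.X 0).Opens} (hVU : V ≤ U) : 𝔛.lvU h k V ≤ 𝔛.lvU h k U :=
  fun _ hx => hVU hx

/-- Restriction on the structure sheaf. -/
noncomputable def rsR {V U : (𝔛.X 0).Opens} (hVU : V ≤ U) : Rg h U →+* Rg h V :=
  ((𝔛.Osh h).obj.map (homOfLE hVU).op).hom

/-- Restriction on a level. -/
noncomputable def rsB (k : ℕ) {V U : (𝔛.X 0).Opens} (hVU : V ≤ U) : B h k U →+* B h k V :=
  ((𝔛.X k).presheaf.map (homOfLE (lvU_mono h k hVU)).op).hom

theorem pr_rsR (k : ℕ) {V U : (𝔛.X 0).Opens} (hVU : V ≤ U) (a : Rg h U) :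
    pr h k V (rsR h hVU a) = rsB h k hVU (pr h k U a) :=
  ConcreteCategory.congr_hom ((𝔛.OshProj h k).hom.naturality (homOfLE hVU).op) a

theorem uk_pr (k : ℕ) (U : (𝔛.X 0).Opens) (a : Rg h U) : uk h k U (pr h (k + 1) U a) = pr h k U a := by
  have := congrArg (fun φ => φ.hom.app (op U) a) (𝔛.OshProj_levelMap h k)
  exact this

theorem exists_isLimit_Rg (U : (𝔛.X 0).Opens) :
    (∀ a : Rg h U, (∀ k, pr h k U a = 0) → a = 0) ∧
      ∀ y : (∀ k, B h k U), (∀ k, uk h k U (y (k + 1)) = y k) → ∃ a : Rg h U, ∀ k, pr h k U a = y k := by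
  let G : Sheaf (Opens.grothendieckTopology (𝔛.X 0)) CommRingCat.{u} ⥤ CommRingCat.{u} :=
    sheafToPresheaf _ _ ⋙ (evaluation _ _).obj (op U)
  have hl : IsLimit ((G ⋙ forget CommRingCat.{u}).mapCone (limit.cone (𝔛.levelRing h))) :=
    isLimitOfPreserves _ (limit.isLimit _)
  constructor
  · intro a ha
    refine ((Types.isLimitEquivSections hl).injective (Subtype.ext (funext fun j => ?_)))
    obtain ⟨n⟩ := j
    exact (ha n).trans (map_zero (pr h n U)).symm
  · intro y hy
    let F := 𝔛.levelRing h ⋙ G ⋙ forget CommRingCat.{u}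
    let s : Cone F :=
      { pt := PUnit.{u + 1}
        π := NatTrans.ofOpSequence (fun n => ↾fun _ => y n) (fun n => by
          ext x
          suffices e : F.map (homOfLE n.le_succ).op (y (n + 1)) = y n from e.symm
          simp only [F, Functor.comp_map]
          erw [FSch.Sys.levelRing_map_succ]
          exact hy n) }
    exact ⟨hl.lift s PUnit.unit, fun n => ConcreteCategory.congr_hom (hl.fac s (op n)) PUnit.unit⟩

variable (hN : 𝔛.IsLocNoethFormal)

/-- The opens of the levels over an affine open are affine. -/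
theorem isAffineOpen_lvU (k : ℕ) {U : (𝔛.X 0).Opens} (hU : IsAffineOpen U) : IsAffineOpen (𝔛.lvU h k U) := by
  haveI := FSch.Sys.toX_isClosedImmersion 𝔛 h k
  haveI : Surjective (𝔛.toX k) := ⟨FSch.Sys.toX_surjective 𝔛 h k⟩
  let V := 𝔛.lvU h k U
  have hpre : (𝔛.toX k) ⁻¹ᵁ V = U := by
    change (TopologicalSpace.Opens.map ((𝔛.toX k).base ≫ 𝔛.gInv h k)).obj U = U
    rw [FSch.Sys.toX_base_gInv]
    rfl
  haveI : IsAffine ((𝔛.toX k) ⁻¹ᵁ V : (𝔛.X 0).Opens).toScheme := by rw [hpre]; exact hU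
  haveI : Surjective (𝔛.toX k ∣_ V) := IsZariskiLocalAtTarget.restrict ‹_› V
  exact AffThick.isAffine_of_surjective (𝔛.toX k ∣_ V)

theorem ker_appLE {X Y : Scheme.{u}} (f : X ⟶ Y) [QuasiCompact f] (V : Y.affineOpens) (W : X.Opens)
    (e : W ≤ f ⁻¹ᵁ V) (he : f ⁻¹ᵁ V = W) : RingHom.ker (f.appLE V W e).hom = f.ker.ideal V := by
  subst he
  rw [Scheme.Hom.appLE_eq_app, Scheme.Hom.ker_apply]

include hN in
theorem ringSys {U : (𝔛.X 0).Opens} (hU : IsAffineOpen U) :
    Adic.RingSys (fun k => uk h k U) (fun k => vk h k U) (Rg h U) (fun k => pr h k U) := by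
  have haff := fun k => isAffineOpen_lvU h k hU
  haveI : ∀ k, IsClosedImmersion (𝔛.ι k) := fun k => (h k).1
  haveI : ∀ k, IsClosedImmersion (𝔛.toX k) := fun k => FSch.Sys.toX_isClosedImmersion 𝔛 h k
  refine ⟨fun k => ?_, ?_, fun k => ?_, fun k => ?_, ?_, fun k => RingHom.ext (uk_pr h k U),
    (exists_isLimit_Rg h U).1, (exists_isLimit_Rg h U).2⟩
  · have e : (homOfLE (𝔛.lvU_le h k U)).op = eqToHom (congrArg op (𝔛.lvU_succ h k U)) :=
      Subsingleton.elim _ _
    change Function.Surjective ((𝔛.ι k).appLE (𝔛.lvU h (k + 1) U) (𝔛.lvU h k U) (𝔛.lvU_le h k U)).hom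
    rw [Scheme.Hom.appLE, e]
    refine (ConcreteCategory.bijective_of_isIso ((𝔛.X k).presheaf.map _)).surjective.comp ?_
    exact (𝔛.ι k).app_surjective _ (haff (k + 1))
  · change ((𝟙 (𝔛.X 0) : 𝔛.X 0 ⟶ 𝔛.X 0).appLE (𝔛.lvU h 0 U) (𝔛.lvU h 0 U) le_rfl).hom = RingHom.id _
    rw [Scheme.Hom.appLE, Scheme.Hom.id_app]
    exact congrArg CommRingCat.Hom.hom ((Category.id_comp _).trans ((𝔛.X 0).presheaf.map_id _))
  · change ((𝔛.ι k).appLE _ _ _ ≫ (𝔛.toX k).appLE _ _ _).hom = (vk h (k + 1) U)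
    rw [Scheme.Hom.appLE_comp_appLE]
    rfl
  · rw [show RingHom.ker (uk h k U) = _ from
      ker_appLE (𝔛.ι k) ⟨_, haff (k + 1)⟩ _ _ (𝔛.lvU_succ h k U),
      show RingHom.ker (vk h (k + 1) U) = _ from
      ker_appLE (𝔛.toX (k + 1)) ⟨_, haff (k + 1)⟩ _ _ (Adic.RestrictOpen.lvU_toX 𝔛 h U (k + 1)),
      hN.2.1 k, Scheme.IdealSheafData.ideal_pow, Pi.pow_apply]
  · haveI := hN.2.2 1
    haveI : IsNoetherianRing (B h 1 U) := IsLocallyNoetherian.component_noetherian ⟨_, haff 1⟩
    exact IsNoetherian.noetherian _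

/-- The ideal of definition over an open. -/
noncomputable def I (U : (𝔛.X 0).Opens) : Ideal (Rg h U) := RingHom.ker (pr h 0 U)

include hN in
theorem pr_surjective {U : (𝔛.X 0).Opens} (hU : IsAffineOpen U) (k : ℕ) :
    Function.Surjective (pr h k U) :=
  (ringSys h hN hU).surjective_proj k

include hN in
theorem ker_pr {U : (𝔛.X 0).Opens} (hU : IsAffineOpen U) (k : ℕ) :
    RingHom.ker (pr h k U) = I h U ^ (k + 1) :=
  ((ringSys h hN hU).main.2.1 k).2

include hN in
theorem isAdicComplete {U : (𝔛.X 0).Opens} (hU : IsAffineOpen U) : IsAdicComplete (I h U) (Rg h U) :=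
  (ringSys h hN hU).main.1

include hN in
theorem isNoetherianRing {U : (𝔛.X 0).Opens} (hU : IsAffineOpen U) : IsNoetherianRing (Rg h U) := by
  obtain ⟨hc, hp, hfg⟩ := (ringSys h hN hU).main
  haveI := hc
  haveI := hN.2.2 0
  haveI : IsNoetherianRing (B h 0 U) :=
    IsLocallyNoetherian.component_noetherian ⟨_, isAffineOpen_lvU h 0 hU⟩
  haveI := isNoetherianRing_of_ringEquiv _ (RingHom.quotientKerEquivOfSurjective (hp 0).1).symm
  exact RegLoc.AdicNoeth.isNoetherianRing_of_isAdicComplete _ hfg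

include hN in
theorem I_le_jacobson {U : (𝔛.X 0).Opens} (hU : IsAffineOpen U) : I h U ≤ (⊥ : Ideal (Rg h U)).jacobson := by
  haveI := isAdicComplete h hN hU
  exact IsAdicComplete.le_jacobson_bot _

omit hN in
theorem map_ker_vk {V U : (𝔛.X 0).Opens} (hV : IsAffineOpen V) (hU : IsAffineOpen U) (hVU : V ≤ U) (k : ℕ) :
    (RingHom.ker (vk h k U)).map (rsB h k hVU) = RingHom.ker (vk h k V) := by
  haveI := FSch.Sys.toX_isClosedImmersion 𝔛 h k
  rw [show RingHom.ker (vk h k U) = _ from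
      ker_appLE (𝔛.toX k) ⟨_, isAffineOpen_lvU h k hU⟩ _ _ (Adic.RestrictOpen.lvU_toX 𝔛 h U k),
      show RingHom.ker (vk h k V) = _ from
      ker_appLE (𝔛.toX k) ⟨_, isAffineOpen_lvU h k hV⟩ _ _ (Adic.RestrictOpen.lvU_toX 𝔛 h V k)]
  exact Scheme.IdealSheafData.map_ideal (𝔛.toX k).ker (U := ⟨_, isAffineOpen_lvU h k hV⟩)
    (V := ⟨_, isAffineOpen_lvU h k hU⟩) (lvU_mono h k hVU)

include hN in
/-- The ideal of definition restricts to the ideal of definition. -/
theorem map_I {V U : (𝔛.X 0).Opens} (hV : IsAffineOpen V) (hU : IsAffineOpen U) (hVU : V ≤ U) :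
    (I h U).map (rsR h hVU) = I h V := by
  haveI := isNoetherianRing h hN hV
  have hle : (I h U).map (rsR h hVU) ≤ I h V := by
    rw [Ideal.map_le_iff_le_comap]
    intro a ha
    rw [I, Ideal.mem_comap, RingHom.mem_ker, pr_rsR, RingHom.mem_ker.1 ha, map_zero]
  refine le_antisymm hle ?_
  have h1 : I h V ≤ (I h U).map (rsR h hVU) ⊔ I h V • I h V := by
    intro a ha
    have h2 : pr h 1 V a ∈ ((I h U).map (rsR h hVU)).map (pr h 1 V) := by
      rw [Ideal.map_map, show (pr h 1 V).comp (rsR h hVU) = (rsB h 1 hVU).comp (pr h 1 U) from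
        RingHom.ext (pr_rsR h 1 hVU), ← Ideal.map_map, show (I h U).map (pr h 1 U) = _ from
        ((ringSys h hN hU).kerV_eq 1).symm, map_ker_vk h hV hU hVU 1, (ringSys h hN hV).kerV_eq 1]
      exact Ideal.mem_map_of_mem _ ha
    rw [Ideal.mem_map_iff_of_surjective _ (pr_surjective h hN hV 1)] at h2
    obtain ⟨z, hz, e⟩ := h2
    rw [show a = z + (a - z) by ring]
    refine Submodule.add_mem_sup hz ?_
    have h3 : a - z ∈ RingHom.ker (pr h 1 V) := by rw [RingHom.mem_ker, map_sub, e, sub_self]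
    rw [ker_pr h hN hV 1, pow_succ, pow_one] at h3
    rwa [smul_eq_mul]
  exact Submodule.le_of_le_smul_of_le_jacobson_bot (IsNoetherian.noetherian _) (I_le_jacobson h hN hV) h1

include hN in
theorem ker_pr_eq_map {V U : (𝔛.X 0).Opens} (hV : IsAffineOpen V) (hU : IsAffineOpen U) (hVU : V ≤ U)
    (k : ℕ) : RingHom.ker (pr h k V) = (I h U ^ (k + 1)).map (rsR h hVU) := by
  rw [ker_pr h hN hV k, Ideal.map_pow, map_I h hN hV hU hVU]

include hN in
/-- Restriction between affine opens is flat. -/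
theorem flat_rsR {V U : (𝔛.X 0).Opens} (hV : IsAffineOpen V) (hU : IsAffineOpen U) (hVU : V ≤ U) :
    (rsR h hVU).Flat := by
  haveI := isNoetherianRing h hN hV
  haveI := isNoetherianRing h hN hU
  letI := (rsR h hVU).toAlgebra
  refine Adic.Rig.flat_of_forall_quot (R := Rg h U) (S := Rg h V) (I h U) ?_ fun n => ?_
  · rw [RingHom.algebraMap_toAlgebra, map_I h hN hV hU hVU]
    exact I_le_jacobson h hN hV
  · cases n with
    | zero =>
      haveI : Subsingleton (Rg h U ⧸ I h U ^ 0) := Ideal.Quotient.subsingleton_iff.2 (by simp)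
      haveI : Subsingleton (Rg h V ⧸ (I h U ^ 0).map (algebraMap (Rg h U) (Rg h V))) :=
        Ideal.Quotient.subsingleton_iff.2 (by simp [Ideal.map_top])
      exact RingHom.Flat.of_bijective ⟨fun _ _ _ => Subsingleton.elim _ _, fun _ => ⟨0, Subsingleton.elim _ _⟩⟩
    | succ k =>
      let eU : (Rg h U ⧸ I h U ^ (k + 1)) ≃+* B h k U :=
        (Ideal.quotEquivOfEq (ker_pr h hN hU k).symm).trans
          (RingHom.quotientKerEquivOfSurjective (pr_surjective h hN hU k))
      let eV : (Rg h V ⧸ (I h U ^ (k + 1)).map (algebraMap (Rg h U) (Rg h V))) ≃+* B h k V :=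
        (Ideal.quotEquivOfEq (ker_pr_eq_map h hN hV hU hVU k).symm).trans
          (RingHom.quotientKerEquivOfSurjective (pr_surjective h hN hV k))
      have hfl : (rsB h k hVU).Flat := by
        have := Scheme.Hom.flat_appLE (𝟙 (𝔛.X k)) (isAffineOpen_lvU h k hU) (isAffineOpen_lvU h k hV)
          (lvU_mono h k hVU)
        rw [Scheme.Hom.appLE, Scheme.Hom.id_app] at this
        exact this
      have he : Ideal.quotientMap ((I h U ^ (k + 1)).map (algebraMap (Rg h U) (Rg h V)))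
          (algebraMap (Rg h U) (Rg h V)) Ideal.le_comap_map =
          (eV.symm.toRingHom.comp (rsB h k hVU)).comp eU.toRingHom := by
        refine Ideal.Quotient.ringHom_ext (RingHom.ext fun a => eV.injective ?_)
        simp only [RingHom.comp_apply, RingEquiv.toRingHom_eq_coe, RingEquiv.coe_toRingHom,
          RingEquiv.apply_symm_apply, Ideal.quotientMap_mk]
        exact pr_rsR h k hVU a
      rw [he]
      exact (RingHom.Flat.of_bijective eU.bijective).comp
        (hfl.comp (RingHom.Flat.of_bijective eV.symm.bijective))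

end Groth.Agent.FFormal
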