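import Groth.Agent.FFormal.Coh
import Groth.Agent.FFormal.Affine
import Groth.Agent.FFormal.Pull
import Mathlib.Algebra.Category.ModuleCat.Sheaf.Limits

/-!
# Sections of the module attached to a system of coherent modules on the levels
-/

set_option autoImplicit false
set_option linter.style.haveILetI false
set_option linter.dupNamespace false

universe u

open CategoryTheory CategoryTheory.Limits AlgebraicGeometry Opposite TopologicalSpace ModSite

namespace Groth.Agent.FFormal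

open Groth.Agent.QCoh (res rres res_res res_smul)
open Groth.Agent.ModFlat (rs map_val_smul map_val_comp)
open Groth.Agent.PullFlat (appS appS_res appS_comp etaS)
open Groth.Agent.LocPres

variable {𝔛 : FSch.Sys.{u}} (h : 𝔛.IsFormal) (𝔐 : FSch.ModSys 𝔛)

/-- Sections of the `k`-th module over an open of the common space. -/
noncomputable abbrev WS (k : ℕ) (U : (𝔛.X 0).Opens) : Type u := Γ(𝔐.F k, 𝔛.lvU h k U)

/-- The projection of sections of the limit to a level. -/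
noncomputable def prj (k : ℕ) (U : (𝔛.X 0).Opens) : sect (𝔐.realMod h) U →+ WS h 𝔐 k U :=
  ((FSch.realProj 𝔛 h 𝔐.F 𝔐.toPush k).val.app (op U)).hom.toAddMonoidHom

theorem prj_smul (k : ℕ) (U : (𝔛.X 0).Opens) (a : Rg h U) (x : sect (𝔐.realMod h) U) :
    prj h 𝔐 k U (a • x) = pr h k U a • prj h 𝔐 k U x :=
  map_smul ((FSch.realProj 𝔛 h 𝔐.F 𝔐.toPush k).val.app (op U)).hom a x

theorem prj_rs (k : ℕ) {V U : (𝔛.X 0).Opens} (hVU : V ≤ U) (x : sect (𝔐.realMod h) U) :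
    prj h 𝔐 k V (rs (𝔐.realMod h) (homOfLE hVU) x) = res (𝔐.F k) (lvU_mono h k hVU) (prj h 𝔐 k U x) :=
  appS_res (FSch.realProj 𝔛 h 𝔐.F 𝔐.toPush k) (homOfLE hVU) x

/-- The transition map on sections. -/
noncomputable def tr (k : ℕ) (U : (𝔛.X 0).Opens) : WS h 𝔐 (k + 1) U →+ WS h 𝔐 k U :=
  (res (𝔐.F k) (𝔛.lvU_le h k U)).hom.comp ((𝔐.toPush k).app (𝔛.lvU h (k + 1) U)).hom

theorem tr_eq (k : ℕ) (U : (𝔛.X 0).Opens) (x : WS h 𝔐 (k + 1) U) :
    ((FSch.levelMor 𝔛 h (k + 1)).push.map (𝔐.toPush k) ≫ (FSch.pushCompare 𝔛 h k).app (𝔐.F k)).val.app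
      (op U) x = tr h 𝔐 k U x := rfl

theorem tr_prj (k : ℕ) (U : (𝔛.X 0).Opens) (x : sect (𝔐.realMod h) U) :
    tr h 𝔐 k U (prj h 𝔐 (k + 1) U x) = prj h 𝔐 k U x :=
  congrArg (fun φ => φ.val.app (op U) x) (FSch.realProj_map 𝔛 h 𝔐.F 𝔐.toPush k)

theorem tr_smul (k : ℕ) (U : (𝔛.X 0).Opens) (b : B h (k + 1) U) (x : WS h 𝔐 (k + 1) U) :
    tr h 𝔐 k U (b • x) = uk h k U b • tr h 𝔐 k U x := by
  refine (congrArg (res (𝔐.F k) (𝔛.lvU_le h k U)).hom
    (Scheme.Modules.Hom.app_smul (𝔐.toPush k) b x)).trans ?_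
  exact res_smul (𝔐.F k) (𝔛.lvU_le h k U) ((𝔛.ι k).app _ b) _

theorem exists_isLimit_realMod (U : (𝔛.X 0).Opens) :
    (∀ x : sect (𝔐.realMod h) U, (∀ k, prj h 𝔐 k U x = 0) → x = 0) ∧
      ∀ y : (∀ k, WS h 𝔐 k U), (∀ k, tr h 𝔐 k U (y (k + 1)) = y k) →
        ∃ x : sect (𝔐.realMod h) U, ∀ k, prj h 𝔐 k U x = y k := by
  let G : FSch.ModF 𝔛 h ⥤ Type u :=
    SheafOfModules.forget _ ⋙ PresheafOfModules.evaluation _ (op U) ⋙ CategoryTheory.forget _
  have hl : IsLimit (G.mapCone (limit.cone (FSch.levelSysOf 𝔛 h 𝔐.F 𝔐.toPush))) :=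
    isLimitOfPreserves _ (limit.isLimit _)
  constructor
  · intro x hx
    refine ((Types.isLimitEquivSections hl).injective (Subtype.ext (funext fun j => ?_)))
    obtain ⟨n⟩ := j
    exact (hx n).trans (map_zero (prj h 𝔐 n U)).symm
  · intro y hy
    let F := FSch.levelSysOf 𝔛 h 𝔐.F 𝔐.toPush ⋙ G
    let s : Cone F :=
      { pt := PUnit.{u + 1}
        π := NatTrans.ofOpSequence (fun n => ↾fun _ => (y n : F.obj (op n))) (fun n => by
          ext x
          suffices e : F.map (homOfLE n.le_succ).op (y (n + 1)) = y n from e.symm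
          simp only [F, Functor.comp_map]
          erw [FSch.levelSysOf_map_succ]
          exact hy n) }
    exact ⟨hl.lift s PUnit.unit, fun n => ConcreteCategory.congr_hom (hl.fac s (op n)) PUnit.unit⟩

theorem sheafToPush_app (k : ℕ) (W : (𝔛.X (k + 1)).Opens) (x : Γ(𝔐.F (k + 1), W)) :
    (𝔐.toPush k).app W x = (𝔐.e k).hom.app ((𝔛.ι k) ⁻¹ᵁ W)
      (((Scheme.Modules.pullbackPushforwardAdjunction (𝔛.ι k)).unit.app (𝔐.F (k + 1))).app W x) := by
  rw [FSch.ModSys.toPush, Adjunction.homEquiv_unit]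
  rfl

/-- A presentation on a level induces one on the previous level. -/
theorem presOn_tr (k : ℕ) [(𝔐.F (k + 1)).IsQuasicoherent] [(𝔐.F k).IsQuasicoherent] {U : (𝔛.X 0).Opens}
    (hU : IsAffineOpen U) {n m : ℕ} {s : Fin n → WS h 𝔐 (k + 1) U} {r : Fin m → Fin n → B h (k + 1) U}
    (P : PresOn (𝔐.F (k + 1)) (𝔛.lvU h (k + 1) U) s r) :
    PresOn (𝔐.F k) (𝔛.lvU h k U) (fun i => tr h 𝔐 k U (s i)) (fun j i => uk h k U (r j i)) := by
  obtain ⟨hrel, hgen, hrelgen⟩ := P.exists_locPres (isAffineOpen_lvU h (k + 1) hU)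
  let L : LocPres (O := (𝔛.X (k + 1)).sheaf) (𝔐.F (k + 1)) (𝔛.lvU h (k + 1) U) :=
    { n := n, m := m, s := s, r := r, rel := hrel, gen := hgen, relgen := hrelgen }
  let b : 𝔛.lvU h k U ⟶ (RMor.ofScheme (𝔛.ι k)).fn.obj (𝔛.lvU h (k + 1) U) := homOfLE (𝔛.lvU_le h k U)
  let Q := pullPres (RMor.ofScheme (𝔛.ι k)) L b
  let e : (RMor.ofScheme (𝔛.ι k)).pull.obj (𝔐.F (k + 1)) ≅ (𝔐.F k : Mod (𝔛.X k).sheaf) := 𝔐.e k
  have hs : ∀ i, tr h 𝔐 k U (s i) = appS e.hom (𝔛.lvU h k U) (Q.s i) := fun i => by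
    show res (𝔐.F k) (𝔛.lvU_le h k U) ((𝔐.toPush k).app _ (s i)) = _
    rw [sheafToPush_app]
    exact (appS_res e.hom b _).symm
  refine presOn_of_local (𝔐.F k) (isAffineOpen_lvU h k hU) _ _ (fun j => ?_) (fun x y hy => ?_)
    (fun c hc y hy => ?_)
  · refine Eq.trans ?_ ((congrArg (tr h 𝔐 k U) (P.rel j)).trans (map_zero _))
    rw [map_sum]
    exact Finset.sum_congr rfl fun i _ => (tr_smul h 𝔐 k U _ _).symm
  · obtain ⟨S, hS, hS'⟩ := Q.gen (𝟙 _) (appS e.inv _ x)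
    obtain ⟨W, g, hg, hyW⟩ := hS y hy
    obtain ⟨c, hc⟩ := hS' g hg
    refine ⟨W, g.le, hyW, c, ?_⟩
    have h1 := congrArg (appS e.hom W) hc
    rw [appS_sum_smul, appS_res, ← appS_comp, e.inv_hom_id] at h1
    simp only [appS_res, Category.comp_id] at h1
    refine Eq.trans ?_ h1
    refine Finset.sum_congr rfl fun i _ => ?_
    rw [hs i]
    rfl
  · have h1 : ∑ i, c i • rs ((RMor.ofScheme (𝔛.ι k)).pull.obj (𝔐.F (k + 1))) (𝟙 _) (Q.s i) = 0 := by
      apply Groth.Agent.PullFlat.appS_injective e.hom (𝔛.lvU h k U)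
      rw [map_zero]
      refine (map_sum _ _ _).trans (Eq.trans ?_ hc)
      refine Finset.sum_congr rfl fun i _ => ?_
      rw [Groth.Agent.PullFlat.rs_id, map_smul, hs]
      rfl
    obtain ⟨S, hS, hS'⟩ := Q.relgen (𝟙 _) c h1
    obtain ⟨W, g, hg, hyW⟩ := hS y hy
    obtain ⟨d, hd⟩ := hS' g hg
    refine ⟨W, g.le, hyW, d, fun i => ?_⟩
    refine (hd i).trans (Finset.sum_congr rfl fun j _ => congrArg (d j * ·) ?_)
    rw [Category.comp_id]
    rfl

end Groth.Agent.FFormal
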